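import Cfsg.Agent.Lib.Ext32.Fuse

/-!
# The action of the element of order three on the centraliser of the four-group
-/

set_option autoImplicit false
set_option linter.unusedSectionVars false
set_option maxRecDepth 100000
set_option maxHeartbeats 2000000

namespace CfsgLib.Ext32

open CfsgLib.U42 (conj_comm)

universe u

/-- The square condition on the image of a generator. -/
def sqOk (k i p : ℕ) : Bool :=
  mulN k p p == bif mulN k ((gR k).getD i 0) ((gR k).getD i 0) == tN then vN else 0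

/-- The conditions on the images of the generators. -/
abbrev ExtOk (k : ℕ) (ps : List Nat) : Prop :=
  extN k ps tN = vN ∧ extN k ps vN = tvN k ∧
  (∀ i ∈ List.range 3, ∀ m ∈ rl k,
    extN k ps (mulN k m ((gR k).getD i 0)) = mulN k (extN k ps m) (ps.getD i 0)) ∧
  (∀ m ∈ rl k, extN k ps (extN k ps (extN k ps m)) = m)

theorem gR_sq : ∀ k ∈ List.range 4, ∀ i ∈ List.range 3,
    mulN k ((gR k).getD i 0) ((gR k).getD i 0) = 0 ∨
    mulN k ((gR k).getD i 0) ((gR k).getD i 0) = tN := by decide +kernel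

theorem ext_dic : ∀ k ∈ [1, 3], ∀ p ∈ rl k, sqOk k 0 p → ∀ q ∈ rl k, sqOk k 1 q →
    ∀ r ∈ rl k, sqOk k 2 r → ¬ ExtOk k [p, q, r] := by decide +kernel

theorem ext_cases : ∀ p ∈ rl 2, sqOk 2 0 p → ∀ q ∈ rl 2, sqOk 2 1 q →
    ∀ r ∈ rl 2, sqOk 2 2 r → ExtOk 2 [p, q, r] →
    ∃ F ∈ cands, ∀ m ∈ rl 2, appN F m = extN 2 [p, q, r] m := by decide +kernel

theorem cands_rl : ∀ F ∈ cands, ∀ m ∈ rl 2, appN F m ∈ rl 2 := by decide +kernel

namespace Cen

variable {k : ℕ} {G : Type u} [Group G] [Finite G] {t : G} (D : Cen k t)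
variable {h : G} (hh : D.Std0 h)
include hh

theorem Std0.htv : h * D.val (tvN k) * h⁻¹ = t := by
  have e3 : ∀ y, h * (h * (h * y * h⁻¹) * h⁻¹) * h⁻¹ = h ^ 3 * y * (h ^ 3)⁻¹ := fun y => by
    simp [pow_succ, mul_assoc]
  have := e3 t
  rw [hh.ht, hh.hx, hh.h3] at this
  rw [this]
  group

theorem Std0.image {m : ℕ} (hm : m ∈ rl k) : ∃ n ∈ rl k, D.val n = h * D.val m * h⁻¹ := by
  obtain ⟨h1, h2⟩ := D.rl_comm hm
  have h3 : D.val m * D.val (tvN k) = D.val (tvN k) * D.val m := by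
    rw [D.val_tv]
    exact ((show Commute (D.val m) t from h1).mul_right h2).eq
  refine D.mem_rl ?_ ?_
  · have := conj_comm (h := h) h3
    rwa [hh.htv D] at this
  · have := conj_comm (h := h) h1
    rwa [hh.ht] at this

/-- The conjugation on the centralizer of the four-group through the images of generators. -/
theorem Std0.exists_ext : ∃ p q r, p ∈ rl k ∧ q ∈ rl k ∧ r ∈ rl k ∧ sqOk k 0 p ∧ sqOk k 1 q ∧
    sqOk k 2 r ∧ ExtOk k [p, q, r] ∧ ∀ m ∈ rl k, h * D.val m * h⁻¹ = D.val (extN k [p, q, r] m) := by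
  choose f hf hfv using fun m (hm : m ∈ rl k) => hh.image D hm
  obtain ⟨-, -, ht, hv, -, -, -, -, hg, hw⟩ := rl_facts k D.hkr
  set p := f _ (hg 0 (by simp)) with hp
  set q := f _ (hg 1 (by simp)) with hq
  set r := f _ (hg 2 (by simp)) with hr
  set ps := [p, q, r] with hps
  have hgen : ∀ i, i < 3 → ps.getD i 0 ∈ rl k ∧
      D.val (ps.getD i 0) = h * D.val ((gR k).getD i 0) * h⁻¹ := by
    intro i hi
    interval_cases i
    exacts [⟨hf _ _, hfv _ (hg 0 (by simp))⟩, ⟨hf _ _, hfv _ (hg 1 (by simp))⟩,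
      ⟨hf _ _, hfv _ (hg 2 (by simp))⟩]
  have hfold : ∀ (l : List ℕ), (∀ i ∈ l, i < 3) → ∀ a b, a ∈ rl k → b ∈ rl k →
      D.val b = h * D.val a * h⁻¹ →
      l.foldl (fun a i => mulN k a (ps.getD i 0)) b ∈ rl k ∧
      D.val (l.foldl (fun a i => mulN k a (ps.getD i 0)) b) =
        h * D.val (l.foldl (fun a i => mulN k a ((gR k).getD i 0)) a) * h⁻¹ := by
    intro l
    induction l with
    | nil => intro _ a b _ hb e; exact ⟨hb, e⟩
    | cons i l ih =>
      intro hl a b ha hb e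
      obtain ⟨g1, g2⟩ := hgen i (hl i (List.mem_cons_self ..))
      have g0 := hg i (List.mem_range.2 (hl i (List.mem_cons_self ..)))
      refine ih (fun j hj => hl j (List.mem_cons_of_mem _ hj)) _ _
        (D.hR.2.2.2 a ha _ g0) (D.hR.2.2.2 b hb _ g1) ?_
      rw [D.val_mul _ _ (D.rl_lt hb) (D.rl_lt g1), e, g2, D.val_mul _ _ (D.rl_lt ha) (D.rl_lt g0)]
      group
  have hext : ∀ m ∈ rl k, extN k ps m ∈ rl k ∧ D.val (extN k ps m) = h * D.val m * h⁻¹ := by
    intro m hm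
    obtain ⟨e1, e2⟩ := hw m hm
    have := hfold _ e2 0 0 D.hR.2.1 D.hR.2.1 (by rw [D.val_zero]; group)
    rw [show (wR k m).foldl (fun a i => mulN k a ((gR k).getD i 0)) 0 = m from e1] at this
    exact this
  have hinj : ∀ a b, a ∈ rl k → b ∈ rl k → D.val a = D.val b → a = b :=
    fun a b ha hb => D.val_inj a b (D.rl_lt ha) (D.rl_lt hb)
  have hsq : ∀ i, i < 3 → sqOk k i (ps.getD i 0) = true := fun i hi => by
    obtain ⟨g1, g2⟩ := hgen i hi
    have g0 := hg i (List.mem_range.2 hi)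
    have e : D.val (mulN k (ps.getD i 0) (ps.getD i 0)) =
        h * D.val (mulN k ((gR k).getD i 0) ((gR k).getD i 0)) * h⁻¹ := by
      rw [D.val_mul _ _ (D.rl_lt g1) (D.rl_lt g1), g2, D.val_mul _ _ (D.rl_lt g0) (D.rl_lt g0)]
      group
    rw [sqOk, beq_iff_eq]
    refine D.val_inj _ _ (mulN_lt ..) ?_ ?_
    · rcases gR_sq k D.hkr i (List.mem_range.2 hi) with h' | h' <;> rw [h'] <;> simp [vN, tN]
    · rcases gR_sq k D.hkr i (List.mem_range.2 hi) with h' | h' <;> rw [h'] at e ⊢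
      · rw [e, D.val_zero, mul_one, mul_inv_cancel, show ((0 : ℕ) == tN) = false from rfl]
        exact D.val_zero.symm
      · rw [e, D.val_tau, hh.ht, show (tN == tN) = true from rfl]; rfl
  refine ⟨p, q, r, hf _ _, hf _ _, hf _ _, hsq 0 (by norm_num), hsq 1 (by norm_num),
    hsq 2 (by norm_num), ⟨?_, ?_, ?_, ?_⟩, fun m hm => (hext m hm).2.symm⟩
  · refine hinj _ _ (hext _ ht).1 hv ?_
    rw [(hext _ ht).2, D.val_tau]; exact hh.ht
  · refine hinj _ _ (hext _ hv).1 (rl_facts k D.hkr).2.2.2.2.1 ?_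
    rw [(hext _ hv).2]; exact hh.hx
  · intro i hi m hm
    have hi' := List.mem_range.1 hi
    obtain ⟨g1, g2⟩ := hgen i hi'
    have g0 := hg i hi
    have hmk := D.hR.2.2.2 m hm _ g0
    refine hinj _ _ (hext _ hmk).1 (D.hR.2.2.2 _ (hext _ hm).1 _ g1) ?_
    rw [(hext _ hmk).2, D.val_mul _ _ (D.rl_lt (hext _ hm).1) (D.rl_lt g1), (hext _ hm).2, g2,
      D.val_mul _ _ (D.rl_lt hm) (D.rl_lt g0)]
    group
  · intro m hm
    have h1 := (hext _ hm).1
    have h2 := (hext _ h1).1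
    refine hinj _ _ (hext _ h2).1 hm ?_
    rw [(hext _ h2).2, (hext _ h1).2, (hext _ hm).2]
    have : h * (h * (h * D.val m * h⁻¹) * h⁻¹) * h⁻¹ = h ^ 3 * D.val m * (h ^ 3)⁻¹ := by
      simp [pow_succ, mul_assoc]
    rw [this, hh.h3]
    group

omit hh

/-- The two types with a generalised quaternion quotient do not occur. -/
theorem dic_false (hk : k = 1 ∨ k = 3) (hx : IsConj t (D.val vN)) : False := by
  obtain ⟨h, hh⟩ := D.exists_std0 hx
  obtain ⟨p, q, r, hp, hq, hr, a, b, c, he, -⟩ := hh.exists_ext D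
  exact ext_dic k (by rcases hk with rfl | rfl <;> simp) p hp a q hq b r hr c he

end Cen

/-- The action of the element of order three is one of the candidates. -/
theorem Cen.Std0.exists_act {G : Type u} [Group G] [Finite G] {t : G} {D : Cen 2 t} {h : G}
    (hh : D.Std0 h) : ∃ F ∈ cands, ∀ m ∈ rl 2, h * D.val m * h⁻¹ = D.val (appN F m) := by
  obtain ⟨p, q, r, hp, hq, hr, a, b, c, he, hv⟩ := hh.exists_ext D
  obtain ⟨F, hF, hFe⟩ := ext_cases p hp a q hq b r hr c he
  exact ⟨F, hF, fun m hm => by rw [hv m hm, hFe m hm]⟩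

end CfsgLib.Ext32
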