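import Cfsg.Agent.Lib.Ext32.Setup

/-!
# The involution `t` is fused with one of `Q`, and an element of order three cycles them
-/

set_option autoImplicit false
set_option linter.unusedSectionVars false
set_option linter.style.haveILetI false
set_option maxRecDepth 100000
set_option maxHeartbeats 2000000

namespace CfsgLib.Ext32

open CfsgLib.U42 (conj_comm)

universe u

/-- the centraliser of `30` -/
def rl (k : ℕ) : List Nat := rlT.getD k []

/-- its generators -/
def gR (k : ℕ) : List Nat := gRT.getD k []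

/-- the word of an element of the centraliser of `30` -/
def wR (k m : ℕ) : List Nat :=
  ((((wRT.getD k []).find? fun e => e.1 == m)).map Prod.snd).getD []

/-- The extension of images of the generators. -/
def extN (k : ℕ) (ps : List Nat) (m : ℕ) : ℕ :=
  (wR k m).foldl (fun a i => mulN k a (ps.getD i 0)) 0

theorem rl_facts : ∀ k ∈ List.range 4, IsSub k (rl k) ∧ (rl k).length = 32 ∧ tN ∈ rl k ∧
    vN ∈ rl k ∧ tvN k ∈ rl k ∧ (∀ m ∈ els, (mulN k m vN = mulN k vN m ↔ m ∈ rl k)) ∧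
    (∀ a ∈ rl k, powN k a 64 = 0) ∧ (gR k).length = 3 ∧ (∀ i ∈ List.range 3, (gR k).getD i 0 ∈ rl k) ∧
    (∀ m ∈ rl k, extN k (gR k) m = m ∧ ∀ i ∈ wR k m, i < 3) := by decide +kernel

theorem tv_facts : ∀ k ∈ List.range 4, tvN k < 192 ∧ mulN k vN vN = 0 ∧
    mulN k (tvN k) (tvN k) = 0 ∧ mulN k (tvN k) vN = tN ∧ mulN k vN (tvN k) = tN ∧
    ∃ n ∈ els, cjN k n vN = tvN k := by decide +kernel

/-- the order of the centraliser in the model -/
def centLen (k m : Nat) : Nat := (els.filter fun n => mulN k n m == mulN k m n).length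

theorem six_facts : ∀ k ∈ List.range 4, ∀ p ∈ clsL k, centLen k p.1 = 32 →
    ∀ m ∈ p.2, ∃ n ∈ els, cjN k n m = mulN k tN m := by decide +kernel

theorem centLen_class : ∀ k ∈ List.range 4, centLen k vN = 32 ∧
    ∀ p ∈ clsL k, ∀ m ∈ p.2, centLen k m = centLen k p.1 := by decide +kernel

theorem twelve_facts : ∀ k ∈ List.range 2, ∀ p ∈ clsL k, p.1 = 36 →
    ∀ a ∈ els, mulN k a p.1 = mulN k p.1 a → mulN k a a = 0 ∨ mulN k a a = tN := by decide +kernel

namespace Cen

variable {k : ℕ} {G : Type u} [Group G] [Finite G] {t : G} (D : Cen k t)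
include D

theorem hR : IsSub k (rl k) := (rl_facts k D.hkr).1

theorem rl_lt {m : ℕ} (hm : m ∈ rl k) : m < 192 := (D.hR.2.2.1 m hm).1

theorem v_lt : vN < 192 := by norm_num [vN]

theorem t_lt : tN < 192 := by norm_num [tN]

theorem tv_lt : tvN k < 192 := (tv_facts k D.hkr).1

theorem val_tv : D.val (tvN k) = t * D.val vN := by
  rw [tvN, D.val_mul _ _ D.t_lt D.v_lt, D.val_tau]

theorem v_comm : D.val vN * t = t * D.val vN := D.val_comm _ D.v_lt

theorem vv : D.val vN * D.val vN = 1 := by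
  rw [← D.val_mul _ _ D.v_lt D.v_lt, (tv_facts k D.hkr).2.1, D.val_zero]

theorem rl_comm {m : ℕ} (hm : m ∈ rl k) : D.val m * t = t * D.val m ∧
    D.val m * D.val vN = D.val vN * D.val m :=
  ⟨D.val_comm m (D.rl_lt hm), D.val_commute (D.rl_lt hm) D.v_lt
    (((rl_facts k D.hkr).2.2.2.2.2.1 m (mem_els (D.rl_lt hm))).2 hm)⟩

theorem mem_rl {g : G} (h1 : g * t = t * g) (h2 : g * D.val vN = D.val vN * g) :
    ∃ m ∈ rl k, D.val m = g := by
  obtain ⟨m, hm, rfl⟩ := D.val_surj g h1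
  exact ⟨m, ((rl_facts k D.hkr).2.2.2.2.2.1 m (mem_els hm)).1 (D.mul_val_eq hm D.v_lt h2), rfl⟩

theorem count_cent {n : ℕ} (hn : n < 192) :
    Nat.card {a : G // a * t = t * a ∧ a * D.val n = D.val n * a} = centLen k n := by
  rw [centLen, ← D.card_image (l := els.filter fun a => mulN k a n == mulN k n a)
    (fun a ha => els_lt (List.mem_filter.1 ha).1) (List.nodup_range.filter _)]
  refine Nat.card_congr (Equiv.subtypeEquivRight fun a => ⟨fun ⟨h1, h2⟩ => ?_, ?_⟩)
  · obtain ⟨j, hj, rfl⟩ := D.val_surj a h1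
    exact ⟨j, List.mem_filter.2 ⟨mem_els hj, by simp [D.mul_val_eq hj hn h2]⟩, rfl⟩
  · rintro ⟨j, hj, rfl⟩
    obtain ⟨h1, h2⟩ := List.mem_filter.1 hj
    exact ⟨D.val_comm j (els_lt h1), D.val_commute (els_lt h1) hn (by simpa using h2)⟩

/-- Exchanging `t` and a conjugate preserves the order of the common centraliser. -/
theorem centLen_swap {g : G} {a m : ℕ} (ha : a < 192) (hm : m < 192)
    (hg : g * D.val a * g⁻¹ = t) (hmv : D.val m = g * t * g⁻¹) : centLen k m = centLen k a := by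
  have e : {x : G // x * t = t * x ∧ x * D.val a = D.val a * x} ≃
      {x : G // x * t = t * x ∧ x * D.val m = D.val m * x} :=
    { toFun := fun x => ⟨g * x.1 * g⁻¹, by
        refine ⟨?_, ?_⟩
        · have := conj_comm (h := g) x.2.2; rwa [hg] at this
        · have := conj_comm (h := g) x.2.1; rwa [← hmv] at this⟩
      invFun := fun x => ⟨g⁻¹ * x.1 * g⁻¹⁻¹, by
        refine ⟨?_, ?_⟩
        · have := conj_comm (h := g⁻¹) x.2.2
          have e : g⁻¹ * D.val m * g⁻¹⁻¹ = t := by rw [hmv]; group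
          rwa [e] at this
        · have := conj_comm (h := g⁻¹) x.2.1
          have e : g⁻¹ * t * g⁻¹⁻¹ = D.val a :=
            (congrArg (fun y => g⁻¹ * y * g⁻¹⁻¹) hg).symm.trans (by group)
          rwa [e] at this⟩
      left_inv := fun x => Subtype.ext (by group)
      right_inv := fun x => Subtype.ext (by group) }
  rw [← D.count_cent hm, ← Nat.card_congr e, D.count_cent ha]

/-- The element of order three acting on the four-group. -/
structure Std0 (h : G) : Prop where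
  h3 : h ^ 3 = 1
  ht : h * t * h⁻¹ = D.val vN
  hx : h * D.val vN * h⁻¹ = D.val (tvN k)

theorem conj_ord {g : G} : orderOf (g * t * g⁻¹) = 2 :=
  ((MulAut.conj g).orderOf_eq t).trans D.ord

/-- A three-cycle gives an element of order three with the same action. -/
theorem std_of_cycle {h₀ : G} (a1 : h₀ * t * h₀⁻¹ = D.val vN)
    (a2 : h₀ * D.val vN * h₀⁻¹ = D.val (tvN k)) : ∃ h, D.Std0 h := by
  set c := MulAut.conj h₀ with hc
  have c1 : c t = D.val vN := a1
  have c2 : c (D.val vN) = D.val (tvN k) := a2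
  have c3 : c (D.val (tvN k)) = t := by
    rw [D.val_tv, map_mul, c1, c2, D.val_tv, ← mul_assoc, D.v_comm, mul_assoc, D.vv, mul_one]
  have e3 : ∀ y, h₀ ^ 3 * y * (h₀ ^ 3)⁻¹ = c (c (c y)) := fun y => by
    simp only [hc, MulAut.conj_apply, pow_succ, pow_zero, one_mul]
    group
  obtain ⟨m, hm, hmv⟩ := D.mem_rl (g := h₀ ^ 3) (mul_inv_eq_iff_eq_mul.1 (by rw [e3, c1, c2, c3]))
    (mul_inv_eq_iff_eq_mul.1 (by rw [e3, c2, c3, c1]))
  have hml := D.rl_lt hm
  obtain ⟨f1, f2⟩ := D.rl_comm hm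
  have h3 : (h₀ ^ 3) ^ 64 = 1 := by
    rw [← hmv, ← D.val_pow hml, (rl_facts k D.hkr).2.2.2.2.2.2.1 m hm, D.val_zero]
  have e64 : ∀ y, D.val m * y = y * D.val m → h₀ ^ 64 * y * (h₀ ^ 64)⁻¹ = c y := fun y hy => by
    rw [show h₀ ^ 64 = h₀ * (h₀ ^ 3) ^ 21 by rw [← pow_mul, ← pow_succ'], ← hmv, hc,
      MulAut.conj_apply, show h₀ * D.val m ^ 21 * y * (h₀ * D.val m ^ 21)⁻¹ =
        h₀ * (D.val m ^ 21 * y * (D.val m ^ 21)⁻¹) * h₀⁻¹ by group,
      ((show Commute (D.val m) y from hy).pow_left 21).eq, mul_inv_cancel_right]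
  exact ⟨h₀ ^ 64, by rw [← pow_mul, mul_comm, pow_mul, h3], by rw [e64 t f1, c1],
    by rw [e64 _ f2, c2]⟩

/-- An element permuting `t`, `v`, `t v` cyclically. -/
theorem exists_std0 (hx : IsConj t (D.val vN)) : ∃ h, D.Std0 h := by
  obtain ⟨g, hg⟩ := isConj_iff.1 hx.symm
  obtain ⟨m, hm, hmv, p, hp, hmp⟩ := D.invol_val (u := g * t * g⁻¹) D.conj_ord (by
    have := conj_comm (h := g) D.v_comm
    rw [hg] at this
    exact this.symm)
  have hcl : centLen k p.1 = 32 := by
    rw [← (centLen_class k D.hkr).2 p hp m hmp, D.centLen_swap D.v_lt hm hg hmv,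
      (centLen_class k D.hkr).1]
  obtain ⟨n, hn, hnm⟩ := six_facts k D.hkr p hp hcl m hmp
  have hn' := els_lt hn
  set a := g⁻¹ * D.val n * g with ha
  have a1 : a * t * a⁻¹ = D.val (tvN k) := by
    calc a * t * a⁻¹ = g⁻¹ * (D.val n * (g * t * g⁻¹) * (D.val n)⁻¹) * g := by rw [ha]; group
      _ = g⁻¹ * D.val (cjN k n m) * g := by rw [← hmv, D.val_cj hn' hm]
      _ = g⁻¹ * (g * D.val vN * g⁻¹ * (g * t * g⁻¹)) * g := by
        rw [hnm, D.val_mul _ _ D.t_lt hm, D.val_tau, hg, hmv]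
      _ = D.val vN * t := by group
      _ = _ := by rw [D.val_tv, D.v_comm]
  have a2 : a * D.val vN * a⁻¹ = D.val vN := by
    calc a * D.val vN * a⁻¹ = g⁻¹ * (D.val n * (g * D.val vN * g⁻¹) * (D.val n)⁻¹) * g := by
          rw [ha]; group
      _ = g⁻¹ * t * g := by rw [hg, D.val_comm n hn', mul_inv_cancel_right]
      _ = _ := (congrArg (fun y => g⁻¹ * y * g) hg).symm.trans (by group)
  obtain ⟨-, -, -, -, -, b, hb, hbv⟩ := tv_facts k D.hkr
  have hb' := els_lt hb
  set s := D.val b with hs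
  have s1 : s * t * s⁻¹ = t := by rw [hs, D.val_comm b hb', mul_inv_cancel_right]
  have s2 : s * D.val vN * s⁻¹ = D.val (tvN k) := by rw [hs, ← D.val_cj hb' D.v_lt, hbv]
  have s3 : s * D.val (tvN k) * s⁻¹ = D.val vN := by
    rw [D.val_tv, show s * (t * D.val vN) * s⁻¹ = s * t * s⁻¹ * (s * D.val vN * s⁻¹) by group,
      s1, s2, D.val_tv, ← mul_assoc, D.tt, one_mul]
  refine D.std_of_cycle (h₀ := s * a) ?_ ?_
  · rw [show s * a * t * (s * a)⁻¹ = s * (a * t * a⁻¹) * s⁻¹ by group, a1, s3]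
  · rw [show s * a * D.val vN * (s * a)⁻¹ = s * (a * D.val vN * a⁻¹) * s⁻¹ by group, a2, s2]

/-- In the first two types `t` is not fused with the large class of `Q`. -/
theorem not_twelve (hk2 : k < 2) {p : Nat × List Nat} (hp : p ∈ clsL k) (hp36 : p.1 = 36) :
    ¬ IsConj t (D.val p.1) := by
  intro hc
  haveI : Fact (Nat.Prime 2) := ⟨Nat.prime_two⟩
  obtain ⟨g, hg⟩ := isConj_iff.1 hc
  have hp1 := (class_lt k D.hkr p hp).1
  set K := Subgroup.centralizer ({D.val p.1} : Set G) with hK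
  set l := els.filter fun a => mulN k a p.1 == mulN k p.1 a with hl
  have hls : IsSub k l ∧ l.length = 16 ∧ ∃ a ∈ l, mulN k a a = tN := by
    have : ∀ j ∈ List.range 2, ∀ q ∈ clsL j, q.1 = 36 →
        IsSub j (els.filter fun a => mulN j a q.1 == mulN j q.1 a) ∧
        (els.filter fun a => mulN j a q.1 == mulN j q.1 a).length = 16 ∧
        ∃ a ∈ els.filter (fun a => mulN j a q.1 == mulN j q.1 a), mulN j a a = tN := by
      decide +kernel
    exact this k (List.mem_range.2 hk2) p hp hp36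
  obtain ⟨hsub, hlen, a, ha, ha2⟩ := hls
  have hmem : ∀ x ∈ l, D.val x * D.val p.1 = D.val p.1 * D.val x := fun x hx =>
    D.val_commute (hsub.2.2.1 x hx).1 hp1 (by simpa [hl] using (List.mem_filter.1 hx).2)
  have h64 : ∀ P : Sylow 2 K, 32 ≤ Nat.card (P : Subgroup K) := by
    intro P
    have hle : (D.grp D.hR).map (MulAut.conj g).toMonoidHom ≤ K := by
      rintro _ ⟨_, ⟨m, hm, rfl⟩, rfl⟩
      rw [hK, Subgroup.mem_centralizer_singleton_iff, MulEquiv.coe_toMonoidHom, MulAut.conj_apply,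
        ← hg]
      exact conj_comm (D.rl_comm hm).1
    have hc : Nat.card (((D.grp D.hR).map (MulAut.conj g).toMonoidHom).subgroupOf K) = 2 ^ 5 := by
      rw [Nat.card_congr (Subgroup.subgroupOfEquivOfLe hle).toEquiv,
        Nat.card_congr ((D.grp D.hR).equivMapOfInjective _ (MulAut.conj g).injective).toEquiv.symm,
        D.card_grp, (rl_facts k D.hkr).2.1]
      norm_num
    obtain ⟨Q, hQ⟩ := (IsPGroup.of_card hc).exists_le_sylow
    have h := Subgroup.card_le_of_le hQ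
    rw [hc] at h
    obtain ⟨j, hj⟩ := MulAction.exists_smul_eq K Q P
    rw [← hj, Sylow.coe_subgroup_smul]
    refine le_of_le_of_eq (le_trans (by norm_num) h) ?_
    exact Nat.card_congr (Subgroup.equivSMul (MulAut.conj j) (Q : Subgroup K)).toEquiv
  set S := D.grp hsub with hS
  have hle : S ≤ K := by
    rintro _ ⟨x, hx, rfl⟩
    exact Subgroup.mem_centralizer_singleton_iff.2 (hmem x hx)
  have hcard : Nat.card (S.subgroupOf K) = 16 := by
    rw [Nat.card_congr (Subgroup.subgroupOfEquivOfLe hle).toEquiv, D.card_grp, hlen]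
  obtain ⟨P, hP⟩ := (IsPGroup.of_card (n := 4) (show Nat.card (S.subgroupOf K) = 2 ^ 4 by
    rw [hcard]; norm_num)).exists_le_sylow
  have hlt : S.subgroupOf K < (P : Subgroup K) := lt_of_le_of_ne hP fun e => by
    have h := h64 P
    rw [← e, hcard] at h
    norm_num at h
  obtain ⟨n, hn, hnr⟩ := SetLike.exists_of_lt
    (Group.normalizerCondition_of_isNilpotent (G := (P : Subgroup K)) (h := P.2.isNilpotent)
      ((S.subgroupOf K).subgroupOf (P : Subgroup K)) (by
        rw [lt_top_iff_ne_top]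
        intro e
        exact hlt.not_ge (Subgroup.subgroupOf_eq_top.1 e)))
  obtain ⟨b, hb, hbv⟩ := (Subgroup.mem_normalizer_iff.1 hn
    ⟨⟨D.val a, hle ⟨a, ha, rfl⟩⟩, hP ⟨a, ha, rfl⟩⟩).1 ⟨a, ha, rfl⟩
  have hbl := (hsub.2.2.1 b hb).1
  have hal := (hsub.2.2.1 a ha).1
  have hbv' : D.val b = ((n : K) : G) * D.val a * ((n : K) : G)⁻¹ := hbv
  have hsq : D.val (mulN k b b) = ((n : K) : G) * t * ((n : K) : G)⁻¹ := by
    rw [D.val_mul b b hbl hbl, hbv', show ((n : K) : G) * D.val a * ((n : K) : G)⁻¹ *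
      (((n : K) : G) * D.val a * ((n : K) : G)⁻¹) =
      ((n : K) : G) * (D.val a * D.val a) * ((n : K) : G)⁻¹ by group,
      ← D.val_mul a a hal hal, ha2, D.val_tau]
  rcases twelve_facts k (List.mem_range.2 hk2) p hp hp36 b (mem_els hbl)
    (by simpa [hl] using (List.mem_filter.1 hb).2) with e | e <;> rw [e] at hsq
  · rw [D.val_zero, eq_comm, conj_eq_one_iff] at hsq
    have := D.ord
    rw [hsq, orderOf_one] at this
    norm_num at this
  · rw [D.val_tau, eq_mul_inv_iff_mul_eq] at hsq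
    obtain ⟨m, hm, hmn⟩ := D.val_surj _ hsq.symm
    exact hnr ⟨m, List.mem_filter.2 ⟨mem_els hm, by
      simpa using D.mul_val_eq hm hp1 (by
        rw [hmn]; exact Subgroup.mem_centralizer_singleton_iff.1 (n : K).2)⟩, hmn⟩

end Cen

theorem q_cases : ∀ k ∈ List.range 4, ∀ p ∈ clsL k, ∀ m ∈ p.2, m % 6 = 0 → m = tN ∨ p.1 = vN ∨
    (k < 2 ∧ p.1 = 36) ∨ (2 ≤ k ∧ (p.1 = 36 ∨ p.1 = 42)) := by decide +kernel

theorem twT_facts : ∀ k ∈ List.range 4, 2 ≤ k → ∀ a ∈ [36, 42],
    ∃ p ∈ twT.getD (k - 2) [], IsAut k p ∧ appN p.1 vN = a := by decide +kernel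

/-- Coordinates in which `t` is fused with `30`. -/
theorem Cen.exists_fused {k : ℕ} {G : Type u} [Group G] [Finite G] {t : G} (D : Cen k t) {m : ℕ}
    (hm : m < 192) (h6 : m % 6 = 0) (hne : m ≠ tN) (hc : IsConj t (D.val m)) :
    ∃ D' : Cen k t, IsConj t (D'.val vN) := by
  have ho : orderOf (D.val m) = 2 := by
    obtain ⟨g, hg⟩ := isConj_iff.1 hc
    rw [← hg]; exact D.conj_ord
  obtain ⟨n, hn, hnv, p, hp, hnp⟩ := D.invol_val ho (D.val_comm m hm)
  obtain rfl := D.val_inj n m hn hm hnv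
  have hc' : IsConj t (D.val p.1) := hc.trans (D.cls_conj hp hnp).symm
  rcases q_cases k D.hkr p hp n hnp h6 with e | e | ⟨h2, e⟩ | ⟨h2, e⟩
  · exact absurd e hne
  · exact ⟨D, by rw [← e]; exact hc'⟩
  · exact absurd hc' (D.not_twelve h2 hp e)
  · obtain ⟨q, -, hq, hqv⟩ := twT_facts k D.hkr h2 p.1 (by simp [e])
    exact ⟨D.twist hq, by rw [D.twist_val hq, hqv]; exact hc'⟩

end CfsgLib.Ext32
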