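import Cfsg.Agent.Lib.Ext32.CountData
import Cfsg.Agent.Lib.U42.Count

/-!
# The order of the group

In the case where `t` is fused with `36` but not with `42` and the centraliser of the second
involution has its frame, the two classes of involutions give the order `181440`.
-/

set_option autoImplicit false
set_option linter.unusedSectionVars false
set_option maxRecDepth 100000
set_option maxHeartbeats 2000000

namespace CfsgLib.Ext32

open CfsgLib.U42 (conj_comm Pair order_formula)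
open UMod

universe u

namespace UMod

theorem digits {p : ℕ} (hp : p < 480) :
    p / 120 < 4 ∧ p / 2 % 60 < 60 ∧ p % 2 < 2 ∧ enc (p / 120) (p / 2 % 60) (p % 2) = p := by
  unfold enc
  omega

theorem enc_digits {v c j : ℕ} (hv : v < 4) (hc : c < 60) (hj : j < 2) :
    enc v c j < 480 ∧ enc v c j / 120 = v ∧ enc v c j / 2 % 60 = c ∧ enc v c j % 2 = j := by
  unfold enc
  omega

theorem mulU_facts {p q : ℕ} (hp : p < 480) (hq : q < 480) :
    mulU p q < 480 ∧
      mulU p q / 120 = p / 120 ^^^ (bif p % 2 == 1 then thV (q / 120) else q / 120) ∧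
      mulU p q / 2 % 60 = mC (p / 2 % 60) (bif p % 2 == 1 then thC (q / 2 % 60) else q / 2 % 60) ∧
      mulU p q % 2 = (p % 2 + q % 2) % 2 := by
  obtain ⟨hv, hc, hj, -⟩ := digits hp
  obtain ⟨hw, hd, -, -⟩ := digits hq
  have hw' : (bif p % 2 == 1 then thV (q / 120) else q / 120) < 4 := by
    cases p % 2 == 1
    · exact hw
    · exact (v_facts.1 _ (List.mem_range.2 hw)).2.2.2.1
  have hd' : (bif p % 2 == 1 then thC (q / 2 % 60) else q / 2 % 60) < 60 := by
    cases p % 2 == 1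
    · exact hd
    · exact (e60_theta _ (List.mem_range.2 hd)).1
  obtain ⟨a1, a2, a3, a4⟩ := enc_digits
    ((v_facts.1 _ (List.mem_range.2 hv)).2.2.2.2.2.2.2 _ (List.mem_range.2 hw')).1
    (e60_mul _ (List.mem_range.2 hc) _ (List.mem_range.2 hd')).1
    (Nat.mod_lt (p % 2 + q % 2) (by norm_num : 2 > 0))
  exact ⟨a1, a2, a3, a4⟩

theorem mulU_cancel {p q r : ℕ} (hp : p < 480) (hq : q < 480) (hr : r < 480)
    (e : mulU p r = mulU q r) : p = q := by
  obtain ⟨-, p1, p2, p3⟩ := mulU_facts hp hr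
  obtain ⟨-, q1, q2, q3⟩ := mulU_facts hq hr
  rw [e] at p1 p2 p3
  obtain ⟨-, hc, hj, hp'⟩ := digits hp
  obtain ⟨-, hc', hj', hq'⟩ := digits hq
  have hjj : p % 2 = q % 2 := by omega
  have hd : (bif q % 2 == 1 then thC (r / 2 % 60) else r / 2 % 60) < 60 := by
    cases q % 2 == 1
    · exact (digits hr).2.1
    · exact (e60_theta _ (List.mem_range.2 (digits hr).2.1)).1
  have a := p1.symm.trans q1
  have b := congrArg e60 (p2.symm.trans q2)
  rw [hjj] at a b
  rw [(e60_mul _ (List.mem_range.2 hc) _ (List.mem_range.2 hd)).2,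
    (e60_mul _ (List.mem_range.2 hc') _ (List.mem_range.2 hd)).2] at b
  rw [← hp', ← hq', Nat.xor_left_injective a,
    e60_inj _ (List.mem_range.2 hc) _ (List.mem_range.2 hc') (mul_right_cancel b), hjj]

theorem powU_lt {p : ℕ} (hp : p < 480) : ∀ i, powU p i < 480
  | 0 => by norm_num [powU]
  | i + 1 => (mulU_facts (powU_lt hp i) hp).1

theorem e60_surj (c : alternatingGroup (Fin 5)) : ∃ i < 60, e60 i = c := by
  have hinj : Function.Injective fun i : Fin 60 => e60 i.1 := fun a b h =>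
    Fin.ext (e60_inj _ (List.mem_range.2 a.2) _ (List.mem_range.2 b.2) h)
  obtain ⟨i, hi⟩ := (hinj.bijective_of_nat_card_le (by
    rw [nat_card_alternatingGroup, Nat.card_fin, Nat.card_fin]
    decide)).2 c
  exact ⟨i.1, i.2, hi⟩

theorem small_mem {s : ℕ × ℕ} (hs : s ∈ small) : ∃ v < 4, ∃ c ∈ c4, ∃ j < 2,
    s = (enc v c.1 j, mulN 2 (mulN 2 (vN4 v) c.2) (bif j == 1 then oN else 0)) := by
  simp only [small, List.mem_flatMap, List.mem_map, List.mem_range] at hs
  obtain ⟨v, hv, c, hc, j, hj, rfl⟩ := hs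
  exact ⟨v, hv, c, hc, j, hj, rfl⟩

theorem invol_lists : ∀ q ∈ tU.map Prod.fst ++ uU.map Prod.fst, q ≠ 0 ∧ mulU q q = 0 := by
  decide +kernel

theorem invol_cls : ∀ q ∈ tcls ++ ucls, q ≠ 0 ∧ mulN 2 q q = 0 := by decide +kernel

theorem c4_lt : ∀ c ∈ c4, c.1 < 60 ∧ c.2 < 192 := by decide +kernel

end UMod

namespace Cen

variable {G : Type u} [Group G] [Finite G] {t : G} (D : Cen 2 t)
include D

/-- The element of the centralizer of `84` with the given number. -/
noncomputable def uval (ι : alternatingGroup (Fin 5) →* G) (p : ℕ) : G :=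
  D.val (vN4 (p / 120)) * ι (e60 (p / 2 % 60)) * D.val oN ^ (p % 2)

end Cen

namespace UFr

variable {G : Type u} [Group G] [Finite G] {t : G} {D : Cen 2 t} {h k : G}
  {ι : alternatingGroup (Fin 5) →* G} (F : UFr D h k ι)
include F

theorem o_sq : D.val oN * D.val oN = 1 := by
  rw [← D.val_mul _ _ v_facts.2.2.2.2.2.1 v_facts.2.2.2.2.2.1, v_facts.2.1, D.val_zero]

theorem uval_mul {p q : ℕ} (hp : p < 480) (hq : q < 480) :
    D.uval ι (mulU p q) = D.uval ι p * D.uval ι q := by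
  obtain ⟨-, e1, e2, e3⟩ := mulU_facts hp hq
  obtain ⟨hv, hc, hj, -⟩ := digits hp
  obtain ⟨hw, hd, hl, -⟩ := digits hq
  simp only [Cen.uval, e1, e2, e3]
  generalize p / 120 = v, p / 2 % 60 = c, p % 2 = j, q / 120 = w, q / 2 % 60 = d, q % 2 = l
    at hv hc hj hw hd hl ⊢
  obtain ⟨hvl, hvm, -, -, -, -, -, hvb⟩ := v_facts.1 v (List.mem_range.2 hv)
  obtain ⟨hwl, hwm, -, hwt, hwc, -, -, -⟩ := v_facts.1 w (List.mem_range.2 hw)
  have hoN := v_facts.2.2.2.2.2.1
  have ho : D.val oN ^ ((j + l) % 2) = D.val oN ^ j * D.val oN ^ l := by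
    rw [← pow_add]
    conv_rhs => rw [← Nat.mod_add_div (j + l) 2, pow_add, pow_mul, pow_two, F.o_sq, one_pow, mul_one]
  rw [ho]
  have main : ∀ {w' d' : ℕ}, w' < 4 → d' < 60 →
      D.val oN ^ j * (D.val (vN4 w) * ι (e60 d)) =
        D.val (vN4 w') * ι (e60 d') * D.val oN ^ j →
      D.val (vN4 (v ^^^ w')) * ι (e60 (mC c d')) * (D.val oN ^ j * D.val oN ^ l) =
        D.val (vN4 v) * ι (e60 c) * D.val oN ^ j * (D.val (vN4 w) * ι (e60 d) * D.val oN ^ l) := by
    intro w' d' hw' hd' hmove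
    obtain ⟨hw'l, hw'm, -⟩ := v_facts.1 w' (List.mem_range.2 hw')
    rw [← (hvb w' (List.mem_range.2 hw')).2.1, D.val_mul _ _ hvl hw'l,
      (e60_mul c (List.mem_range.2 hc) d' (List.mem_range.2 hd')).2, map_mul]
    calc D.val (vN4 v) * D.val (vN4 w') * (ι (e60 c) * ι (e60 d')) * (D.val oN ^ j * D.val oN ^ l)
        = D.val (vN4 v) * (D.val (vN4 w') * ι (e60 c)) * ι (e60 d') *
            (D.val oN ^ j * D.val oN ^ l) := by group
      _ = D.val (vN4 v) * (ι (e60 c) * D.val (vN4 w')) * ι (e60 d') *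
            (D.val oN ^ j * D.val oN ^ l) := by rw [F.comm _ hw'm]
      _ = D.val (vN4 v) * ι (e60 c) * (D.val (vN4 w') * ι (e60 d') * D.val oN ^ j) *
            D.val oN ^ l := by group
      _ = _ := by rw [← hmove]; group
  interval_cases j
  · exact main (w' := w) (d' := d) hw hd (by simp)
  · refine main (w' := thV w) (d' := thC d) hwt (e60_theta d (List.mem_range.2 hd)).1 ?_
    rw [(e60_theta d (List.mem_range.2 hd)).2, ← F.conj_o, ← hwc, D.val_cj hoN hwl, pow_one]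
    group

theorem uval_zero : D.uval ι 0 = 1 := by
  simp only [Cen.uval, Nat.zero_div, Nat.zero_mod, pow_zero, mul_one]
  rw [show vN4 0 = 0 from rfl, D.val_zero, one_mul, e60_facts.1, map_one]

theorem uval_pow {p : ℕ} (hp : p < 480) : ∀ i, D.uval ι (powU p i) = D.uval ι p ^ i
  | 0 => by rw [powU, F.uval_zero, pow_zero]
  | i + 1 => by
    rw [powU, F.uval_mul (powU_lt hp i) hp, uval_pow hp i, pow_succ]

theorem uval_eq_one {p : ℕ} (hp : p < 480) (e : D.uval ι p = 1) : p = 0 := by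
  obtain ⟨hv, hc, hj, hp'⟩ := digits hp
  unfold Cen.uval at e
  obtain ⟨hvl, hvm, -, -, -, -, hv0, -⟩ := v_facts.1 _ (List.mem_range.2 hv)
  generalize p / 120 = v, p / 2 % 60 = c, p % 2 = j at hv hc hj hp' hvl hvm hv0 e
  interval_cases j
  · rw [pow_zero, mul_one] at e
    obtain ⟨a, b⟩ := F.disjoint _ hvm _ e
    have hc0 : c = 0 := e60_inj c (List.mem_range.2 hc) 0 (by simp) (b.trans e60_facts.1.symm)
    rw [← hp', hv0 a, hc0]
    rfl
  · exfalso
    rw [pow_one] at e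
    obtain ⟨i, hi, hic⟩ := e60_surj (e60 c)⁻¹
    obtain ⟨a, ha, hne⟩ := theta_outer i (List.mem_range.2 hi)
    rw [hic] at hne
    refine hne (F.inj ?_)
    have hw := eq_inv_of_mul_eq_one_right e
    rw [map_mul, map_mul, ← F.conj_o, hw, map_inv]
    calc (D.val (vN4 v) * ι (e60 c))⁻¹ * ι (e60 a) * (D.val (vN4 v) * ι (e60 c))⁻¹⁻¹ * (ι (e60 c))⁻¹
        = (ι (e60 c))⁻¹ * ((D.val (vN4 v))⁻¹ * (ι (e60 a) * D.val (vN4 v))) * ι (e60 c) *
            (ι (e60 c))⁻¹ := by group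
      _ = (ι (e60 c))⁻¹ * ((D.val (vN4 v))⁻¹ * (D.val (vN4 v) * ι (e60 a))) * ι (e60 c) *
            (ι (e60 c))⁻¹ := by rw [F.comm _ hvm]
      _ = _ := by group
  
theorem uval_uN : D.uval ι 120 = D.val uN := by
  simp only [Cen.uval, show (120 : ℕ) / 120 = 1 from rfl, show (120 : ℕ) / 2 % 60 = 0 from rfl,
    show (120 : ℕ) % 2 = 0 from rfl, e60_facts.1, map_one, mul_one, pow_zero, v_facts.2.2.2.2.1]

theorem uval_cent {p : ℕ} (hp : p < 480) : D.uval ι p * D.val uN = D.val uN * D.uval ι p := by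
  obtain ⟨hv, hc, hj, -⟩ := digits hp
  obtain ⟨hvl, -, -, -, -, hvu, -, -⟩ := v_facts.1 _ (List.mem_range.2 hv)
  have h1 : Commute (D.val (vN4 (p / 120))) (D.val uN) :=
    D.val_commute hvl v_facts.2.2.2.2.2.2 hvu
  have h2 : Commute (ι (e60 (p / 2 % 60))) (D.val uN) :=
    (F.comm uN (by decide) _).symm
  have h3 : Commute (D.val oN) (D.val uN) :=
    D.val_commute v_facts.2.2.2.2.2.1 v_facts.2.2.2.2.2.2 v_facts.2.2.1
  exact ((h1.mul_left h2).mul_left (h3.pow_left _)).eq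

theorem uval_surj {x : G} (hx : x * D.val uN = D.val uN * x) : ∃ p < 480, D.uval ι p = x := by
  obtain ⟨v, hv, c, j, hj, rfl⟩ := F.cover x hx
  obtain ⟨a, ha, rfl⟩ := v_facts.2.2.2.1 v hv
  obtain ⟨i, hi, rfl⟩ := e60_surj c
  obtain ⟨h1, h2, h3, h4⟩ := enc_digits (List.mem_range.1 ha) hi hj
  exact ⟨_, h1, by simp only [Cen.uval, h2, h3, h4]⟩

/-- The number of an element is unique. -/
theorem uval_inj {p q : ℕ} (hp : p < 480) (hq : q < 480) (e : D.uval ι p = D.uval ι q) :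
    p = q := by
  obtain ⟨r, hr, hrv⟩ := F.uval_surj (x := (D.uval ι p)⁻¹)
    (show Commute (D.uval ι p)⁻¹ (D.val uN) from
      (show Commute (D.uval ι p) (D.val uN) from F.uval_cent hp).inv_left).eq
  refine mulU_cancel hp hq hr ?_
  rw [F.uval_eq_one (mulU_facts hp hr).1 (by rw [F.uval_mul hp hr, hrv, mul_inv_cancel]),
    F.uval_eq_one (mulU_facts hq hr).1 (by rw [F.uval_mul hq hr, hrv, ← e, mul_inv_cancel])]

theorem uval_small {s : ℕ × ℕ} (hs : s ∈ small) :
    s.1 < 480 ∧ s.2 < 192 ∧ D.uval ι s.1 = D.val s.2 := by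
  obtain ⟨v, hv, c, hc, j, hj, rfl⟩ := small_mem hs
  obtain ⟨hc1, hc2⟩ := c4_lt c hc
  obtain ⟨e0, e1, e2, e3⟩ := enc_digits hv hc1 hj
  obtain ⟨hvl, -⟩ := v_facts.1 v (List.mem_range.2 hv)
  have hoN := v_facts.2.2.2.2.2.1
  refine ⟨e0, mulN_lt .., ?_⟩
  have hval : ι (e60 c.1) = D.val c.2 := by
    simp only [c4, List.mem_cons, List.not_mem_nil, or_false] at hc
    rcases hc with rfl | rfl | rfl | rfl
    · show ι (e60 0) = D.val 0
      rw [e60_facts.1, map_one, D.val_zero]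
    · show ι (e60 13) = D.val 180
      rw [e60_facts.2.1, F.hA]
    · show ι (e60 30) = D.val 167
      rw [e60_facts.2.2.1, F.hB]
    · show ι (e60 39) = D.val (mulN 2 180 167)
      rw [e60_facts.2.2.2, map_mul, F.hA, F.hB, D.val_mul _ _ (by norm_num) (by norm_num)]
  simp only [Cen.uval, e1, e2, e3, hval]
  interval_cases j
  · rw [pow_zero, mul_one, D.val_mul _ _ (mulN_lt ..) (by decide), D.val_mul _ _ hvl hc2]
    show _ = _ * D.val 0
    rw [D.val_zero, mul_one]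
  · rw [pow_one, D.val_mul _ _ (mulN_lt ..) (by simpa using hoN), D.val_mul _ _ hvl hc2]
    rfl

theorem invol_u : orderOf (D.val uN) = 2 :=
  D.val_invol v_facts.2.2.2.2.2.2 (by decide +kernel) (by decide +kernel)

/-- The centralizer of `84` has order `480`. -/
theorem card_cent_u : Nat.card (Subgroup.centralizer ({D.val uN} : Set G)) = 480 := by
  have hb : Function.Bijective fun p : Fin 480 =>
      (⟨D.uval ι p.1, Subgroup.mem_centralizer_singleton_iff.2 (F.uval_cent p.2)⟩ :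
        Subgroup.centralizer ({D.val uN} : Set G)) := by
    refine ⟨fun p q e => Fin.ext (F.uval_inj p.2 q.2 (congrArg Subtype.val e)), fun x => ?_⟩
    obtain ⟨p, hp, e⟩ := F.uval_surj (Subgroup.mem_centralizer_singleton_iff.1 x.2)
    exact ⟨⟨p, hp⟩, Subtype.ext e⟩
  rw [← Nat.card_eq_of_bijective _ hb, Nat.card_fin]

variable (hh : D.Std h) (h36 : IsConj t (D.val 36)) (h42 : ¬ IsConj t (D.val 42))
include hh h36 h42

theorem conj_iff_model {m : ℕ} (hm : m < 192) (ho : orderOf (D.val m) = 2) :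
    (IsConj t (D.val m) ↔ m ∈ tcls) ∧ (IsConj (D.val uN) (D.val m) ↔ m ∈ ucls) ∧
      (m ∈ tcls ∨ m ∈ ucls) := by
  obtain ⟨e1, e2, e3⟩ := D.conj_t_iff hh h36 h42 hm ho
  have hu := (D.conj_t_iff hh h36 h42 v_facts.2.2.2.2.2.2 F.invol_u).2.1.2 nodups.2.2.2.2.2.1
  exact ⟨e1, ⟨fun h' => e2.1 (hu.trans h'), fun h' => hu.symm.trans (e2.2 h')⟩, e3⟩

theorem not_conj_u : ¬ IsConj t (D.val uN) := fun e =>
  h42 (e.trans ((D.conj_t_iff hh h36 h42 v_facts.2.2.2.2.2.2 F.invol_u).2.1.2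
    nodups.2.2.2.2.2.1).symm)

theorem fused {v : G} (hv : orderOf v = 2) : IsConj t v ∨ IsConj (D.val uN) v := by
  have hu := (D.conj_t_iff hh h36 h42 v_facts.2.2.2.2.2.2 F.invol_u).2.1.2 nodups.2.2.2.2.2.1
  rcases D.invol_fused hh hv with e | e | e
  exacts [Or.inl e, Or.inl (h36.trans e), Or.inr (hu.symm.trans e)]

theorem uval_class {p : ℕ} (hp : p < 480) (ho : orderOf (D.uval ι p) = 2) :
    (IsConj t (D.uval ι p) ↔ p ∈ tU.map Prod.fst) ∧
      (IsConj (D.val uN) (D.uval ι p) ↔ p ∈ uU.map Prod.fst) := by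
  have tr : ∀ {x : ℕ × ℕ × ℕ}, x.1 < 480 → x.2.1 < 480 → orderOf (D.uval ι x.1) = 2 →
      ∀ s ∈ small, mulU x.2.1 x.1 = mulU s.1 x.2.1 →
      IsConj (D.uval ι x.1) (D.val s.2) ∧ orderOf (D.val s.2) = 2 := fun {x} h1 h2 h3 s hs he => by
    obtain ⟨hs1, hs2, hsv⟩ := F.uval_small hs
    have e := congrArg (D.uval ι) he
    rw [F.uval_mul h2 h1, F.uval_mul hs1 h2, hsv] at e
    have hc : D.uval ι x.2.1 * D.uval ι x.1 * (D.uval ι x.2.1)⁻¹ = D.val s.2 :=
      mul_inv_eq_iff_eq_mul.2 e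
    exact ⟨isConj_iff.2 ⟨_, hc⟩, by rw [← hc]; exact ((MulAut.conj _).orderOf_eq _).trans h3⟩
  have ht : p ∈ tU.map Prod.fst → IsConj t (D.uval ι p) := fun hm => by
    obtain ⟨x, hx, rfl⟩ := List.mem_map.1 hm
    obtain ⟨h1, h2, s, hs, -, he, hc⟩ := tU_facts x hx
    obtain ⟨e, ho'⟩ := tr h1 h2 ho s hs he
    exact ((F.conj_iff_model hh h36 h42 (F.uval_small hs).2.1 ho').1.2 hc).trans e.symm
  have hu : p ∈ uU.map Prod.fst → IsConj (D.val uN) (D.uval ι p) := fun hm => by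
    obtain ⟨x, hx, rfl⟩ := List.mem_map.1 hm
    obtain ⟨h1, h2, s, hs, -, he, hc⟩ := uU_facts x hx
    obtain ⟨e, ho'⟩ := tr h1 h2 ho s hs he
    exact ((F.conj_iff_model hh h36 h42 (F.uval_small hs).2.1 ho').2.1.2 hc).trans e.symm
  have hsplit : p ∈ tU.map Prod.fst ∨ p ∈ uU.map Prod.fst := by
    have h0 : mulU p p = 0 := F.uval_eq_one (mulU_facts hp hp).1 (by
      rw [F.uval_mul hp hp, ← pow_two, ← ho, pow_orderOf_eq_one])
    rcases invol_split p (List.mem_range.2 hp) h0 with e | e | e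
    · rw [e, F.uval_zero, orderOf_one] at ho
      norm_num at ho
    exacts [Or.inl e, Or.inr e]
  have hne := F.not_conj_u hh h36 h42
  exact ⟨⟨fun e => hsplit.resolve_right fun h' => hne (e.trans (hu h').symm), ht⟩,
    ⟨fun e => hsplit.resolve_left fun h' => hne ((ht h').trans e.symm), hu⟩⟩

omit F hh h36 h42 in
theorem orderOf_conj' {a x : G} (ha : orderOf a = 2) (e : IsConj a x) : orderOf x = 2 := by
  obtain ⟨g, rfl⟩ := isConj_iff.1 e
  exact ((MulAut.conj g).orderOf_eq a).trans ha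

theorem card_pair_u : Nat.card (Pair t (D.val uN) (D.val uN)) = 555 := by
  classical
  rw [← pairsU_length]
  have hmem : ∀ p, p ∈ pairsU ↔ p.1 ∈ tU.map Prod.fst ∧ p.2 ∈ uU.map Prod.fst ∧
      ∃ i < 12, powU (mulU p.1 p.2) i = 120 := by
    intro p
    obtain ⟨x, y⟩ := p
    simp [pairsU, List.mem_filter, List.pair_mem_product, List.any_eq_true, and_assoc]
  have hlt : ∀ p ∈ pairsU, p.1 < 480 ∧ p.2 < 480 := fun p hp => by
    obtain ⟨h1, h2, -⟩ := (hmem p).1 hp
    obtain ⟨x, hx, e1⟩ := List.mem_map.1 h1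
    obtain ⟨y, hy, e2⟩ := List.mem_map.1 h2
    exact ⟨e1 ▸ (tU_facts x hx).1, e2 ▸ (uU_facts y hy).1⟩
  have hord : ∀ q, q ∈ tU.map Prod.fst ∨ q ∈ uU.map Prod.fst → q < 480 →
      orderOf (D.uval ι q) = 2 := fun q hq hql => by
    have hne : q ≠ 0 ∧ mulU q q = 0 := invol_lists q (by
      rcases hq with e | e
      exacts [List.mem_append_left _ e, List.mem_append_right _ e])
    refine orderOf_eq_prime ?_ fun e => hne.1 (F.uval_eq_one hql e)
    rw [pow_two, ← F.uval_mul hql hql, hne.2, F.uval_zero]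
  have e : {p // p ∈ pairsU} ≃ Pair t (D.val uN) (D.val uN) := Equiv.ofBijective
    (fun p => ⟨(D.uval ι p.1.1, D.uval ι p.1.2), by
      obtain ⟨h1, h2, i, -, hi⟩ := (hmem p.1).1 p.2
      obtain ⟨l1, l2⟩ := hlt p.1 p.2
      refine ⟨(F.uval_class hh h36 h42 l1 (hord _ (Or.inl h1) l1)).1.2 h1,
        (F.uval_class hh h36 h42 l2 (hord _ (Or.inr h2) l2)).2.2 h2,
        F.uval_cent l1, F.uval_cent l2, i, ?_⟩
      rw [← F.uval_mul l1 l2, ← F.uval_pow (mulU_facts l1 l2).1, hi, F.uval_uN]⟩)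
    ⟨fun a b hab => Subtype.ext (Prod.ext
      (F.uval_inj (hlt _ a.2).1 (hlt _ b.2).1 (congrArg (fun p => p.1.1) hab))
      (F.uval_inj (hlt _ a.2).2 (hlt _ b.2).2 (congrArg (fun p => p.1.2) hab))),
    fun ⟨⟨x, y⟩, h1, h2, h3, h4, i, hi⟩ => by
      have ox := orderOf_conj' D.ord h1
      have oy := orderOf_conj' F.invol_u h2
      obtain ⟨m, hm, rfl⟩ := F.uval_surj h3
      obtain ⟨n, hn, rfl⟩ := F.uval_surj h4
      have hmn := (mulU_facts hm hn).1
      have hpow : ∃ i < 12, powU (mulU m n) i = 120 := by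
        have key : ∀ d, 0 < d → d ≤ 12 → powU (mulU m n) d = 0 →
            ∃ i < 12, powU (mulU m n) i = 120 := fun d h0 hd he => by
          have hd1 : D.uval ι (mulU m n) ^ d = 1 := by rw [← F.uval_pow hmn, he, F.uval_zero]
          refine ⟨i % d, lt_of_lt_of_le (Nat.mod_lt _ h0) hd,
            F.uval_inj (powU_lt hmn _) (by norm_num) ?_⟩
          rw [F.uval_pow hmn, F.uval_uN, ← pow_eq_pow_mod i hd1, F.uval_mul hm hn]
          exact hi
        rcases exp_u _ (List.mem_range.2 hmn) with e | e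
        exacts [key 12 (by norm_num) le_rfl e, key 10 (by norm_num) (by norm_num) e]
      exact ⟨⟨(m, n), (hmem _).2 ⟨(F.uval_class hh h36 h42 hm ox).1.1 h1,
        (F.uval_class hh h36 h42 hn oy).2.1 h2, hpow⟩⟩, rfl⟩⟩
  rw [← Nat.card_congr e, Nat.card_eq_fintype_card,
    Fintype.card_of_subtype pairsU.toFinset (fun x => List.mem_toFinset),
    List.toFinset_card_of_nodup (l := pairsU)
      (List.Nodup.filter _ (List.Nodup.product nodups.1 nodups.2.1))]

theorem card_pair_t : Nat.card (Pair t (D.val uN) t) = 156 := by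
  classical
  rw [← pairsT_length]
  have hmem : ∀ p, p ∈ pairsT ↔ p.1 ∈ tcls ∧ p.2 ∈ ucls ∧
      ∃ i < 12, powN 2 (mulN 2 p.1 p.2) i = tN := by
    intro p
    obtain ⟨x, y⟩ := p
    simp [pairsT, List.mem_filter, List.pair_mem_product, List.any_eq_true, and_assoc]
  have hlt : ∀ p ∈ pairsT, p.1 < 192 ∧ p.2 < 192 := fun p hp => by
    obtain ⟨h1, h2, -⟩ := (hmem p).1 hp
    exact ⟨nodups.2.2.2.2.1 _ (List.mem_append_left _ h1),
      nodups.2.2.2.2.1 _ (List.mem_append_right _ h2)⟩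
  have hord : ∀ q ∈ tcls ++ ucls, orderOf (D.val q) = 2 := fun q hq => by
    obtain ⟨h1, h2⟩ := invol_cls q hq
    exact D.val_invol (nodups.2.2.2.2.1 q hq) h2 h1
  have e : {p // p ∈ pairsT} ≃ Pair t (D.val uN) t := Equiv.ofBijective
    (fun p => ⟨(D.val p.1.1, D.val p.1.2), by
      obtain ⟨h1, h2, i, -, hi⟩ := (hmem p.1).1 p.2
      obtain ⟨l1, l2⟩ := hlt p.1 p.2
      refine ⟨(F.conj_iff_model hh h36 h42 l1 (hord _ (List.mem_append_left _ h1))).1.2 h1,
        (F.conj_iff_model hh h36 h42 l2 (hord _ (List.mem_append_right _ h2))).2.1.2 h2,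
        D.val_comm _ l1, D.val_comm _ l2, i, ?_⟩
      rw [← D.val_mul _ _ l1 l2, ← D.val_pow (mulN_lt ..), hi, D.val_tau]⟩)
    ⟨fun a b hab => Subtype.ext (Prod.ext
      (D.val_inj _ _ (hlt _ a.2).1 (hlt _ b.2).1 (congrArg (fun p => p.1.1) hab))
      (D.val_inj _ _ (hlt _ a.2).2 (hlt _ b.2).2 (congrArg (fun p => p.1.2) hab))),
    fun ⟨⟨x, y⟩, h1, h2, h3, h4, i, hi⟩ => by
      have ox := orderOf_conj' D.ord h1
      have oy := orderOf_conj' F.invol_u h2
      obtain ⟨m, hm, rfl, -⟩ := D.invol_val ox h3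
      obtain ⟨n, hn, rfl, -⟩ := D.invol_val oy h4
      have hmn : mulN 2 m n < 192 := mulN_lt ..
      have h12 : D.val (mulN 2 m n) ^ 12 = 1 := by
        rw [← D.val_pow hmn, exp_t _ (mem_els hmn), D.val_zero]
      refine ⟨⟨(m, n), (hmem _).2 ⟨(F.conj_iff_model hh h36 h42 hm ox).1.1 h1,
        (F.conj_iff_model hh h36 h42 hn oy).2.1.1 h2, i % 12, Nat.mod_lt _ (by norm_num),
        D.val_inj _ _ (powN_lt _ _ _) D.t_lt ?_⟩⟩, rfl⟩
      rw [D.val_pow hmn, D.val_tau, ← pow_eq_pow_mod i h12, D.val_mul _ _ hm hn]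
      exact hi⟩
  rw [← Nat.card_congr e, Nat.card_eq_fintype_card,
    Fintype.card_of_subtype pairsT.toFinset (fun x => List.mem_toFinset),
    List.toFinset_card_of_nodup (l := pairsT)
      (List.Nodup.filter _ (List.Nodup.product nodups.2.2.1 nodups.2.2.2.1))]

end UFr

namespace Cen

variable {G : Type u} [Group G] [Finite G] {t : G}

/-- The order of the group. -/
theorem card_eq (D : Cen 2 t) {h k : G} (hh : D.Std h) (hk : (D.twist sndT_facts).Std k)
    (hhk : h * k = k * h) (h36 : IsConj t (D.val 36)) (h42 : ¬ IsConj t (D.val 42))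
    {ι : alternatingGroup (Fin 5) →* G} (F : UFr D h k ι) : Nat.card G = 181440 := by
  rw [order_formula D.ord F.invol_u (F.not_conj_u hh h36 h42)
    (fun v hv => F.fused hh h36 h42 hv), F.card_cent_u, F.card_pair_t hh h36 h42,
    F.card_pair_u hh h36 h42, D.card_cent]

end Cen

end CfsgLib.Ext32
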