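import Mathlib

/-!
# A group of order `181440` with a non-normal alternating subgroup of degree eight

It acts faithfully on nine cosets and so is the alternating group of degree nine.
-/

set_option autoImplicit false

namespace CfsgLib.Ext32

universe u

/-- A group of order `181440` with a non-normal copy of the alternating group of degree eight is
the alternating group of degree nine. -/
theorem iso_a9 {G : Type u} [Group G] [Finite G] (hG : Nat.card G = 181440)
    (ψ : alternatingGroup (Fin 8) →* G) (hinj : Function.Injective ψ) (hn : ¬ ψ.range.Normal) :
    Nonempty (G ≃* alternatingGroup (Fin 9)) := by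
  classical
  haveI : IsSimpleGroup (alternatingGroup (Fin 8)) := alternatingGroup.isSimpleGroup (by simp)
  set H := ψ.range with hH
  have hH8 : Nat.card H = 20160 := by
    rw [hH, ← Nat.card_congr (MonoidHom.ofInjective hinj).toEquiv, nat_card_alternatingGroup,
      Nat.card_fin]
    rfl
  have hidx : H.index = 9 := by
    have := H.card_mul_index
    rw [hH8, hG] at this
    omega
  have hcore : H.normalCore = ⊥ := by
    have hle : H.normalCore ≤ ψ.range := H.normalCore_le
    rcases ((H.normalCore_normal).comap ψ).eq_bot_or_eq_top with e | e
    · rw [← Subgroup.map_comap_eq_self hle, e, Subgroup.map_bot]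
    · refine absurd ?_ hn
      have e' : H.normalCore = H := by
        rw [← Subgroup.map_comap_eq_self hle, e, ← MonoidHom.range_eq_map]
      exact e' ▸ H.normalCore_normal
  set f : G →* Equiv.Perm (G ⧸ H) := MulAction.toPermHom G (G ⧸ H) with hf
  have hfinj : Function.Injective f := by
    rw [← MonoidHom.ker_eq_bot_iff, hf, ← Subgroup.normalCore_eq_ker, hcore]
  have e : G ⧸ H ≃ Fin 9 := Finite.equivFinOfCardEq (by rw [← Subgroup.index_eq_card, hidx])
  set g : G →* Equiv.Perm (Fin 9) := e.permCongrHom.toMonoidHom.comp f with hg
  have hginj : Function.Injective g := e.permCongrHom.injective.comp hfinj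
  have hr : g.range = alternatingGroup (Fin 9) := by
    refine Equiv.Perm.eq_alternatingGroup_of_index_eq_two ?_
    have := g.range.card_mul_index
    rw [← Nat.card_congr (MonoidHom.ofInjective hginj).toEquiv, hG, Nat.card_perm,
      Nat.card_fin, show Nat.factorial 9 = 362880 from rfl] at this
    omega
  exact ⟨(MonoidHom.ofInjective hginj).trans (MulEquiv.subgroupCongr hr)⟩

end CfsgLib.Ext32
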