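import Cfsg.Agent.Lib.Ext32.UFrame

/-!
# Finite facts in the alternating group of degree five
-/

set_option autoImplicit false
set_option maxRecDepth 100000
set_option maxHeartbeats 0
set_option synthInstance.maxHeartbeats 200000
set_option synthInstance.maxSize 2000

namespace CfsgLib.Ext32

/-- The involution outside the subgroup fixing a point. -/
def pF : alternatingGroup (Fin 5) :=
  ⟨Equiv.swap 1 4 * Equiv.swap 2 3, by rw [Equiv.Perm.mem_alternatingGroup]; decide⟩

theorem five_unique : ∀ x : Equiv.Perm (Fin 5), x * x = 1 → (x * pA.1) ^ 3 = 1 →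
    (x * pB.1) ^ 5 = 1 → (x * pG.1) ^ 3 = 1 → (x * (pA.1 * pB.1)) ^ 5 = 1 → x ≠ 1 → x = pF.1 := by
  decide +kernel

theorem pF_facts : pF.1 * pF.1 = 1 ∧ (pF.1 * pA.1) ^ 3 = 1 ∧ (pF.1 * pB.1) ^ 5 = 1 ∧
    (pF.1 * pG.1) ^ 3 = 1 ∧ (pF.1 * (pA.1 * pB.1)) ^ 5 = 1 ∧ pF.1 ≠ 1 ∧
    (theta pA).1 = pA.1 ∧ (theta pB).1 = pA.1 * pB.1 ∧ (theta pG).1 = pG.1⁻¹ := by decide +kernel

theorem five_std : ∀ a : Equiv.Perm (Fin 5), Equiv.Perm.sign a = 1 → a * a = 1 → a ≠ 1 →
    ∀ c : Equiv.Perm (Fin 5), Equiv.Perm.sign c = 1 → c * c * c = 1 → c ≠ 1 →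
    ∀ b : Equiv.Perm (Fin 5), b = c * a * c⁻¹ → a * b = b * a → c * b * c⁻¹ = a * b → b ≠ a →
    ∃ s : Equiv.Perm (Fin 5), s * pA.1 = a * s ∧ s * pB.1 = b * s ∧ s * pG.1 = c * s := by
  decide +kernel

/-- The twelve products of the generators fixing a point. -/
def four12 : List (alternatingGroup (Fin 5)) :=
  [1, pA, pB, pA * pB, pG, pA * pG, pB * pG, pA * pB * pG, pG * pG, pA * (pG * pG), pB * (pG * pG),
    pA * pB * (pG * pG)]

theorem five_gen_facts : ((four12 ++ four12.map (· * pF)).map fun c =>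
    List.ofFn fun i => (c.1 i).1).Nodup ∧ (four12 ++ four12.map (· * pF)).length = 24 := by
  decide +kernel

/-- A homomorphism of the alternating group fixing four generators is the identity. -/
theorem hom_eq_id (f : alternatingGroup (Fin 5) →* alternatingGroup (Fin 5)) (ha : f pA = pA)
    (hb : f pB = pB) (hg : f pG = pG) (hf : f pF = pF) : ∀ c, f c = c := by
  set H := MonoidHom.eqLocus f (MonoidHom.id _) with hH
  have m : ∀ {c}, f c = c → c ∈ H := fun h => h
  have h12 : ∀ c ∈ four12, c ∈ H := by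
    intro c hc
    simp only [four12, List.mem_cons, List.not_mem_nil, or_false] at hc
    rcases hc with rfl | rfl | rfl | rfl | rfl | rfl | rfl | rfl | rfl | rfl | rfl | rfl <;>
      repeat' first | apply mul_mem | exact one_mem _ | exact m ha | exact m hb | exact m hg
  have h24 : ∀ c ∈ four12 ++ four12.map (· * pF), c ∈ H := by
    intro c hc
    rcases List.mem_append.1 hc with h | h
    · exact h12 c h
    · obtain ⟨d, hd, rfl⟩ := List.mem_map.1 h
      exact mul_mem (h12 d hd) (m hf)
  have hcard : 24 ≤ Nat.card H := by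
    have hnd := five_gen_facts.1.of_map
    have : Nat.card {c // c ∈ four12 ++ four12.map (· * pF)} ≤ Nat.card H :=
      Nat.card_le_card_of_injective (fun c => (⟨c.1, h24 c.1 c.2⟩ : H))
        fun a b e => Subtype.ext (congrArg Subtype.val e :)
    rwa [Nat.card_eq_fintype_card (α := {c // c ∈ four12 ++ four12.map (· * pF)}),
      Fintype.card_of_subtype (four12 ++ four12.map (· * pF)).toFinset (fun x => List.mem_toFinset),
      List.toFinset_card_of_nodup hnd, five_gen_facts.2] at this
  have hidx : H.index = 1 ∨ H.index = 2 := by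
    have h := H.card_mul_index
    rw [nat_card_alternatingGroup, Nat.card_eq_fintype_card (α := Fin 5), Fintype.card_fin] at h
    have h2 : (Nat.factorial 5) / 2 = 60 := by decide
    rw [h2] at h
    have : H.index ≤ 2 := by
      by_contra hne
      have := Nat.mul_le_mul hcard (Nat.lt_of_not_le hne)
      omega
    have : H.index ≠ 0 := Subgroup.index_ne_zero_of_finite
    omega
  have htop : H = ⊤ := by
    rcases hidx with e | e
    · exact Subgroup.index_eq_one.1 e
    · haveI := Subgroup.normal_of_index_eq_two e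
      rcases (inferInstance : H.Normal).eq_bot_or_eq_top with e' | e'
      · rw [e', Subgroup.card_bot] at hcard
        norm_num at hcard
      · exact e'
  intro c
  exact (htop ▸ Subgroup.mem_top c : c ∈ H)

end CfsgLib.Ext32
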