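import Cfsg.Agent.Lib.Ext32.CentU
import Cfsg.Agent.Lib.Ext32.Five
import Cfsg.Agent.Lib.Small.KleinCentralizer

/-!
# The two possibilities for the centraliser of the second involution
-/

set_option autoImplicit false
set_option linter.unusedSectionVars false
set_option linter.style.haveILetI false
set_option maxRecDepth 100000
set_option maxHeartbeats 4000000

namespace CfsgLib.Ext32

open Cfsg
open CfsgLib.U42 (conj_comm)
open CfsgLib.J1Unique (wv wv_append wv_cons wv_nil)
open scoped Pointwise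

universe u

/-- representatives of the cosets of the four-group -/
def wl4 : List Nat := [0, 131, 167, 180]

theorem vl4_facts : IsSub 2 vl4 ∧ (∀ v ∈ vl4, v ∈ a16 ∧ (v = 0 ∨ v = uN ∨ v = zN ∨ v = 185) ∧
    mulN 2 v v = 0) ∧ tN ∉ vl4 ∧ vl4.length = 4 := by decide +kernel

theorem wl4_facts : (∀ a ∈ a16, ∃ v ∈ vl4, ∃ w ∈ wl4, a = mulN 2 v w) ∧
    (∀ w ∈ wl4, w ∈ a16) ∧ wl4.length = 4 ∧
    (∀ w ∈ wl4, ∀ w' ∈ wl4, mulN 2 (invN 2 w) w' ∈ vl4 → w = w') ∧
    (∀ a ∈ a16, a ∉ vl4 → mulN 2 (invN 2 a) (gAct a) ∉ vl4) := by decide +kernel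

theorem comm_words : (∃ x ∈ a16, mulN 2 (gAct x) x = 180) ∧ (∃ x ∈ a16, mulN 2 (gAct x) x = 167) ∧
    mulN 2 180 180 = 0 ∧ mulN 2 180 167 = 131 ∧ mulN 2 180 167 = mulN 2 167 180 ∧
    gAct 180 = 167 ∧ gAct 167 = 131 ∧ mulN 2 (gAct tN) tN = 131 := by decide +kernel

theorem o_facts : mulN 2 oN oN = 0 ∧ cjN 2 oN 180 = 180 ∧ cjN 2 oN 167 = 131 ∧
    mulN 2 oN uN = mulN 2 uN oN ∧ cjN 2 oN 185 = zN ∧
    evalW (wordsT.getD oN []) = oN ∧ (∀ x ∈ wordsT.getD oN [], x < 4) ∧
    ev8 (wordsT.getD oN [] ++ [4, 7] ++ wordsT.getD oN []) = ev8 [6, 5] := by decide +kernel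

theorem words_lt8 : ∀ x ∈ wordsT.getD oN [] ++ [4, 7] ++ wordsT.getD oN [], x < 8 := by
  decide +kernel

theorem commutator_alt_five : commutator (alternatingGroup (Fin 5)) = ⊤ := by
  haveI : IsSimpleGroup (alternatingGroup (Fin 5)) := alternatingGroup.isSimpleGroup (by simp)
  rcases (inferInstance : (commutator (alternatingGroup (Fin 5))).Normal).eq_bot_or_eq_top with e | e
  · exfalso
    have h := Subgroup.commutator_mem_commutator (Subgroup.mem_top pA) (Subgroup.mem_top pG)
    rw [← commutator_def, e, Subgroup.mem_bot, commutatorElement_eq_one_iff_mul_comm] at h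
    exact absurd (congrArg Subtype.val h) (by decide +kernel)
  · exact e

namespace Cen

variable {G : Type u} [Group G] [Finite G] {t : G} (D : Cen 2 t)
include D

theorem vl4_lt {v : ℕ} (hv : v ∈ vl4) : v < 192 := (vl4_facts.1.2.2.1 v hv).1

/-- The centralizer of the four-group. -/
abbrev U0 : Subgroup G := D.KU ⊓ Subgroup.centralizer ({D.val zN} : Set G)

variable {h k : G} (hh : D.Std h) (hk : (D.twist sndT_facts).Std k) (hhk : h * k = k * h)
  (h36 : IsConj t (D.val 36)) (h42 : ¬ IsConj t (D.val 42))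

include hh hk in
/-- The action of `h k⁻¹` on the group of order sixteen. -/
theorem g_act {x : ℕ} (hx : x ∈ a16) :
    h * k⁻¹ * D.val x * (h * k⁻¹)⁻¹ = D.val (gAct x) := by
  obtain ⟨m0, e0, m2, -⟩ := gAct_facts x hx
  have tw : ∀ i, (D.twist sndT_facts).val i = D.val (appN sndT.1 i) := fun _ => rfl
  have hk2 : k⁻¹ = k * k := inv_eq_of_mul_eq_one_right (by rw [← hk.h3]; simp [pow_succ, mul_assoc])
  have e1 := hk.act _ m0
  have e2 := hk.act _ (phiT_facts.1 _ m0)
  rw [tw, tw] at e1 e2
  rw [e0] at e1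
  calc h * k⁻¹ * D.val x * (h * k⁻¹)⁻¹ = h * (k * (k * D.val x * k⁻¹) * k⁻¹) * h⁻¹ := by
        rw [show h * k⁻¹ = h * k * k by rw [hk2, mul_assoc]]; group
    _ = _ := by rw [e1, e2, hh.act _ m2]; rfl

theorem U0_le : D.U0 ≤ D.KU := inf_le_left

theorem a16_U0 : D.grp a16_facts.1 ≤ D.U0 := by
  rintro _ ⟨a, ha, rfl⟩
  obtain ⟨h1, h2⟩ := a16_ru.1 a ha
  exact Subgroup.mem_inf.2 ⟨Subgroup.mem_centralizer_singleton_iff.2 (D.ru_comm h1),
    Subgroup.mem_centralizer_singleton_iff.2 (D.val_commute (D.a16_lt ha) D.zN_lt h2)⟩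

theorem U0_cent_t {x : G} (hx : x ∈ D.U0) (ht : x * t = t * x) : x ∈ D.grp a16_facts.1 := by
  obtain ⟨hu, hz⟩ := Subgroup.mem_inf.1 hx
  obtain ⟨m, hm, rfl⟩ := D.mem_ru ht (Subgroup.mem_centralizer_singleton_iff.1 hu)
  exact ⟨m, a16_ru.2 m hm (D.mul_val_eq (D.ru_lt hm) D.zN_lt
    (Subgroup.mem_centralizer_singleton_iff.1 hz)), rfl⟩

theorem vl4_central {v : ℕ} (hv : v ∈ vl4) {x : G} (hx : x ∈ D.U0) :
    x * D.val v = D.val v * x := by
  obtain ⟨hu, hz⟩ := Subgroup.mem_inf.1 hx
  rcases (vl4_facts.2.1 v hv).2.1 with rfl | rfl | rfl | rfl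
  · rw [D.val_zero, mul_one, one_mul]
  · exact Subgroup.mem_centralizer_singleton_iff.1 hu
  · exact Subgroup.mem_centralizer_singleton_iff.1 hz
  · rw [← z_facts.2.2.2.1, D.val_mul _ _ D.zN_lt D.uN_lt]
    exact ((show Commute x (D.val zN) from Subgroup.mem_centralizer_singleton_iff.1 hz).mul_right
      (Subgroup.mem_centralizer_singleton_iff.1 hu)).eq

include hh hk hhk h36 h42

/-- A two-subgroup of the centralizer of the four-group has order at most sixteen. -/
theorem U0_two {S : Subgroup G} (hS : S ≤ D.U0) (hp : IsPGroup 2 S) : Nat.card S ≤ 16 := by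
  obtain ⟨hA, hAl, -⟩ := a16_facts
  set S' := S ⊔ Subgroup.zpowers (D.val zN) with hS'
  obtain ⟨hzz, hz0, -, hzuv, -, -, -, -, -, h185u⟩ := z_facts
  have hz2 : orderOf (D.val zN) = 2 := D.val_invol D.zN_lt hzz hz0
  have hzK : D.val zN ∈ D.KU :=
    Subgroup.mem_centralizer_singleton_iff.2 (D.ru_comm ru_facts.2.2.2.2.1)
  have hp' : IsPGroup 2 S' := by
    refine IsPGroup.to_sup_of_normal_left' hp
      (IsPGroup.of_card (n := 1) (by rw [Nat.card_zpowers, hz2, pow_one])) ?_
    rw [Subgroup.zpowers_le]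
    refine Subgroup.mem_normalizer_iff.2 fun a => ⟨fun ha => ?_, fun ha => ?_⟩
    · have := Subgroup.mem_centralizer_singleton_iff.1 (Subgroup.mem_inf.1 (hS ha)).2
      rwa [← this, mul_inv_cancel_right]
    · have := Subgroup.mem_centralizer_singleton_iff.1 (Subgroup.mem_inf.1 (hS ha)).2
      have e : a = D.val zN * a * (D.val zN)⁻¹ := by
        calc a = (D.val zN)⁻¹ * (D.val zN * a * (D.val zN)⁻¹) * D.val zN := by group
          _ = (D.val zN)⁻¹ * (D.val zN * (D.val zN * a * (D.val zN)⁻¹)) := by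
            rw [mul_assoc, this]
          _ = _ := by group
      rwa [e]
  obtain ⟨c, hc, hcS⟩ := D.conj_into_ru hh hk hhk h36 h42
    (sup_le (hS.trans inf_le_left) (Subgroup.zpowers_le.2 hzK)) hp'
  obtain ⟨w, hw, hwv⟩ := hcS _ (Subgroup.mem_sup_right (Subgroup.mem_zpowers _))
  have hwc := D.conj_z hh hk hhk h36 h42 hc hw hwv
  have hsub : S.map (MulAut.conj c).toMonoidHom ≤ D.grp hA := by
    rintro _ ⟨x, hx, rfl⟩
    obtain ⟨m, hm, hmv⟩ := hcS x (Subgroup.mem_sup_left hx)
    refine ⟨m, a16_ru.2 m hm (D.mul_val_eq (D.ru_lt hm) D.zN_lt ?_), hmv⟩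
    have e := conj_comm (h := c) (Subgroup.mem_centralizer_singleton_iff.1 (Subgroup.mem_inf.1 (hS hx)).2)
    rw [← hwv, ← hmv] at e
    rcases hwc with rfl | rfl
    · exact e
    · rw [← h185u, D.val_mul _ _ (by norm_num) D.uN_lt]
      exact ((show Commute (D.val m) (D.val 185) from e).mul_right (D.ru_comm hm)).eq
  have := Subgroup.card_le_of_le hsub
  rwa [← Nat.card_congr (S.equivMapOfInjective _ (MulAut.conj c).injective).toEquiv, D.card_grp,
    hAl] at this

/-- A two-subgroup of the centralizer of the four-group containing the group of order sixteen is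
equal to it. -/
theorem U0_two_eq {S : Subgroup G} (hS : S ≤ D.U0) (hp : IsPGroup 2 S)
    (hA : D.grp a16_facts.1 ≤ S) : S = D.grp a16_facts.1 :=
  (Subgroup.eq_of_le_of_card_ge hA (by
    rw [D.card_grp, a16_facts.2.1]
    exact D.U0_two hh hk hhk h36 h42 hS hp)).symm

/-- Only the group of order sixteen fixes `t` modulo the four-group. -/
theorem coset_fix {x : G} (hx : x ∈ D.U0) {v : ℕ} (hv : v ∈ vl4)
    (he : x * t * x⁻¹ = t * D.val v) : x ∈ D.grp a16_facts.1 := by
  haveI : Fact (Nat.Prime 2) := ⟨Nat.prime_two⟩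
  obtain ⟨hA, hAl, htA, hAp, -⟩ := a16_facts
  have hvl := D.vl4_lt hv
  have hvv : D.val v * D.val v = 1 := by
    rw [← D.val_mul v v hvl hvl, (vl4_facts.2.1 v hv).2.2, D.val_zero]
  have hxv := D.vl4_central hv hx
  have hAU := D.a16_U0
  have hnorm : ∀ a ∈ D.grp hA, x * a * x⁻¹ ∈ D.grp hA := by
    intro a ha
    have haU := hAU ha
    refine D.U0_cent_t (mul_mem (mul_mem hx haU) (inv_mem hx)) ?_
    obtain ⟨m, hm, rfl⟩ := ha
    have e := conj_comm (h := x) (D.val_comm m (D.a16_lt hm))
    rw [he] at e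
    have e2 : Commute (x * D.val m * x⁻¹) (D.val v) := by
      have := D.vl4_central hv (mul_mem (mul_mem hx haU) (inv_mem hx))
      exact this
    have e3 := (show Commute (x * D.val m * x⁻¹) (t * D.val v) from e).mul_right e2
    rw [mul_assoc t, hvv, mul_one] at e3
    exact e3.eq
  have h2A : x * x ∈ D.grp hA := by
    refine D.U0_cent_t (mul_mem hx hx) (mul_inv_eq_iff_eq_mul.1 ?_)
    calc x * x * t * (x * x)⁻¹ = x * (x * t * x⁻¹) * x⁻¹ := by group
      _ = x * (t * D.val v) * x⁻¹ := by rw [he]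
      _ = x * t * x⁻¹ * (x * D.val v * x⁻¹) := by group
      _ = t * D.val v * D.val v := by rw [he, hxv, mul_inv_cancel_right]
      _ = t := by rw [mul_assoc, hvv, mul_one]
  obtain ⟨m, hm, hmv⟩ := h2A
  have h4 : x ^ 4 = 1 := by
    rw [show x ^ 4 = x * x * (x * x) by simp [pow_succ, mul_assoc], ← hmv,
      ← D.val_mul m m (D.a16_lt hm) (D.a16_lt hm), (hAp m hm).1, D.val_zero]
  obtain ⟨j, -, hj⟩ := (Nat.dvd_prime_pow Nat.prime_two).1
    (show orderOf x ∣ 2 ^ 2 from orderOf_dvd_of_pow_eq_one h4)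
  have hle : Subgroup.zpowers x ≤ Subgroup.normalizer (D.grp hA : Set G) := by
    rw [Subgroup.zpowers_le, Subgroup.mem_normalizer_iff]
    refine fun a => ⟨hnorm a, fun ha => ?_⟩
    have h3 := hnorm _ (hnorm _ (hnorm _ ha))
    rwa [show x * (x * (x * (x * a * x⁻¹) * x⁻¹) * x⁻¹) * x⁻¹ = x ^ 4 * a * (x ^ 4)⁻¹ by
      simp [pow_succ, mul_assoc], h4, one_mul, inv_one, mul_one] at h3
  have := D.U0_two_eq hh hk hhk h36 h42 (S := D.grp hA ⊔ Subgroup.zpowers x)
    (sup_le hAU (Subgroup.zpowers_le.2 hx))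
    (IsPGroup.to_sup_of_normal_left' (IsPGroup.of_card (n := 4) (by rw [D.card_grp, hAl]; norm_num))
      (IsPGroup.of_card (n := j) (by rw [Nat.card_zpowers, hj])) hle) le_sup_left
  exact this ▸ Subgroup.mem_sup_right (Subgroup.mem_zpowers x)

/-- Either the centralizer of `84` lies in the subgroup of degree eight, or it has the frame. -/
theorem cent_u_cases {ψ : alternatingGroup (Fin 8) →* G}
    (hψ : ∀ w : List ℕ, (∀ x ∈ w, x < 8) → ψ (alt8 w) = wv (D.lets h k) w) :
    (∀ x, x * D.val uN = D.val uN * x → x ∈ ψ.range) ∨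
      ∃ ι : alternatingGroup (Fin 5) →* G, UFr D h k ι := by
  classical
  haveI : Fact (Nat.Prime 2) := ⟨Nat.prime_two⟩
  obtain ⟨hA, hAl, htA, hAp, hAc, -, hAh, -⟩ := a16_facts
  obtain ⟨hV, hVf, htV, hVl⟩ := vl4_facts
  set g := h * k⁻¹ with hg
  have l4 : wv (D.lets h k) [4] = h := by rw [wv_cons, wv_nil, mul_one]; rfl
  have l7 : wv (D.lets h k) [7] = k⁻¹ := by rw [wv_cons, wv_nil, mul_one]; rfl
  have hR : ∀ m < 192, D.val m ∈ ψ.range := fun m hm => by
    obtain ⟨h1, h2⟩ := words_ok m (mem_els hm)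
    exact ⟨alt8 (wordsT.getD m []), by
      rw [hψ _ fun x hx => lt_trans (h2 x hx) (by norm_num), D.wv_word h k h2, h1]⟩
  have hgR : g ∈ ψ.range := ⟨alt8 [4, 7], by
    rw [hψ _ (by simp), show [4, 7] = [4] ++ [7] from rfl, wv_append, l4, l7]⟩
  have gact : ∀ {x : ℕ}, x ∈ a16 → g * D.val x * g⁻¹ = D.val (gAct x) :=
    fun hx => D.g_act hh hk hx
  obtain ⟨gu, gz, -, -, -, -, gt⟩ := gAct_vals
  have hcomm : ∀ {x : ℕ}, x ∈ a16 → gAct x = x → g * D.val x = D.val x * g := fun hx e => by
    have := gact hx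
    rw [e] at this
    exact mul_inv_eq_iff_eq_mul.1 this
  have hgU : g ∈ D.U0 := Subgroup.mem_inf.2
    ⟨Subgroup.mem_centralizer_singleton_iff.2 (hcomm (show uN ∈ a16 by decide +kernel) gu),
      Subgroup.mem_centralizer_singleton_iff.2 (hcomm (show zN ∈ a16 by decide +kernel) gz)⟩
  have hg3 : g ^ 3 = 1 := by
    rw [hg, Commute.mul_pow (show Commute h k⁻¹ from (show Commute h k from hhk).inv_right),
      inv_pow, hh.h3, hk.h3, inv_one, mul_one]
  set o := D.val oN with ho
  have hol : oN < 192 := by norm_num [oN]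
  obtain ⟨hoo, ho180, ho167, houc, ho185, how, howl, ho8⟩ := o_facts
  have hou : o * D.val uN = D.val uN * o := D.val_commute hol D.uN_lt houc
  have hoz : o * D.val zN * o⁻¹ = D.val 185 := by
    rw [ho, ← D.val_cj hol D.zN_lt, z_facts.2.2.2.2.2.2.2.2.1]
  have hoo' : o * o = 1 := by rw [ho, ← D.val_mul _ _ hol hol, hoo, D.val_zero]
  have hoi : o⁻¹ = o := inv_eq_of_mul_eq_one_right hoo'
  have split : ∀ x, x * D.val uN = D.val uN * x → x ∈ D.U0 ∨ o * x ∈ D.U0 := by
    intro x hx
    have hxK : x ∈ D.KU := Subgroup.mem_centralizer_singleton_iff.2 hx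
    rcases D.z_pair hh hk hhk h36 h42 hx with e | e
    · exact Or.inl (Subgroup.mem_inf.2
        ⟨hxK, Subgroup.mem_centralizer_singleton_iff.2 (mul_inv_eq_iff_eq_mul.1 e)⟩)
    · refine Or.inr (Subgroup.mem_inf.2
        ⟨mul_mem (Subgroup.mem_centralizer_singleton_iff.2 hou) hxK,
          Subgroup.mem_centralizer_singleton_iff.2 (mul_inv_eq_iff_eq_mul.1 ?_)⟩)
      rw [show o * x * D.val zN * (o * x)⁻¹ = o * (x * D.val zN * x⁻¹) * o⁻¹ by group, e, ho,
        ← D.val_cj hol (by norm_num), ho185]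
  -- the quotient by the four-group
  have hVU : D.grp hV ≤ D.U0 := by
    rintro _ ⟨v, hv, rfl⟩
    exact D.a16_U0 ⟨v, (hVf v hv).1, rfl⟩
  set V' := (D.grp hV).subgroupOf D.U0 with hV'
  haveI : V'.Normal := ⟨fun n hn y => by
    obtain ⟨v, hv, hvn⟩ := hn
    refine ⟨v, hv, ?_⟩
    show D.val v = (y : G) * (n : G) * (y : G)⁻¹
    rw [← show D.val v = (n : G) from hvn, D.vl4_central hv y.2, mul_inv_cancel_right]⟩
  set mk := QuotientGroup.mk' V' with hmk
  have mk_eq : ∀ a b : D.U0, mk a = mk b ↔ ∃ v ∈ vl4, (b : G) = (a : G) * D.val v := by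
    intro a b
    show (QuotientGroup.mk a : D.U0 ⧸ V') = QuotientGroup.mk b ↔ _
    rw [QuotientGroup.eq]
    constructor
    · rintro ⟨v, hv, e⟩
      exact ⟨v, hv, by rw [show D.val v = (a : G)⁻¹ * (b : G) from e, mul_inv_cancel_left]⟩
    · rintro ⟨v, hv, e⟩
      exact ⟨v, hv, show D.val v = (a : G)⁻¹ * (b : G) by rw [e, inv_mul_cancel_left]⟩
  have htgrp : t ∈ D.grp hA := ⟨tN, htA, D.val_tau⟩
  have htU : t ∈ D.U0 := D.a16_U0 htgrp
  set tY := mk ⟨t, htU⟩ with htY
  set A' := (D.grp hA).subgroupOf D.U0 with hA'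
  have hcentY : Subgroup.centralizer ({tY} : Set (D.U0 ⧸ V')) = A'.map mk := by
    refine le_antisymm (fun y hy => ?_) ?_
    · obtain ⟨x, rfl⟩ := QuotientGroup.mk'_surjective V' y
      refine ⟨x, ?_, rfl⟩
      have hy' := Subgroup.mem_centralizer_singleton_iff.1 hy
      rw [htY, ← map_mul, ← map_mul] at hy'
      obtain ⟨v, hv, e⟩ := (mk_eq _ _).1 hy'.symm
      have e' : (x : G) * t = t * (x : G) * D.val v := e
      refine D.coset_fix hh hk hhk h36 h42 x.2 hv ?_
      show (x : G) * t * (x : G)⁻¹ = t * D.val v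
      rw [e', mul_assoc t, D.vl4_central hv x.2, ← mul_assoc, mul_inv_cancel_right]
    · rintro _ ⟨x, ⟨m, hm, hmx⟩, rfl⟩
      rw [Subgroup.mem_centralizer_singleton_iff, htY, ← map_mul, ← map_mul]
      congr 1
      refine Subtype.ext ?_
      show (x : G) * t = t * (x : G)
      rw [← show D.val m = (x : G) from hmx]
      exact D.val_comm m (D.a16_lt hm)
  have hwU : ∀ w ∈ wl4, D.val w ∈ D.U0 := fun w hw => D.a16_U0 ⟨w, wl4_facts.2.1 w hw, rfl⟩
  have hcard4 : Nat.card (Subgroup.centralizer ({tY} : Set (D.U0 ⧸ V'))) = 4 := by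
    rw [hcentY]
    let f : {w // w ∈ wl4} → A'.map mk := fun w =>
      ⟨mk ⟨D.val w.1, hwU w.1 w.2⟩, _, ⟨w.1, wl4_facts.2.1 w.1 w.2, rfl⟩, rfl⟩
    have hf : Function.Bijective f := by
      refine ⟨fun a b e => Subtype.ext ?_, ?_⟩
      · obtain ⟨v, hv, ev⟩ := (mk_eq _ _).1 (congrArg Subtype.val e)
        have la := D.a16_lt (wl4_facts.2.1 a.1 a.2)
        have lb := D.a16_lt (wl4_facts.2.1 b.1 b.2)
        refine wl4_facts.2.2.2.1 a.1 a.2 b.1 b.2 ?_
        rw [D.val_inj (mulN 2 (invN 2 a.1) b.1) v (mulN_lt ..) (D.vl4_lt hv) (by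
          rw [D.val_mul _ _ (invN_lt D.hk la) lb, D.val_inv la,
            show D.val b.1 = D.val a.1 * D.val v from ev, inv_mul_cancel_left])]
        exact hv
      · rintro ⟨_, x, ⟨m, hm, hmx⟩, rfl⟩
        obtain ⟨v, hv, w, hw, rfl⟩ := wl4_facts.1 m hm
        refine ⟨⟨w, hw⟩, Subtype.ext ((mk_eq _ _).2 ⟨v, hv, ?_⟩)⟩
        show (x : G) = D.val w * D.val v
        rw [← show D.val (mulN 2 v w) = (x : G) from hmx,
          D.val_mul _ _ (D.vl4_lt hv) (D.a16_lt (wl4_facts.2.1 w hw)),
          D.vl4_central hv (hwU w hw)]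
    rw [← Nat.card_eq_of_bijective f hf, Nat.card_eq_fintype_card,
      Fintype.card_of_subtype wl4.toFinset (fun x => List.mem_toFinset)]
    decide
  have hexp : ∀ c ∈ Subgroup.centralizer ({tY} : Set (D.U0 ⧸ V')), c ^ 2 = 1 := by
    rw [hcentY]
    rintro _ ⟨x, ⟨m, hm, hmx⟩, rfl⟩
    rw [← map_pow, show x ^ 2 = 1 from Subtype.ext (by
      rw [SubgroupClass.coe_pow, pow_two, ← show D.val m = (x : G) from hmx,
        ← D.val_mul m m (D.a16_lt hm) (D.a16_lt hm), (hAp m hm).1, D.val_zero]
      rfl), map_one]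
  have htY2 : orderOf tY = 2 := by
    refine orderOf_eq_prime ?_ fun e => ?_
    · rw [htY, ← map_pow, show (⟨t, htU⟩ : D.U0) ^ 2 = 1 from Subtype.ext (by
        rw [SubgroupClass.coe_pow, pow_two]; exact D.tt), map_one]
    · rw [htY, ← map_one mk] at e
      obtain ⟨v, hv, ev⟩ := (mk_eq _ _).1 e.symm
      have ev' : t = D.val v := by simpa using ev
      exact htV (D.val_inj v tN (D.vl4_lt hv) D.t_lt (ev'.symm.trans D.val_tau.symm) ▸ hv)
  -- no normal two-complement
  have hnc : ¬ Cfsg.HasNormalPComplement 2 (D.U0 ⧸ V') := by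
    rintro ⟨P, N, hN, hNP⟩
    haveI := hN
    have hodd : ¬ 2 ∣ Nat.card N := by
      rw [← hNP.index_eq_card]; exact P.not_dvd_index
    obtain ⟨j, hj⟩ := IsPGroup.iff_card.1 P.2
    have hgN : mk ⟨g, hgU⟩ ∈ N := by
      rw [← QuotientGroup.eq_one_iff, ← orderOf_eq_one_iff]
      have d3 : orderOf (QuotientGroup.mk (mk ⟨g, hgU⟩) : (D.U0 ⧸ V') ⧸ N) ∣ 3 := by
        refine orderOf_dvd_of_pow_eq_one ?_
        rw [← QuotientGroup.mk_pow, ← map_pow,
          show (⟨g, hgU⟩ : D.U0) ^ 3 = 1 from Subtype.ext (by simpa using hg3), map_one,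
          QuotientGroup.mk_one]
      have d2 : orderOf (QuotientGroup.mk (mk ⟨g, hgU⟩) : (D.U0 ⧸ V') ⧸ N) ∣ 2 ^ j := by
        have hi : N.index = 2 ^ j := by rw [hNP.symm.index_eq_card, hj]
        rw [← hi, Subgroup.index_eq_card]
        exact _root_.orderOf_dvd_natCard _
      exact Nat.Coprime.eq_one_of_dvd
        ((Nat.Coprime.pow_right j (by norm_num : Nat.Coprime 3 2)).coprime_dvd_left d3) d2
    have h131 : mk ⟨g, hgU⟩ * (tY * (mk ⟨g, hgU⟩)⁻¹ * tY⁻¹) ∈ N :=
      mul_mem hgN (hN.conj_mem _ (inv_mem hgN) tY)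
    set y := mk ⟨g, hgU⟩ * (tY * (mk ⟨g, hgU⟩)⁻¹ * tY⁻¹) with hy
    have hyv : y = mk ⟨D.val 131, hwU 131 (by decide)⟩ := by
      rw [hy, htY, ← map_inv, ← map_inv, ← map_mul, ← map_mul, ← map_mul]
      refine congrArg mk (Subtype.ext ?_)
      show g * (t * g⁻¹ * t⁻¹) = D.val 131
      have e := gact htA
      rw [D.val_tau] at e
      have e3 := D.val_mul (gAct tN) tN (by rw [gt]; norm_num) D.t_lt
      rw [comm_words.2.2.2.2.2.2.2, D.val_tau] at e3
      rw [← mul_assoc, ← mul_assoc, e, D.tinv, e3]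
    have hy2 : orderOf y = 2 := by
      refine orderOf_eq_prime (hexp y ?_) fun e => ?_
      · rw [hcentY, hyv]
        exact ⟨_, ⟨131, wl4_facts.2.1 131 (by decide), rfl⟩, rfl⟩
      · rw [hyv, ← map_one mk] at e
        obtain ⟨v, hv, ev⟩ := (mk_eq _ _).1 e.symm
        have ev' : D.val 131 = D.val v := by simpa using ev
        have hx := D.val_inj 131 v (by norm_num) (D.vl4_lt hv) ev'
        rw [← hx] at hv
        exact absurd hv (by decide)
    exact hodd (hy2 ▸ Subgroup.orderOf_dvd_natCard N h131)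
  rcases CfsgLib.Small.klein_centralizer_cases tY htY2 hcard4 hexp hnc with
    ⟨E, hEn, ⟨-, hE2⟩, hE⟩ | ⟨⟨eY⟩⟩
  · left
    haveI := hEn
    rcases hE with hE | hE
    · exfalso
      obtain ⟨⟨a, haE⟩, hane⟩ : ∃ a : E, a ≠ 1 := by
        haveI : Nontrivial E := Finite.one_lt_card_iff_nontrivial.1 (by omega)
        exact exists_ne 1
      have ha1 : a ≠ 1 := fun e => hane (Subtype.ext e)
      have hcen : ∀ y, y * a * y⁻¹ = a := by
        intro y
        haveI : Fintype E := Fintype.ofFinite _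
        obtain ⟨x0, y0, hne, hall⟩ := Nat.card_eq_two_iff.1 hE
        have hm : ∀ z : E, z = 1 ∨ z = ⟨a, haE⟩ := fun z => by
          have hz : z ∈ ({x0, y0} : Set E) := hall ▸ Set.mem_univ z
          have h1 : (1 : E) ∈ ({x0, y0} : Set E) := hall ▸ Set.mem_univ _
          have h2 : (⟨a, haE⟩ : E) ∈ ({x0, y0} : Set E) := hall ▸ Set.mem_univ _
          simp only [Set.mem_insert_iff, Set.mem_singleton_iff] at hz h1 h2
          rcases hz with rfl | rfl <;> rcases h1 with h1 | h1 <;> rcases h2 with h2 | h2 <;>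
            first | exact Or.inl h1.symm | exact Or.inr h2.symm |
              exact absurd (h1.trans h2.symm) hane.symm
        rcases hm ⟨_, hEn.conj_mem a haE y⟩ with e | e
        · exact absurd (conj_eq_one_iff.1 (congrArg Subtype.val e)) ha1
        · exact congrArg Subtype.val e
      have haC : a ∈ Subgroup.centralizer ({tY} : Set (D.U0 ⧸ V')) :=
        Subgroup.mem_centralizer_singleton_iff.2 (mul_inv_eq_iff_eq_mul.1 (hcen tY)).symm
      rw [hcentY] at haC
      obtain ⟨x, ⟨m, hm, hmx⟩, rfl⟩ := haC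
      have hmv : m ∉ vl4 := fun hmv => ha1 (by
        rw [← map_one mk, eq_comm, mk_eq]
        exact ⟨m, hmv, by simpa using hmx.symm⟩)
      refine wl4_facts.2.2.2.2 m hm hmv ?_
      have e := hcen (mk ⟨g, hgU⟩)
      rw [← map_inv, ← map_mul, ← map_mul, eq_comm, mk_eq] at e
      obtain ⟨v, hv, ev⟩ := e
      change g * (x : G) * g⁻¹ = (x : G) * D.val v at ev
      rw [← show D.val m = (x : G) from hmx, gact hm] at ev
      have hgm := D.a16_lt (gAct_facts m hm).2.2.2
      rw [D.val_inj (mulN 2 (invN 2 m) (gAct m)) v (mulN_lt ..) (D.vl4_lt hv) (by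
        rw [D.val_mul _ _ (invN_lt D.hk (D.a16_lt hm)) hgm, D.val_inv (D.a16_lt hm), ev,
          inv_mul_cancel_left])]
      exact hv
    · set S := (E.comap mk).map D.U0.subtype with hS
      have hS16 : Nat.card S = 16 := by
        rw [hS, ← Nat.card_congr ((E.comap mk).equivMapOfInjective _
          D.U0.subtype_injective).toEquiv]
        have h1 := (E.comap mk).card_mul_index
        rw [Subgroup.index_comap_of_surjective _ (QuotientGroup.mk'_surjective V')] at h1
        have h2 := E.card_mul_index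
        rw [hE] at h2
        have h3 := V'.card_mul_index
        rw [Subgroup.index_eq_card,
          Nat.card_congr (Subgroup.subgroupOfEquivOfLe hVU).toEquiv, D.card_grp, hVl, ← h2,
          ← h1] at h3
        have hpos : 0 < E.index := Nat.pos_of_ne_zero Subgroup.index_ne_zero_of_finite
        exact (Nat.eq_of_mul_eq_mul_right hpos (show 16 * E.index = _ by rw [← h3]; ring)).symm
      have hSle : S ≤ D.U0 := Subgroup.map_subtype_le _
      haveI hSn : ((S).subgroupOf D.U0).Normal := by
        rw [hS, Subgroup.subgroupOf, Subgroup.comap_map_eq_self_of_injective D.U0.subtype_injective]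
        infer_instance
      have hnormS : D.grp hA ≤ Subgroup.normalizer (S : Set G) :=
        (D.a16_U0).trans ((Subgroup.normal_subgroupOf_iff_le_normalizer hSle).1 hSn)
      have hSA : S = D.grp hA := by
        have h := D.U0_two_eq hh hk hhk h36 h42 (S := D.grp hA ⊔ S) (sup_le D.a16_U0 hSle)
          (IsPGroup.to_sup_of_normal_right' (IsPGroup.of_card (n := 4) (by
              rw [D.card_grp, hAl]; norm_num))
            (IsPGroup.of_card (n := 4) (by rw [hS16]; norm_num)) hnormS) le_sup_left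
        exact Subgroup.eq_of_le_of_card_ge (h ▸ le_sup_right) (by
          rw [D.card_grp, hAl, hS16])
      have hAn : ∀ x ∈ D.U0, ∀ a ∈ D.grp hA, x * a * x⁻¹ ∈ D.grp hA := by
        rw [← hSA]
        intro x hx a ha
        exact (Subgroup.mem_normalizer_iff.1
          ((Subgroup.normal_subgroupOf_iff_le_normalizer hSle).1 hSn hx) a).1 ha
      have hU0 : ∀ x ∈ D.U0, x ∈ ψ.range := by
        intro x hx
        obtain ⟨m, hm, hmv⟩ := hAn x hx t htgrp
        have hml := D.a16_lt hm
        have hm0 : m ≠ 0 := by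
          rintro rfl
          rw [D.val_zero, eq_comm, conj_eq_one_iff] at hmv
          have := D.ord
          rw [hmv, orderOf_one] at this
          norm_num at this
        obtain ⟨v, hv, hcases⟩ := orbit_t m hm ((D.tcls_iff hh hk hhk h36 h42 hml hm0 (hAp m hm).1).1
          (isConj_iff.2 ⟨x, hmv.symm⟩))
        have htv : mulN 2 tN v ∈ a16 := hA.2.2.2 tN htA v (hVf v hv).1
        have e0 : D.val (mulN 2 tN v) = t * D.val v := by
          rw [D.val_mul _ _ D.t_lt (D.vl4_lt hv), D.val_tau]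
        obtain ⟨c, hcU, hcR, hc⟩ : ∃ c, c ∈ D.U0 ∧ c ∈ ψ.range ∧
            c * (t * D.val v) * c⁻¹ = D.val m := by
          rcases hcases with rfl | rfl | rfl
          · exact ⟨1, one_mem _, one_mem _, by rw [e0]; group⟩
          · exact ⟨g, hgU, hgR, by rw [← e0, gact htv]⟩
          · refine ⟨g * g, mul_mem hgU hgU, mul_mem hgR hgR, ?_⟩
            rw [← e0, ← gact (gAct_facts _ htv).2.2.2, ← gact htv]
            group
        have hA' := D.coset_fix hh hk hhk h36 h42 (x := c⁻¹ * x) (mul_mem (inv_mem hcU) hx) hv (by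
          rw [show c⁻¹ * x * t * (c⁻¹ * x)⁻¹ = c⁻¹ * (x * t * x⁻¹) * c by group, ← hmv, ← hc]
          group)
        obtain ⟨a, ha, hav⟩ := hA'
        rw [show x = c * D.val a by rw [hav, mul_inv_cancel_left]]
        exact mul_mem hcR (hR a (D.a16_lt ha))
      intro x hx
      rcases split x hx with e | e
      · exact hU0 x e
      · rw [show x = o * (o * x) by rw [← mul_assoc, hoo', one_mul]]
        exact mul_mem (hR oN hol) (hU0 _ e)
  · right
    set N := ⁅D.U0, D.U0⁆ with hN
    have hNU : N ≤ D.U0 := by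
      rw [hN, Subgroup.commutator_le]
      intro a ha b hb
      exact mul_mem (mul_mem (mul_mem ha hb) (inv_mem ha)) (inv_mem hb)
    have hNmap : (commutator D.U0).map D.U0.subtype = N := by
      rw [hN, commutator_def, Subgroup.map_commutator, ← MonoidHom.range_eq_map,
        Subgroup.range_subtype]
    haveI : IsMulCommutative A' := ⟨⟨fun a b => by
      obtain ⟨m, hm, hmv⟩ := a.2
      obtain ⟨n, hn, hnv⟩ := b.2
      refine Subtype.ext (Subtype.ext ?_)
      show ((a : D.U0) : G) * ((b : D.U0) : G) = ((b : D.U0) : G) * ((a : D.U0) : G)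
      rw [← show D.val m = ((a : D.U0) : G) from hmv, ← show D.val n = ((b : D.U0) : G) from hnv]
      exact D.val_commute (D.a16_lt hm) (D.a16_lt hn) (hAc m hm n hn)⟩⟩
    letI : CommGroup A' := { (inferInstance : Group A') with mul_comm := fun a b => mul_comm' a b }
    have hA16 : Nat.card A' = 16 := by
      rw [Nat.card_congr (Subgroup.subgroupOfEquivOfLe D.a16_U0).toEquiv, D.card_grp, hAl]
    have hidx : Odd A'.index := by
      obtain ⟨P, hP⟩ := (IsPGroup.of_card (n := 4)
        (show Nat.card A' = 2 ^ 4 by rw [hA16]; norm_num)).exists_le_sylow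
      have h := D.U0_two hh hk hhk h36 h42 (S := (P : Subgroup D.U0).map D.U0.subtype)
        (Subgroup.map_subtype_le _) (P.2.map _)
      rw [← Nat.card_congr ((P : Subgroup D.U0).equivMapOfInjective _
        D.U0.subtype_injective).toEquiv] at h
      have : A' = (P : Subgroup D.U0) := Subgroup.eq_of_le_of_card_ge hP (by rwa [hA16])
      rw [this, Nat.odd_iff]
      have := P.not_dvd_index
      omega
    -- the transfer separates the four-group from the derived subgroup
    have hdisj : ∀ v ∈ vl4, D.val v ∈ N → v = 0 := by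
      intro v hv hvN
      rw [← hNmap] at hvN
      obtain ⟨x, hx, hxv⟩ := hvN
      have hxv' : (x : G) = D.val v := hxv
      have hker : commutator D.U0 ≤
          (MonoidHom.transfer (MonoidHom.id A')).ker := by
        rw [commutator_def, Subgroup.commutator_le]
        intro a _ b _
        rw [MonoidHom.mem_ker, commutatorElement_def, map_mul, map_mul, map_mul, map_inv, map_inv]
        simp [mul_comm]
      have h1 : MonoidHom.transfer (MonoidHom.id A') x = 1 := hker hx
      rw [MonoidHom.transfer_eq_pow (MonoidHom.id A') x (fun i g0 _ => by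
        have hxc : Commute g0 x := Subtype.ext (by
          show (g0 : G) * (x : G) = (x : G) * (g0 : G)
          rw [hxv']
          exact D.vl4_central hv g0.2)
        rw [mul_assoc, ← (hxc.pow_right i).eq, inv_mul_cancel_left])] at h1
      have h2 : x ^ A'.index = 1 := congrArg Subtype.val h1
      have h3 : x ^ 2 = 1 := Subtype.ext (by
        rw [SubgroupClass.coe_pow, hxv', pow_two, ← D.val_mul v v (D.vl4_lt hv) (D.vl4_lt hv),
          (hVf v hv).2.2, D.val_zero]
        rfl)
      have h4 : orderOf x = 1 := Nat.Coprime.eq_one_of_dvd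
        (Nat.Coprime.coprime_dvd_left (orderOf_dvd_of_pow_eq_one h2) (Nat.coprime_two_right.2 hidx))
        (orderOf_dvd_of_pow_eq_one h3)
      rw [orderOf_eq_one_iff] at h4
      exact D.val_eq_one (D.vl4_lt hv) (by rw [← hxv', h4]; rfl)
    -- the derived subgroup is the alternating group of degree five
    set f : N →* alternatingGroup (Fin 5) :=
      (eY.toMonoidHom.comp mk).comp (Subgroup.inclusion hNU) with hf
    have hfinj : Function.Injective f := by
      rw [injective_iff_map_eq_one]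
      intro x hx
      have h1 : mk (Subgroup.inclusion hNU x) = mk 1 := by
        rw [map_one]
        exact eY.injective (hx.trans eY.map_one.symm)
      obtain ⟨v, hv, e⟩ := (mk_eq _ _).1 h1
      have e' : (1 : G) = (x : G) * D.val v := e
      have hxv : (x : G) = D.val v := by
        rw [eq_inv_of_mul_eq_one_left e'.symm]
        refine inv_eq_of_mul_eq_one_right ?_
        rw [← D.val_mul v v (D.vl4_lt hv) (D.vl4_lt hv), (hVf v hv).2.2, D.val_zero]
      have := hdisj v hv (hxv ▸ x.2)
      exact Subtype.ext (by rw [hxv, this, D.val_zero]; rfl)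
    have hfsurj : Function.Surjective f := by
      intro c
      have hc : c ∈ (commutator D.U0).map (eY.toMonoidHom.comp mk) := by
        rw [commutator_def, Subgroup.map_commutator, ← MonoidHom.range_eq_map,
          MonoidHom.range_eq_top.2 (eY.surjective.comp (QuotientGroup.mk'_surjective V')),
          ← commutator_def, commutator_alt_five]
        exact Subgroup.mem_top c
      obtain ⟨x, hx, rfl⟩ := hc
      exact ⟨⟨x.1, hNmap ▸ Subgroup.mem_map_of_mem _ hx⟩, rfl⟩
    set eN : N ≃* alternatingGroup (Fin 5) := MulEquiv.ofBijective f ⟨hfinj, hfsurj⟩ with heN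
    -- every element of the centralizer of the four-group splits
    have hsplit : ∀ x ∈ D.U0, ∃ v ∈ vl4, ∃ n ∈ N, x = D.val v * n := by
      intro x hx
      obtain ⟨n, hn⟩ := hfsurj (eY (mk ⟨x, hx⟩))
      obtain ⟨v, hv, e⟩ := (mk_eq _ _).1 (eY.injective hn)
      refine ⟨v, hv, n, n.2, ?_⟩
      rw [show x = (n : G) * D.val v from e]
      exact D.vl4_central hv (hNU n.2)
    have hgN : g ∈ N := by
      obtain ⟨v, hv, n, hn, e⟩ := hsplit g hgU
      have hvv : D.val v * D.val v = 1 := by
        rw [← D.val_mul v v (D.vl4_lt hv) (D.vl4_lt hv), (hVf v hv).2.2, D.val_zero]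
      have e4 : g = n ^ 4 := by
        calc g = g ^ 4 := by rw [show g ^ 4 = g ^ 3 * g by rw [← pow_succ], hg3, one_mul]
          _ = D.val v ^ 4 * n ^ 4 := by
            rw [e, Commute.mul_pow (show Commute (D.val v) n from (D.vl4_central hv (hNU hn)).symm)]
          _ = n ^ 4 := by
            rw [show D.val v ^ 4 = D.val v * D.val v * (D.val v * D.val v) by
              simp [pow_succ, mul_assoc], hvv, one_mul, one_mul]
      rw [e4]; exact pow_mem hn 4
    obtain ⟨⟨x1, hx1, he1⟩, ⟨x2, hx2, he2⟩, h180, h131, h180c, hg180, hg167, -⟩ := comm_words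
    have hcm : ∀ x ∈ a16, D.val (mulN 2 (gAct x) x) ∈ N := by
      intro x hx
      have := Subgroup.commutator_mem_commutator (H₁ := D.U0) (H₂ := D.U0) hgU
        (D.a16_U0 ⟨x, hx, rfl⟩)
      rwa [commutatorElement_def, gact hx, ← D.val_inv (D.a16_lt hx),
        show invN 2 x = x by
          have : ∀ x ∈ a16, invN 2 x = x := by decide +kernel
          exact this x hx,
        ← D.val_mul _ _ (D.a16_lt (gAct_facts x hx).2.2.2) (D.a16_lt hx)] at this
    have hA180 : D.val 180 ∈ N := he1 ▸ hcm x1 hx1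
    have hB167 : D.val 167 ∈ N := he2 ▸ hcm x2 hx2
    set a := eN ⟨_, hA180⟩ with ha
    set b := eN ⟨_, hB167⟩ with hb
    set c := eN ⟨g, hgN⟩ with hc
    have h180m : (180 : ℕ) ∈ a16 := wl4_facts.2.1 180 (by decide)
    have h167m : (167 : ℕ) ∈ a16 := wl4_facts.2.1 167 (by decide)
    have hg1 : g ≠ 1 := fun e => by
      have e' := gact h180m
      rw [e, hg180, one_mul, inv_one, mul_one] at e'
      exact absurd (D.val_inj 180 167 (by norm_num) (by norm_num) e') (by norm_num)
    obtain ⟨s, sA, sB, sG⟩ := five_std a.1 (Equiv.Perm.mem_alternatingGroup.1 a.2)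
      (by
        have : a * a = 1 := by
          rw [ha, ← map_mul, show (⟨_, hA180⟩ : N) * ⟨_, hA180⟩ = 1 from Subtype.ext (by
            show D.val 180 * D.val 180 = 1
            rw [← D.val_mul _ _ (by norm_num) (by norm_num), h180, D.val_zero]), map_one]
        exact congrArg Subtype.val this)
      (fun e => by
        have e' : a = 1 := Subtype.ext e
        rw [ha, ← map_one eN] at e'
        exact absurd (D.val_eq_one (by norm_num) (congrArg Subtype.val (eN.injective e'))) (by norm_num))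
      c.1 (Equiv.Perm.mem_alternatingGroup.1 c.2)
      (by
        have : c * c * c = 1 := by
          rw [hc, ← map_mul, ← map_mul, show (⟨g, hgN⟩ : N) * ⟨g, hgN⟩ * ⟨g, hgN⟩ = 1 from
            Subtype.ext (by show g * g * g = 1; rw [← hg3]; simp [pow_succ]), map_one]
        exact congrArg Subtype.val this)
      (fun e => by
        have e' : c = 1 := Subtype.ext e
        rw [hc, ← map_one eN] at e'
        exact hg1 (congrArg Subtype.val (eN.injective e')))
      b.1
      (by
        have : b = c * a * c⁻¹ := by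
          rw [ha, hb, hc, ← map_inv, ← map_mul, ← map_mul]
          refine congrArg eN (Subtype.ext ?_)
          show D.val 167 = g * D.val 180 * g⁻¹
          rw [gact h180m, hg180]
        exact congrArg Subtype.val this)
      (by
        have : a * b = b * a := by
          rw [ha, hb, ← map_mul, ← map_mul]
          exact congrArg eN (Subtype.ext (D.val_commute (by norm_num) (by norm_num) h180c))
        exact congrArg Subtype.val this)
      (by
        have : c * b * c⁻¹ = a * b := by
          rw [ha, hb, hc, ← map_inv, ← map_mul, ← map_mul, ← map_mul]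
          refine congrArg eN (Subtype.ext ?_)
          show g * D.val 167 * g⁻¹ = D.val 180 * D.val 167
          rw [gact h167m, hg167, ← D.val_mul _ _ (by norm_num) (by norm_num), h131]
        exact congrArg Subtype.val this)
      (fun e => by
        have e' : b = a := Subtype.ext e
        exact absurd (D.val_inj 167 180 (by norm_num) (by norm_num)
          (congrArg Subtype.val (eN.injective e'))) (by norm_num))
    have hsalt : ∀ x : alternatingGroup (Fin 5), s * x.1 * s⁻¹ ∈ alternatingGroup (Fin 5) :=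
      fun x => (inferInstance : (alternatingGroup (Fin 5)).Normal).conj_mem x.1 x.2 s
    let cs : alternatingGroup (Fin 5) →* alternatingGroup (Fin 5) :=
      { toFun := fun x => ⟨s * x.1 * s⁻¹, hsalt x⟩
        map_one' := Subtype.ext (by simp)
        map_mul' := fun x y => Subtype.ext (by
          show s * (x.1 * y.1) * s⁻¹ = s * x.1 * s⁻¹ * (s * y.1 * s⁻¹)
          group) }
    have hcs : Function.Bijective cs := Finite.injective_iff_bijective.1 fun x y e =>
      Subtype.ext (mul_left_cancel (mul_right_cancel (congrArg Subtype.val e :)))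
    set ι : alternatingGroup (Fin 5) →* G := (N.subtype.comp eN.symm.toMonoidHom).comp cs with hι
    have hιinj : Function.Injective ι :=
      (N.subtype_injective.comp eN.symm.injective).comp hcs.1
    have hιN : ∀ x, ι x ∈ N := fun x => (eN.symm (cs x)).2
    have hιU : ∀ x, ι x ∈ D.U0 := fun x => hNU (hιN x)
    have himg : ∀ (p : alternatingGroup (Fin 5)) (y : N), s * p.1 = (eN y).1 * s → ι p = y :=
      fun p y e => by
        have : cs p = eN y := Subtype.ext (by
          show s * p.1 * s⁻¹ = _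
          rw [e, mul_inv_cancel_right])
        show ((eN.symm (cs p) : N) : G) = y
        rw [this, MulEquiv.symm_apply_apply]
    have hιA := himg pA ⟨_, hA180⟩ sA
    have hιB := himg pB ⟨_, hB167⟩ sB
    have hιG := himg pG ⟨g, hgN⟩ sG
    have hιsurj : ∀ n ∈ N, ∃ x, ι x = n := fun n hn => by
      obtain ⟨x, hx⟩ := hcs.2 (eN ⟨n, hn⟩)
      exact ⟨x, by show ((eN.symm (cs x) : N) : G) = n; rw [hx, MulEquiv.symm_apply_apply]⟩
    -- the action of `42`
    have hoU : ∀ x ∈ D.U0, o * x * o⁻¹ ∈ D.U0 := by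
      intro x hx
      obtain ⟨h1, -⟩ := Subgroup.mem_inf.1 hx
      have hoK : o ∈ D.KU := Subgroup.mem_centralizer_singleton_iff.2 hou
      refine Subgroup.mem_inf.2 ⟨mul_mem (mul_mem hoK h1) (inv_mem hoK),
        Subgroup.mem_centralizer_singleton_iff.2 ?_⟩
      have e185 := conj_comm (h := o) (D.vl4_central (v := 185) (by decide) hx)
      rwa [show o * D.val 185 * o⁻¹ = D.val zN by rw [ho, ← D.val_cj hol (by norm_num), ho185]]
        at e185
    have hoN' : ∀ n ∈ N, o * n * o⁻¹ ∈ N := by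
      intro n hn
      have h1 : N.map (MulAut.conj o).toMonoidHom ≤ N := by
        rw [hN, Subgroup.map_commutator]
        refine Subgroup.commutator_mono ?_ ?_ <;>
          · rintro _ ⟨x, hx, rfl⟩; exact hoU x hx
      exact h1 ⟨n, hn, rfl⟩
    choose th hth using fun x => hιsurj _ (hoN' _ (hιN x))
    have th_hom : ∀ x y, th (x * y) = th x * th y := fun x y => hιinj (by
      rw [hth, map_mul, map_mul, hth, hth]; simp [mul_assoc])
    let θh : alternatingGroup (Fin 5) →* alternatingGroup (Fin 5) :=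
      MonoidHom.mk' (fun x => theta (th x)) fun x y => by
        refine Subtype.ext ?_
        show Equiv.swap 2 3 * (th (x * y)).1 * Equiv.swap 2 3 =
          Equiv.swap 2 3 * (th x).1 * Equiv.swap 2 3 * (Equiv.swap 2 3 * (th y).1 * Equiv.swap 2 3)
        rw [th_hom, Subgroup.coe_mul]
        simp [mul_assoc]
    have theta2 : ∀ x, theta (theta x) = x := fun x => Subtype.ext (by
      show Equiv.swap 2 3 * (Equiv.swap 2 3 * x.1 * Equiv.swap 2 3) * Equiv.swap 2 3 = x.1
      simp [mul_assoc])
    obtain ⟨f1, f2, f3, f4, f5, f6, tA, tB, tG⟩ := pF_facts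
    have og : o * g * o⁻¹ = g⁻¹ := by
      have e1 : ψ (alt8 (wordsT.getD oN [] ++ [4, 7] ++ wordsT.getD oN [])) = o * g * o := by
        rw [hψ _ words_lt8, wv_append, show [4, 7] = [4] ++ [7] from rfl, wv_append, wv_append, l4,
          l7, D.wv_word h k howl, how, hg]
      have e2 : ψ (alt8 [6, 5]) = g⁻¹ := by
        rw [hψ _ (by simp), wv_cons, wv_cons, wv_nil, mul_one, hg, mul_inv_rev, inv_inv]
        rfl
      rw [hoi, ← e1, ← e2]
      congr 1
      refine Subtype.ext ?_
      show toPerm _ = toPerm _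
      rw [toPerm_wv words_lt8, toPerm_wv (by simp), ho8]
    have fA : θh pA = pA := by
      show theta (th pA) = pA
      rw [show th pA = pA from hιinj (by
        rw [hth, hιA]
        show o * D.val 180 * o⁻¹ = D.val 180
        rw [ho, ← D.val_cj hol (by norm_num), ho180])]
      exact Subtype.ext tA
    have fB : θh pB = pB := by
      show theta (th pB) = pB
      rw [show th pB = theta pB from hιinj (by
        rw [hth, hιB, show theta pB = pA * pB from Subtype.ext tB, map_mul, hιA, hιB]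
        show o * D.val 167 * o⁻¹ = D.val 180 * D.val 167
        rw [ho, ← D.val_cj hol (by norm_num), ho167, ← h131, D.val_mul _ _ (by norm_num) (by norm_num)]),
        theta2]
    have fG : θh pG = pG := by
      show theta (th pG) = pG
      rw [show th pG = theta pG from hιinj (by
        rw [hth, hιG, show theta pG = pG⁻¹ from Subtype.ext tG, map_inv, hιG]
        exact og), theta2]
    have hθinj : Function.Injective θh := fun x y e => by
      have e' : th x = th y := by
        rw [← theta2 (th x), ← theta2 (th y)]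
        exact congrArg theta e
      apply hιinj
      have := congrArg ι e'
      rw [hth, hth] at this
      exact mul_left_cancel (mul_right_cancel this)
    have pw : ∀ (q : alternatingGroup (Fin 5)) (n : ℕ), θh q = q → (pF.1 * q.1) ^ n = 1 →
        ((θh pF).1 * q.1) ^ n = 1 := by
      intro q n hq hn
      have e1 : (pF * q) ^ n = 1 := Subtype.ext hn
      have e2 := congrArg θh e1
      rw [map_pow, map_mul, hq, map_one] at e2
      exact congrArg Subtype.val e2
    have fF : θh pF = pF := by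
      refine Subtype.ext (five_unique _ ?_ (pw pA 3 fA f2) (pw pB 5 fB f3) (pw pG 3 fG f4) ?_ ?_)
      · have e := congrArg θh (show pF * pF = 1 from Subtype.ext f1)
        rw [map_mul, map_one] at e
        exact congrArg Subtype.val e
      · exact pw (pA * pB) 5 (by rw [map_mul, fA, fB]) f5
      · intro e
        exact f6 (congrArg Subtype.val (hθinj (show θh pF = θh 1 by rw [map_one]; exact Subtype.ext e)))
    refine ⟨ι, hιinj, hιA, hιB, hιG, fun v hv x => (D.vl4_central hv (hιU x)).symm, ?_, fun x => ?_,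
      fun x hx => ?_⟩
    · intro v hv x e
      have h1 : D.val v ∈ N := by
        rw [eq_inv_of_mul_eq_one_left e]; exact inv_mem (hιN x)
      have hv0 := hdisj v hv h1
      refine ⟨hv0, hιinj ?_⟩
      rw [hv0, D.val_zero, one_mul] at e
      rw [e, map_one]
    · have e := hom_eq_id θh fA fB fG fF x
      have e' : th x = theta x := by
        rw [← theta2 (th x)]
        exact congrArg theta e
      rw [← e', hth]
    · rcases split x hx with e | e
      · obtain ⟨v, hv, n, hn, rfl⟩ := hsplit x e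
        obtain ⟨y, rfl⟩ := hιsurj n hn
        exact ⟨v, hv, y, 0, by norm_num, by rw [pow_zero, mul_one]⟩
      · have e2 := hoU _ e
        rw [show o * (o * x) * o⁻¹ = x * o by rw [← mul_assoc o o x, hoo', one_mul, hoi]] at e2
        obtain ⟨v, hv, n, hn, hxo⟩ := hsplit _ e2
        obtain ⟨y, rfl⟩ := hιsurj n hn
        exact ⟨v, hv, y, 1, by norm_num, by
          rw [pow_one, ← hxo, mul_assoc, hoo', mul_one]⟩

end Cen

end CfsgLib.Ext32
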