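import Cfsg.Agent.Lib.Ext32.Outcome1
import Cfsg.Agent.Lib.Ext32.UCases
import Cfsg.Agent.Lib.Ext32.Count
import Cfsg.Agent.Lib.Ext32.Nine

/-!
# The three outcomes for the alternating type

According to the classes fused with `t`, the group is an extension of `2 ^ 3` by the group of
order `168`, the alternating group of degree eight or that of degree nine.
-/

set_option autoImplicit false
set_option linter.unusedSectionVars false
set_option linter.style.haveILetI false
set_option maxRecDepth 100000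
set_option maxHeartbeats 2000000

namespace CfsgLib.Ext32

open CfsgLib.Involutions CfsgLib.J1Unique
open scoped Pointwise

universe u

theorem swT_facts : IsAut 2 swT ∧ appN swT.1 vN = vN := by decide +kernel

theorem swT_cls : ∀ p ∈ alphas, ∀ q ∈ alphas,
    appN p.1 (appN swT.1 (appN q.2 36)) ∈ clsOf 2 42 ++ clsOf 2 97 ∧
    appN p.1 (appN swT.1 (appN q.2 42)) ∈ clsOf 2 36 ++ clsOf 2 1 := by decide +kernel

theorem sndT_cls : appN sndT.1 vN ∈ clsOf 2 36 ++ clsOf 2 1 := by decide +kernel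

/-- An element of the subgroup conjugates the first element to the second. -/
def ConjIn {G : Type u} [Group G] (R : Subgroup G) (a b : G) : Prop :=
  ∃ r ∈ R, r * a * r⁻¹ = b

namespace ConjIn

variable {G : Type u} [Group G] {R : Subgroup G} {a b c : G}

theorem symm (e : ConjIn R a b) : ConjIn R b a := by
  obtain ⟨r, hr, rfl⟩ := e
  exact ⟨r⁻¹, inv_mem hr, by group⟩

theorem trans (e : ConjIn R a b) (e' : ConjIn R b c) : ConjIn R a c := by
  obtain ⟨r, hr, rfl⟩ := e
  obtain ⟨s, hs, rfl⟩ := e'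
  exact ⟨s * r, mul_mem hs hr, by group⟩

theorem isConj (e : ConjIn R a b) : IsConj a b := by
  obtain ⟨r, -, h⟩ := e
  exact isConj_iff.2 ⟨r, h⟩

theorem cent_le (e : ConjIn R a b) (ha : ∀ x, x * a = a * x → x ∈ R) :
    ∀ x, x * b = b * x → x ∈ R := by
  obtain ⟨r, hr, rfl⟩ := e
  intro x hx
  have h : r⁻¹ * x * r ∈ R := ha _ (by
    calc r⁻¹ * x * r * a = r⁻¹ * (x * (r * a * r⁻¹)) * r := by group
      _ = r⁻¹ * ((r * a * r⁻¹) * x) * r := by rw [hx]
      _ = a * (r⁻¹ * x * r) := by group)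
  have := mul_mem (mul_mem hr h) (inv_mem hr)
  rwa [show r * (r⁻¹ * x * r) * r⁻¹ = x by group] at this

end ConjIn

/-- A subgroup holding the centralizers of its involutions, which fall into two classes, is
everything. -/
theorem eq_top_of_two_classes {G : Type u} [Group G] [Finite G] {R : Subgroup G} {a b : G}
    (ha : orderOf a = 2) (hb : orderOf b = 2) (hab : ¬ IsConj a b) (haR : a ∈ R) (hbR : b ∈ R)
    (hca : ∀ x, x * a = a * x → x ∈ R) (hcb : ∀ x, x * b = b * x → x ∈ R)
    (hcls : ∀ v ∈ R, orderOf v = 2 → ConjIn R a v ∨ ConjIn R b v) : R = ⊤ := by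
  have hin : ∀ w : G, orderOf w = 2 → w ∈ R := by
    intro w hw
    by_contra hwR
    have key : ∀ c, orderOf c = 2 → (∀ x, x * c = c * x → x ∈ R) → IsConj c w := by
      intro c hc hcc
      by_contra hne
      have heven : Even (orderOf (c * w)) := by
        by_contra ho
        exact hne (isConj_of_odd_prod hc hw (Nat.not_even_iff_odd.1 ho))
      set z := (c * w) ^ (orderOf (c * w) / 2) with hz
      have hz2 : orderOf z = 2 := half_invol heven
      have hzc : c * z = z * c := (half_comm_left hc hw heven).eq.symm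
      have hzw : w * z = z * w := (half_comm_right hc hw heven).eq.symm
      have hzR : z ∈ R := hcc z hzc.symm
      rcases hcls z hzR hz2 with e | e
      exacts [hwR (e.cent_le hca w hzw), hwR (e.cent_le hcb w hzw)]
    exact hab ((key a ha hca).trans (key b hb hcb).symm)
  rw [eq_top_iff]
  intro g _
  rcases hcls _ (hin (g * a * g⁻¹) (conj_invol g ha)) (conj_invol g ha) with e | e
  · obtain ⟨r, hr, hre⟩ := e
    have hc : r⁻¹ * g ∈ R := hca _ (by
      calc r⁻¹ * g * a = r⁻¹ * (g * a * g⁻¹) * g := by group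
        _ = r⁻¹ * (r * a * r⁻¹) * g := by rw [hre]
        _ = a * (r⁻¹ * g) := by group)
    have := mul_mem hr hc
    rwa [mul_inv_cancel_left] at this
  · exact absurd ((isConj_iff.2 ⟨g, rfl⟩).trans e.isConj.symm) hab

namespace Cen

variable {G : Type u} [Group G] [Finite G] {t : G}

/-- The conclusion of the theorem. -/
def Outcomes (G : Type u) [Group G] : Prop :=
  (∃ (N : Subgroup G) (_ : N.Normal), IsMulCommutative N ∧ (∀ n ∈ N, n ^ 2 = 1) ∧ Nat.card N = 8 ∧
    Nonempty (G ⧸ N ≃* Matrix.ProjectiveSpecialLinearGroup (Fin 3) (ZMod 2))) ∨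
  Nonempty (G ≃* alternatingGroup (Fin 8)) ∨ Nonempty (G ≃* alternatingGroup (Fin 9))

section Main

variable (D : Cen 2 t) {h k : G} (hh : D.Std h) (hk : (D.twist sndT_facts).Std k)
include hh hk

/-- The involutions of the subgroup of degree eight. -/
theorem conjIn_cases {R : Subgroup G} (hR : ∀ m < 192, D.val m ∈ R) (hhR : h ∈ R) (hkR : k ∈ R)
    {v : G} (hvR : v ∈ R) (hv : orderOf v = 2) :
    ConjIn R t v ∨ ConjIn R (D.val uN) v := by
  classical
  haveI : Fact (Nat.Prime 2) := ⟨Nat.prime_two⟩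
  have inC : ∀ {a m : ℕ}, m ∈ clsOf 2 a → ConjIn R (D.val a) (D.val m) := fun {a m} hm => by
    obtain ⟨p, hp, hpa, hm'⟩ := D.cls_mem hm
    obtain ⟨n, hn, e⟩ := class_conj 2 D.hkr p hp m hm'
    refine ⟨D.val n, hR n (els_lt hn), ?_⟩
    rw [← hpa, ← D.val_cj (els_lt hn) (class_lt 2 D.hkr p hp).1, e]
  have key : ∀ {m a b : ℕ}, m ∈ rl 2 → m ∈ clsOf 2 a → appN phiT m ∈ clsOf 2 b →
      ConjIn R (D.val b) (D.val a) := fun {m a b} h1 h2 h3 =>
    ((inC h3).trans (ConjIn.symm ⟨h, hhR, hh.act m h1⟩)).trans (inC h2).symm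
  obtain ⟨⟨m1, a1, a2, a3⟩, m2, b1, b2, b3⟩ := fusion_facts
  have c1 : ConjIn R (D.val 36) (D.val 1) := key a1 a2 a3
  have c2 : ConjIn R (D.val 42) (D.val 97) := key b1 b2 b3
  have hcv : ConjIn R t (D.val vN) := ⟨h, hhR, hh.ht⟩
  have hc36 : ConjIn R t (D.val 36) := by
    have e : ConjIn R t (D.val (appN sndT.1 vN)) := ⟨k, hkR, hk.ht⟩
    rcases List.mem_append.1 sndT_cls with h' | h'
    exacts [e.trans (inC h').symm, (e.trans (inC h').symm).trans c1.symm]
  have hc42 : ConjIn R (D.val uN) (D.val 42) := by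
    rcases List.mem_append.1 ru_facts.2.1 with h' | h'
    exacts [(inC h').symm, (inC h').symm.trans c2.symm]
  obtain ⟨P, hP⟩ := D.exists_sylow
  have hle : (P : Subgroup G) ≤ R := hP ▸ (by
    rintro _ ⟨m, hm, rfl⟩
    exact hR m (syl_facts.1.2.2.1 m hm).1)
  obtain ⟨Q, hQ⟩ := (IsPGroup.of_card (n := 1)
    (show Nat.card (Subgroup.zpowers (⟨v, hvR⟩ : R)) = 2 ^ 1 by
      rw [Nat.card_zpowers, Subgroup.orderOf_mk, hv, pow_one])).exists_le_sylow
  obtain ⟨w, hw⟩ := MulAction.exists_smul_eq R Q (P.subtype hle)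
  have hmem : w * (⟨v, hvR⟩ : R) * w⁻¹ ∈ (P.subtype hle : Subgroup R) := by
    rw [← hw, Sylow.coe_subgroup_smul]
    exact Subgroup.smul_mem_pointwise_smul _ (MulAut.conj w) _ (hQ (Subgroup.mem_zpowers _))
  rw [Sylow.coe_subtype, Subgroup.mem_subgroupOf, hP] at hmem
  obtain ⟨m, hm, hmv⟩ := hmem
  simp only [Subgroup.coe_mul, Subgroup.coe_inv] at hmv
  have hvm : ConjIn R v (D.val m) := ⟨w, w.2, hmv.symm⟩
  have hml := (syl_facts.1.2.2.1 m hm).1
  have ho : orderOf (D.val m) = 2 := by
    rw [hmv]; exact conj_invol _ hv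
  obtain ⟨n, hn, hnv, p, hp, hnp⟩ := D.invol_val ho (D.val_comm m hml)
  obtain rfl := D.val_inj n m hn hml hnv
  obtain ⟨j, hj, e⟩ := class_conj 2 D.hkr p hp n hnp
  have hpn : ConjIn R (D.val p.1) (D.val n) :=
    ⟨D.val j, hR j (els_lt hj), by rw [← D.val_cj (els_lt hj) (class_lt 2 D.hkr p hp).1, e]⟩
  have := (cls2_cases p hp).1
  simp only [List.mem_cons, List.not_mem_nil, or_false] at this
  rcases this with e | e | e | e | e | e <;> rw [e] at hpn
  · rw [D.val_tau] at hpn; exact Or.inl (hpn.trans hvm.symm)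
  · exact Or.inl ((hcv.trans hpn).trans hvm.symm)
  · exact Or.inl ((hc36.trans hpn).trans hvm.symm)
  · exact Or.inr ((hc42.trans hpn).trans hvm.symm)
  · exact Or.inl (((hc36.trans c1).trans hpn).trans hvm.symm)
  · exact Or.inr (((hc42.trans c2).trans hpn).trans hvm.symm)

/-- Two classes of involutions lead to the alternating groups. -/
theorem outcomes_two (hhk : h * k = k * h) (h36 : IsConj t (D.val 36))
    (h42 : ¬ IsConj t (D.val 42)) : Outcomes G := by
  classical
  obtain ⟨ψ, hinj, hψ⟩ := D.exists_a8 hh hk hhk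
  set R := ψ.range with hRdef
  have hR : ∀ m < 192, D.val m ∈ R := fun m hm => by
    obtain ⟨h1, h2⟩ := words_ok m (mem_els hm)
    exact ⟨alt8 (wordsT.getD m []), by
      rw [hψ _ fun x hx => lt_trans (h2 x hx) (by norm_num), D.wv_word h k h2, h1]⟩
  have hhR : h ∈ R := ⟨alt8 [4], by rw [hψ _ (by simp), wv_cons, wv_nil, mul_one]; rfl⟩
  have hkR : k ∈ R := by
    have : k⁻¹ ∈ R := ⟨alt8 [7], by rw [hψ _ (by simp), wv_cons, wv_nil, mul_one]; rfl⟩
    exact inv_inv k ▸ inv_mem this
  have hu : orderOf (D.val uN) = 2 :=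
    D.val_invol (by norm_num [uN]) (UMod.invol_cls uN (List.mem_append_right _ ru_facts.2.1)).2
      (UMod.invol_cls uN (List.mem_append_right _ ru_facts.2.1)).1
  have hne : ¬ IsConj t (D.val uN) := fun e =>
    h42 (e.trans ((D.conj_t_iff hh h36 h42 (by norm_num [uN]) hu).2.1.2 ru_facts.2.1).symm)
  have htR : t ∈ R := D.val_tau ▸ hR tN D.t_lt
  have hct : ∀ x, x * t = t * x → x ∈ R := fun x hx => by
    obtain ⟨m, hm, rfl⟩ := D.val_surj x hx
    exact hR m hm
  rcases D.cent_u_cases hh hk hhk h36 h42 hψ with hcu | ⟨ι, F⟩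
  · have htop : R = ⊤ := eq_top_of_two_classes D.ord hu hne htR (hR uN (by norm_num [uN])) hct hcu
      fun v hv ho => D.conjIn_cases hh hk hR hhR hkR hv ho
    exact Or.inr (Or.inl ⟨(MulEquiv.ofBijective ψ
      ⟨hinj, fun g => (htop ▸ Subgroup.mem_top g : g ∈ R)⟩).symm⟩)
  · have hG := D.card_eq hh hk hhk h36 h42 F
    refine Or.inr (Or.inr (iso_a9 hG ψ hinj fun hn => ?_))
    have htop : R = ⊤ := by
      rw [eq_top_iff]
      intro g _
      rcases D.conjIn_cases hh hk hR hhR hkR (hn.conj_mem t htR g) (conj_invol g D.ord) with e | e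
      · obtain ⟨r, hr, hre⟩ := e
        have hc : r⁻¹ * g ∈ R := hct _ (by
          calc r⁻¹ * g * t = r⁻¹ * (g * t * g⁻¹) * g := by group
            _ = r⁻¹ * (r * t * r⁻¹) * g := by rw [hre]
            _ = t * (r⁻¹ * g) := by group)
        have := mul_mem hr hc
        rwa [mul_inv_cancel_left] at this
      · exact absurd ((isConj_iff.2 ⟨g, rfl⟩).trans e.isConj.symm) hne
    have h8 : Nat.card R = 20160 := by
      rw [hRdef, ← Nat.card_congr (MonoidHom.ofInjective hinj).toEquiv, nat_card_alternatingGroup,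
        Nat.card_fin]
      rfl
    rw [htop, Subgroup.card_top, hG] at h8
    norm_num at h8

end Main

/-- Coordinates with a standard element and `36` fused with `t` alone give the alternating
groups. -/
theorem outcomes_std (D : Cen 2 t) {h : G} (hh : D.Std h) (h36 : IsConj t (D.val 36))
    (h42 : ¬ IsConj t (D.val 42)) : Outcomes G := by
  obtain ⟨k, hhk, hk⟩ := D.exists_second hh h36 h42
  exact D.outcomes_two hh hk hhk h36 h42

/-- The groups of alternating type. -/
theorem classify (D : Cen 2 t) (hx : IsConj t (D.val vN)) :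
    (∃ (N : Subgroup G) (hN : N.Normal), IsMulCommutative N ∧ (∀ n ∈ N, n ^ 2 = 1) ∧
        Nat.card N = 8 ∧
        Nonempty (G ⧸ N ≃* Matrix.ProjectiveSpecialLinearGroup (Fin 3) (ZMod 2))) ∨
      Nonempty (G ≃* alternatingGroup (Fin 8)) ∨ Nonempty (G ≃* alternatingGroup (Fin 9)) := by
  obtain ⟨p, hp, h, hh⟩ := D.exists_std hx
  set D1 := D.twist (alpha_facts p hp).1 with hD1
  by_cases h36 : IsConj t (D1.val 36) <;> by_cases h42 : IsConj t (D1.val 42)
  · exact (D1.one_class_false hh h36 h42).elim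
  · exact D1.outcomes_std hh h36 h42
  · obtain ⟨q, hq, h', hh'⟩ :=
      (D.twist swT_facts.1).exists_std (by rw [twist_val, swT_facts.2]; exact hx)
    set D2 := (D.twist swT_facts.1).twist (alpha_facts q hq).1 with hD2
    have hval : ∀ m < 192, D2.val m = D1.val (appN p.1 (appN swT.1 (appN q.2 m))) := fun m hm => by
      have l1 := ((alpha_facts q hq).1.1 m (mem_els hm)).1
      have l2 := (swT_facts.1.1 _ (mem_els l1)).1
      show D.val (appN swT.1 (appN q.2 m)) = D.val (appN p.2 (appN p.1 (appN swT.1 (appN q.2 m))))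
      rw [show appN p.2 (appN p.1 (appN swT.1 (appN q.2 m))) = appN swT.1 (appN q.2 m) from
        ((alpha_facts p hp).1.1 _ (mem_els l2)).2.2.1]
    obtain ⟨c1, c2⟩ := D1.conj_one hh
    obtain ⟨f36, f42⟩ := swT_cls p hp q hq
    refine D2.outcomes_std hh' ?_ ?_
    · rw [hval 36 (by norm_num)]
      rcases List.mem_append.1 f36 with e | e
      exacts [h42.trans (D1.clsOf_conj e), (h42.trans c2).trans (D1.clsOf_conj e)]
    · intro e'
      rw [hval 42 (by norm_num)] at e'
      rcases List.mem_append.1 f42 with e | e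
      exacts [h36 (e'.trans (D1.clsOf_conj e).symm),
        h36 ((e'.trans (D1.clsOf_conj e).symm).trans c1.symm)]
  · exact Or.inl (D1.outcome1 hh h36 h42)

end Cen

end CfsgLib.Ext32
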