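import Cfsg.Agent.Lib.Ext32.Recognise
import Cfsg.Agent.Lib.PGroups.Extraspecial

/-!
# The centraliser is one of the models: the isomorphism
-/

set_option autoImplicit false
set_option linter.unusedSectionVars false
set_option linter.style.haveILetI false
set_option maxRecDepth 100000
set_option maxHeartbeats 4000000

namespace CfsgLib.Ext32

universe u

theorem xAct_lt (i q : ℕ) : xAct i q < 32 := Nat.mod_lt _ (by norm_num)

theorem bAct_lt (k q : ℕ) : bAct k q < 32 := Nat.mod_lt _ (by norm_num)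

theorem qMul_lt (a b : ℕ) : qMul a b < 32 := Nat.mod_lt _ (by norm_num)

theorem betaN_lt (p r q : ℕ) : betaN p r q < 32 := qMul_lt _ _

theorem qMul_sixteen : ∀ q ∈ List.range 32, qMul q 16 = qMul 16 q := by decide +kernel

theorem inv_unique : ∀ k ∈ List.range 4, ∀ m ∈ els, ∀ n ∈ els, mulN k m n = 0 → m = invN k n := by
  decide +kernel

theorem x_pow_mod {G : Type u} [Group G] {x : G} (hx : x * x * x = 1) (n : ℕ) :
    x ^ n = x ^ (n % 3) := by
  have h3 : x ^ 3 = 1 := by rw [pow_succ, pow_two, hx]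
  conv_lhs => rw [← Nat.div_add_mod n 3, pow_add, pow_mul, h3, one_pow, one_mul]

variable {G : Type u} [Group G] [Finite G] {Q : Subgroup G} {s x i w : G}

theorem qv_zero : qv s x i w 0 = 1 := by simp [qv, unitL]

theorem qv_four : qv s x i w 4 = i := by simp [qv, unitL]

theorem qv_one : qv s x i w 1 = w := by simp [qv, unitL]

theorem qv_sixteen : qv s x i w 16 = s := by simp [qv, unitL]

theorem qv_top {a : ℕ} (ha : a < 2) : qv s x i w (16 * a) = s ^ a := by
  interval_cases a <;> simp [qv, unitL]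

namespace Frame

variable (F : Frame Q s x i w) (T : Act Q s x)
include F T

theorem qv_ph2 {q : ℕ} (hq : q < 32) :
    x⁻¹ * qv s x i w q * x = qv s x i w (ph (ph q)) := by
  have e : x⁻¹ = x * x := inv_eq_of_mul_eq_one_right (by rw [← mul_assoc, F.hx])
  have hl := (ph_facts q (List.mem_range.2 hq)).1
  rw [← F.qv_ph T.hxQ T.hcm hl, ← F.qv_ph T.hxQ T.hcm hq]
  calc x⁻¹ * qv s x i w q * x = x⁻¹ * qv s x i w q * (x⁻¹)⁻¹ := by rw [inv_inv]
    _ = x * x * qv s x i w q * (x * x)⁻¹ := by rw [e]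
    _ = x * (x * qv s x i w q * x⁻¹) * x⁻¹ := by group

variable {b : G} {p r : ℕ}

theorem beta (hb : b * x * b⁻¹ = x⁻¹) (hbs : b * s = s * b) (hp' : p < 32) (hr' : r < 32)
    (hp : b * i * b⁻¹ = qv s x i w p) (hr : b * w * b⁻¹ = qv s x i w r) {q : ℕ} (hq : q < 32) :
    b * qv s x i w q * b⁻¹ = qv s x i w (betaN p r q) := by
  have hbx : ∀ z, b * (x * z * x⁻¹) * b⁻¹ = x⁻¹ * (b * z * b⁻¹) * x := fun z => by
    calc b * (x * z * x⁻¹) * b⁻¹ = (b * x * b⁻¹) * (b * z * b⁻¹) * (b * x * b⁻¹)⁻¹ := by group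
      _ = _ := by rw [hb, inv_inv]
  have key : ∀ {y : G} {n : ℕ}, n < 32 → b * y * b⁻¹ = qv s x i w n → ∀ a < 4,
      b * unitL y (x * y * x⁻¹) a * b⁻¹ =
        qv s x i w ([0, n, ph (ph n), qMul n (ph (ph n))].getD a 0) := by
    intro y n hn hy a ha
    have h2 : b * (x * y * x⁻¹) * b⁻¹ = qv s x i w (ph (ph n)) := by
      rw [hbx, hy, F.qv_ph2 T hn]
    interval_cases a
    · show b * 1 * b⁻¹ = qv s x i w 0
      rw [qv_zero, mul_one, mul_inv_cancel]
    · exact hy
    · exact h2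
    · show b * (y * (x * y * x⁻¹)) * b⁻¹ = qv s x i w (qMul n (ph (ph n)))
      have hl : ph (ph n) < 32 :=
        (ph_facts _ (List.mem_range.2 (ph_facts n (List.mem_range.2 hn)).1)).1
      rw [F.qv_mul T.hxQ T.hcm hn hl, ← hy, ← h2, conj_mul]
  have lt4 : ∀ {n : ℕ}, n < 32 → ∀ a < 4, [0, n, ph (ph n), qMul n (ph (ph n))].getD a 0 < 32 := by
    intro n hn a ha
    have hl : ph (ph n) < 32 :=
      (ph_facts _ (List.mem_range.2 (ph_facts n (List.mem_range.2 hn)).1)).1
    interval_cases a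
    exacts [by norm_num, hn, hl, qMul_lt _ _]
  have hs' : b * s ^ (q / 16) * b⁻¹ = s ^ (q / 16) := by
    rw [((show Commute b s from hbs).pow_right _).eq, mul_inv_cancel_right]
  unfold betaN
  rw [F.qv_mul T.hxQ T.hcm (qMul_lt _ _) (lt4 hr' _ (Nat.mod_lt _ (by norm_num))),
    F.qv_mul T.hxQ T.hcm (show 16 * (q / 16) < 32 by omega) (lt4 hp' _ (Nat.mod_lt _ (by norm_num))),
    qv_top (show q / 16 < 2 by omega)]
  conv_lhs => rw [qv, ← conj_mul, ← conj_mul, hs', key hp' hp _ (Nat.mod_lt _ (by norm_num)),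
    key hr' hr _ (Nat.mod_lt _ (by norm_num))]

end Frame

/-- Coordinates in which an inverting element acts as in one of the models. -/
theorem Act.exists_coords (T : Act Q s x) {b : G} (hb : b * x * b⁻¹ = x⁻¹) (hbs : b * s = s * b)
    (hbQ : ∀ q ∈ Q, b * q * b⁻¹ ∈ Q) (hb2 : b * b = 1 ∨ b * b = s) :
    ∃ k, k < 4 ∧ b * b = s ^ (k % 2) ∧ ∃ i w, Frame Q s x i w ∧
      ∀ q < 32, b * qv s x i w q * b⁻¹ = qv s x i w (bAct k q) := by
  obtain ⟨i, w, F⟩ := T.exists_frame
  obtain ⟨p, hp', hp⟩ := F.qv_surj T.hxQ T.hcm T.hcard (hbQ i F.hi)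
  obtain ⟨r, hr', hr⟩ := F.qv_surj T.hxQ T.hcm T.hcard (hbQ w F.hw)
  have B := fun q (hq : q < 32) => F.beta T hb hbs hp' hr' hp.symm hr.symm hq
  have inj := @Frame.qv_injective _ _ _ _ _ _ _ _ F T.hxQ T.hcm
  have mul := @Frame.qv_mul _ _ _ _ _ _ _ _ F T.hxQ T.hcm
  have phl : ∀ {n}, n < 32 → ph n < 32 := fun hn => (ph_facts _ (List.mem_range.2 hn)).1
  have hbsc : b * s * b⁻¹ = s := by rw [hbs, mul_inv_cancel_right]
  have hbx : ∀ z, b * (x * z * x⁻¹) * b⁻¹ = x⁻¹ * (b * z * b⁻¹) * x := fun z => by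
    calc b * (x * z * x⁻¹) * b⁻¹ = (b * x * b⁻¹) * (b * z * b⁻¹) * (b * x * b⁻¹)⁻¹ := by group
      _ = _ := by rw [hb, inv_inv]
  have sqc : ∀ {y : G} {n}, n < 32 → y * y = s → qv s x i w n = b * y * b⁻¹ → qMul n n = 16 := by
    intro y n hn hyy he
    refine inj (qMul_lt _ _) (by norm_num) ?_
    rw [mul hn hn, he, conj_mul, hyy, hbsc, qv_sixteen]
  have relc : ∀ {y : G} {n}, n < 32 → x * (x * y * x⁻¹) * x⁻¹ = y * (x * y * x⁻¹) →
      qv s x i w n = b * y * b⁻¹ → ph n = qMul n (ph (ph n)) := by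
    intro y n hn hyp he
    refine inj (phl hn) (qMul_lt _ _) ?_
    have e3 : x * (x * y * x⁻¹) * x⁻¹ = x⁻¹ * y * x := by
      have e : x⁻¹ = x * x := inv_eq_of_mul_eq_one_right (by rw [← mul_assoc, T.hx])
      calc x * (x * y * x⁻¹) * x⁻¹ = (x * x) * y * (x * x)⁻¹ := by group
        _ = x⁻¹ * y * x := by rw [← e, inv_inv]
    have h : b * (x * (x * y * x⁻¹) * x⁻¹) * b⁻¹ = b * (y * (x * y * x⁻¹)) * b⁻¹ :=
      congrArg (fun z => b * z * b⁻¹) hyp
    rw [e3] at h
    have e4 : b * (x⁻¹ * y * x) * b⁻¹ = x * (b * y * b⁻¹) * x⁻¹ := by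
      calc b * (x⁻¹ * y * x) * b⁻¹ = (b * x * b⁻¹)⁻¹ * (b * y * b⁻¹) * (b * x * b⁻¹) := by group
        _ = _ := by rw [hb, inv_inv]
    have e5 : b * (y * (x * y * x⁻¹)) * b⁻¹ = (b * y * b⁻¹) * (b * (x * y * x⁻¹) * b⁻¹) :=
      conj_mul.symm
    rw [e4, e5, hbx, ← he, F.qv_ph T.hxQ T.hcm hn, F.qv_ph2 T hn] at h
    rw [h, mul hn (phl (phl hn))]
  have hpp := sqc hp' F.hii hp
  have hrr := sqc hr' F.hww hr
  have hpr : qMul p r = qMul r p := inj (qMul_lt _ _) (qMul_lt _ _) (by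
    rw [mul hp' hr', mul hr' hp', hp, hr, conj_mul, conj_mul, F.c1])
  have hpq : qMul p (ph r) = qMul (ph r) p := inj (qMul_lt _ _) (qMul_lt _ _) (by
    have e : qv s x i w (ph r) = b * (x * (x * w * x⁻¹) * x⁻¹) * b⁻¹ := by
      rw [hbx, hbx, ← F.qv_ph T.hxQ T.hcm hr', hr]
      have e : x = x⁻¹ * x⁻¹ := by
        rw [← mul_inv_rev]
        exact eq_inv_of_mul_eq_one_left (by rw [← mul_assoc, T.hx])
      calc x * (b * w * b⁻¹) * x⁻¹ = (x⁻¹ * x⁻¹) * (b * w * b⁻¹) * (x⁻¹ * x⁻¹)⁻¹ := by rw [← e]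
        _ = _ := by rw [mul_inv_rev, inv_inv]; simp only [mul_assoc]
    rw [mul hp' (phl hr'), mul (phl hr') hp', hp, e, conj_mul, conj_mul, F.hwp,
      ((show Commute i w from F.c1).mul_right F.c2).eq])
  have hbb : ∀ z ∈ Q, b * (b * z * b⁻¹) * b⁻¹ = z := by
    intro z hz
    have : Commute (b * b) z := T.zc hb2 hz
    calc b * (b * z * b⁻¹) * b⁻¹ = (b * b * z) * (b * b)⁻¹ := by group
      _ = z := by rw [this.eq, mul_inv_cancel_right]
  have hinv : ∀ q < 32, betaN p r (betaN p r q) = q := fun q hq => inj (betaN_lt _ _ _) hq (by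
    rw [← B _ (betaN_lt _ _ _), ← B q hq, hbb _ (F.qv_mem T.hxQ q)])
  obtain ⟨i0, hi0, j0, hj0, ⟨h1, h2, h3, h4, h5, h6⟩, hcase⟩ := beta_cases p (List.mem_range.2 hp')
    hpp (relc hp' F.hip hp) r (List.mem_range.2 hr') hrr (relc hr' F.hwp hr) hpr hpq
    (hinv 4 (by norm_num)) (hinv 1 (by norm_num))
  rw [List.mem_range] at hi0 hj0
  have F' : Frame Q s x (qv s x i w i0) (qv s x i w j0) :=
    ⟨F.hs, F.hs1, F.hsQ, F.hz, F.hx, F.hxs, F.hfix, F.qv_mem T.hxQ _, F.qv_mem T.hxQ _,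
      by rw [← mul hi0 hi0, h1, qv_sixteen], by rw [← mul hj0 hj0, h3, qv_sixteen],
      by rw [F.qv_ph T.hxQ T.hcm hi0, F.qv_ph T.hxQ T.hcm (phl hi0), h2, mul hi0 (phl hi0)],
      by rw [F.qv_ph T.hxQ T.hcm hj0, F.qv_ph T.hxQ T.hcm (phl hj0), h4, mul hj0 (phl hj0)],
      by rw [← mul hi0 hj0, h5, mul hj0 hi0],
      by rw [F.qv_ph T.hxQ T.hcm hj0, ← mul hi0 (phl hj0), h6, mul (phl hj0) hi0]⟩
  obtain ⟨eps, heps, hbe⟩ : ∃ eps < 2, b * b = s ^ eps := by
    rcases hb2 with e | e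
    · exact ⟨0, by norm_num, by rw [e, pow_zero]⟩
    · exact ⟨1, by norm_num, by rw [e, pow_one]⟩
  set i' := qv s x i w i0 with hi'
  set w' := qv s x i w j0 with hw'
  have ph16 : ∀ n < 32, qv s x i w (qMul 16 (ph n)) = s * (x * qv s x i w n * x⁻¹) := by
    intro n hn
    rw [mul (by norm_num) (phl hn), qv_sixteen, F.qv_ph T.hxQ T.hcm hn]
  have new16 : ∀ n < 32, qv s x i' w' (qMul 16 (ph n)) = s * (x * qv s x i' w' n * x⁻¹) := by
    intro n hn
    rw [F'.qv_mul T.hxQ T.hcm (by norm_num) (phl hn), qv_sixteen, F'.qv_ph T.hxQ T.hcm hn]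
  rcases hcase with ⟨e1, e2⟩ | ⟨e1, e2⟩
  · refine ⟨eps, by omega, by rw [hbe, Nat.mod_eq_of_lt heps], i', w', F', fun q hq => ?_⟩
    rw [bAct_beta eps (List.mem_range.2 (by omega)) q (List.mem_range.2 hq), if_pos heps]
    refine F'.beta T hb hbs (qMul_lt _ _) (qMul_lt _ _) ?_ ?_ hq
    · rw [new16 4 (by norm_num), qv_four, hi', B i0 hi0, e1, ph16 i0 hi0]
    · rw [new16 1 (by norm_num), qv_one, hw', B j0 hj0, e2, ph16 j0 hj0]
  · refine ⟨2 + eps, by omega, by rw [hbe]; congr 1; omega, i', w', F', fun q hq => ?_⟩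
    rw [bAct_beta (2 + eps) (List.mem_range.2 (by omega)) q (List.mem_range.2 hq),
      if_neg (by omega)]
    refine F'.beta T hb hbs (qMul_lt _ _) (qMul_lt _ _) ?_ ?_ hq
    · rw [new16 1 (by norm_num), qv_one, hi', hw', B i0 hi0, e1, ph16 j0 hj0]
    · rw [new16 4 (by norm_num), qv_four, hi', hw', B j0 hj0, e2, ph16 i0 hi0]

/-- The centraliser of `s` is given by one of the models. -/
theorem Act.exists_cen (T : Act Q s x) {b : G} (hb : b * x * b⁻¹ = x⁻¹) (hbs : b * s = s * b)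
    (hbQ : ∀ q ∈ Q, b * q * b⁻¹ ∈ Q) (hb2 : b * b = 1 ∨ b * b = s)
    (hbn : b ∉ Q ⊔ Subgroup.zpowers x)
    (hC : Nat.card (Subgroup.centralizer ({s} : Set G)) = 192) :
    ∃ k, ∃ D : Cen k s, ∀ g ∈ Q, ∃ m < 192, m % 6 = 0 ∧ D.val m = g := by
  obtain ⟨k, hk, hbe, i, w, F, B⟩ := T.exists_coords hb hbs hbQ hb2
  have hkr : k ∈ List.range 4 := List.mem_range.2 hk
  have mul := @Frame.qv_mul _ _ _ _ _ _ _ _ F T.hxQ T.hcm
  have xq : ∀ e < 3, ∀ q < 32, x ^ e * qv s x i w q = qv s x i w (xAct e q) * x ^ e := by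
    intro e he q hq
    obtain ⟨hl, -, h0, h2, -⟩ := ph_facts q (List.mem_range.2 hq)
    interval_cases e
    · rw [pow_zero, one_mul, mul_one, h0]
    · rw [pow_one, show xAct 1 q = ph q from rfl, ← F.qv_ph T.hxQ T.hcm hq, inv_mul_cancel_right]
    · rw [h2, ← F.qv_ph T.hxQ T.hcm hl, ← F.qv_ph T.hxQ T.hcm hq, pow_two]
      group
  have bx : ∀ e < 3, b * x ^ e = x ^ ((3 - e) % 3) * b := by
    intro e he
    have : b * x ^ e = x⁻¹ ^ e * b := by
      rw [← hb, conj_pow, inv_mul_cancel_right]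
    rw [this]
    have e1 : x⁻¹ = x ^ 2 := inv_eq_of_mul_eq_one_right (by rw [pow_two, ← mul_assoc, T.hx])
    rw [e1, ← pow_mul, x_pow_mod T.hx]
    congr 2; omega
  let val : ℕ → G := fun m => qv s x i w (m / 6) * x ^ (m / 2 % 3) * b ^ (m % 2)
  have v0 : val 0 = 1 := by simp [val, qv_zero]
  have vmul : ∀ m n, m < 192 → n < 192 → val (mulN k m n) = val m * val n := by
    intro m n hm hn
    set q := m / 6 with hq
    set a := m / 2 % 3 with ha
    set r := n / 6 with hr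
    set e := n / 2 % 3 with he
    have hq' : q < 32 := by omega
    have hr' : r < 32 := by omega
    have ha' : a < 3 := Nat.mod_lt _ (by norm_num)
    have he' : e < 3 := Nat.mod_lt _ (by norm_num)
    have core : ∀ (r' e' c j : ℕ), r' < 32 → e' < 3 → c < 2 → j < 2 →
        val ((qMul (qMul q (xAct a r')) (16 * c)) * 6 + (a + e') % 3 * 2 + j) =
          qv s x i w q * x ^ a * (qv s x i w r' * x ^ e') * s ^ c * b ^ j := by
      intro r' e' c j hr2 he2 hc hj
      set W := qMul (qMul q (xAct a r')) (16 * c) with hW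
      have hWl : W < 32 := qMul_lt _ _
      show qv s x i w _ * x ^ _ * b ^ _ = _
      rw [show (W * 6 + (a + e') % 3 * 2 + j) / 6 = W by omega,
        show (W * 6 + (a + e') % 3 * 2 + j) / 2 % 3 = (a + e') % 3 by omega,
        show (W * 6 + (a + e') % 3 * 2 + j) % 2 = j by omega, hW,
        mul (qMul_lt _ _) (by omega), mul hq' (xAct_lt _ _), qv_top hc, ← x_pow_mod T.hx]
      have hsx : Commute (s ^ c) (x ^ (a + e')) :=
        ((show Commute x s from T.hxs).symm.pow_left c).pow_right _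
      calc qv s x i w q * qv s x i w (xAct a r') * s ^ c * x ^ (a + e') * b ^ j
          = qv s x i w q * qv s x i w (xAct a r') * (x ^ (a + e') * s ^ c) * b ^ j := by
            rw [← hsx.eq]; group
        _ = qv s x i w q * (qv s x i w (xAct a r') * x ^ a) * x ^ e' * s ^ c * b ^ j := by
            rw [pow_add]; group
        _ = _ := by rw [← xq a ha' r' hr2]; group
    have qm0 : ∀ y < 32, qMul y (16 * 0) = y := by
      have : ∀ y ∈ List.range 32, qMul y (16 * 0) = y := by decide +kernel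
      exact fun y hy => this y (List.mem_range.2 hy)
    rcases Nat.mod_two_eq_zero_or_one m with hj | hj <;>
      rcases Nat.mod_two_eq_zero_or_one n with hl | hl
    · have := core r e 0 0 hr' he' (by norm_num) (by norm_num)
      rw [qm0 _ (qMul_lt _ _)] at this
      simp only [mulN, hj, hl, ← hq, ← ha, ← hr, ← he]
      refine this.trans ?_
      simp [val, hj, hl, ← hq, ← ha, ← hr, ← he, mul_assoc]
    · have := core r e 0 1 hr' he' (by norm_num) (by norm_num)
      rw [qm0 _ (qMul_lt _ _)] at this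
      simp only [mulN, hj, hl, ← hq, ← ha, ← hr, ← he]
      refine this.trans ?_
      simp [val, hj, hl, ← hq, ← ha, ← hr, ← he, mul_assoc]
    · have := core (bAct k r) ((3 - e) % 3) 0 1 (bAct_lt _ _) (Nat.mod_lt _ (by norm_num))
        (by norm_num) (by norm_num)
      rw [qm0 _ (qMul_lt _ _)] at this
      simp only [mulN, hj, hl, ← hq, ← ha, ← hr, ← he]
      refine this.trans ?_
      simp only [val, hj, hl, ← hq, ← ha, ← hr, ← he, pow_one, pow_zero, mul_one]
      rw [← B r hr']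
      calc _ = qv s x i w q * x ^ a * (b * qv s x i w r * b⁻¹) * (x ^ ((3 - e) % 3) * b) := by group
        _ = _ := by rw [← bx e he']; group
    · have := core (bAct k r) ((3 - e) % 3) (k % 2) 0 (bAct_lt _ _) (Nat.mod_lt _ (by norm_num))
        (Nat.mod_lt _ (by norm_num)) (by norm_num)
      have hw : (bif k % 2 == 1 then qMul (qMul q (xAct a (bAct k r))) 16
          else qMul q (xAct a (bAct k r))) = qMul (qMul q (xAct a (bAct k r))) (16 * (k % 2)) := by
        rcases Nat.mod_two_eq_zero_or_one k with h | h <;> rw [h]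
        · exact (qm0 _ (qMul_lt _ _)).symm
        · rfl
      simp only [mulN, hj, hl, ← hq, ← ha, ← hr, ← he, Bool.true_and, cond_true, beq_self_eq_true,
        hw]
      refine this.trans ?_
      simp only [val, hj, hl, ← hq, ← ha, ← hr, ← he, pow_one, pow_zero, mul_one]
      rw [← B r hr', ← hbe]
      calc _ = qv s x i w q * x ^ a * (b * qv s x i w r * b⁻¹) * (x ^ ((3 - e) % 3) * b) * b := by
            group
        _ = _ := by rw [← bx e he']; group
  have vcomm : ∀ m, m < 192 → val m * s = s * val m := fun m _ =>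
    (((show Commute (qv s x i w (m / 6)) s from T.hz _ (F.qv_mem T.hxQ _)).mul_left
      ((show Commute x s from T.hxs).pow_left _)).mul_left
      ((show Commute b s from hbs).pow_left _)).eq
  have xnQ : x ∉ Q := fun h => by
    rcases T.hfix x h (by rw [mul_inv_cancel_right]) with e | e
    · refine hbn ?_
      exfalso
      subst e
      have h1 := T.hfix i F.hi (by simp)
      rcases h1 with e | e
      · exact T.hs1 (by rw [← F.hii, e, one_mul])
      · exact T.hs1 (by rw [← F.hii, e, T.hs])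
    · exact T.hs1 (by rw [← e, ← T.hx, e, T.hs, one_mul])
  have vone : ∀ m, m < 192 → val m = 1 → m = 0 := by
    intro m hm h
    rcases Nat.mod_two_eq_zero_or_one m with hj | hj
    · simp only [val, hj, pow_zero, mul_one] at h
      have hxq : x ^ (m / 2 % 3) ∈ Q := by
        rw [eq_inv_of_mul_eq_one_right h]; exact inv_mem (F.qv_mem T.hxQ _)
      rcases (show m / 2 % 3 = 0 ∨ m / 2 % 3 = 1 ∨ m / 2 % 3 = 2 by omega) with e | e | e
      · rw [e, pow_zero, mul_one] at h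
        have := F.qv_inj T.hxQ T.hcm (show m / 6 < 32 by omega) h
        omega
      · rw [e, pow_one] at hxq; exact absurd hxq xnQ
      · rw [e] at hxq
        refine absurd ?_ xnQ
        have h4 := mul_mem hxq hxq
        rwa [← pow_add, x_pow_mod T.hx, show (2 + 2) % 3 = 1 from rfl, pow_one] at h4
    · simp only [val, hj, pow_one] at h
      refine absurd ?_ hbn
      rw [eq_inv_of_mul_eq_one_right h]
      exact inv_mem (mul_mem (Subgroup.mem_sup_left (F.qv_mem T.hxQ _))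
        (pow_mem (Subgroup.mem_sup_right (Subgroup.mem_zpowers x)) _))
  have vinj : ∀ m n, m < 192 → n < 192 → val m = val n → m = n := by
    intro m n hm hn h
    obtain ⟨hi', h1, -, -, -⟩ := invN_lt' k hkr m (mem_els hm)
    have e : val n * val (invN k m) = 1 := by rw [← h, ← vmul m _ hm hi', h1, v0]
    rw [← vmul n _ hn hi'] at e
    have e' := vone _ (mulN_lt ..) e
    rw [inv_unique k hkr m (mem_els hm) _ (mem_els hi') h1,
      inv_unique k hkr n (mem_els hn) _ (mem_els hi') e']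
  have vsurj : ∀ g, g * s = s * g → ∃ m < 192, val m = g := by
    intro g hg
    let f : Fin 192 → Subgroup.centralizer ({s} : Set G) := fun m =>
      ⟨val m, Subgroup.mem_centralizer_singleton_iff.2 (vcomm m m.2)⟩
    have hf : Function.Bijective f := (Nat.bijective_iff_injective_and_card _).2
      ⟨fun a c e => Fin.ext (vinj a c a.2 c.2 (congrArg Subtype.val e :)), by rw [Nat.card_fin, hC]⟩
    obtain ⟨m, hm⟩ := hf.2 ⟨g, Subgroup.mem_centralizer_singleton_iff.2 hg⟩
    exact ⟨m, m.2, congrArg Subtype.val hm⟩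
  refine ⟨k, ⟨hk, orderOf_eq_prime (by rw [pow_two, T.hs]) T.hs1, val, vmul, vcomm, vinj, vsurj,
    by simp [val, tN, qv_sixteen]⟩, fun g hg => ?_⟩
  obtain ⟨q, hq, rfl⟩ := F.qv_surj T.hxQ T.hcm T.hcard hg
  refine ⟨q * 6, by omega, by omega, ?_⟩
  show qv s x i w (q * 6 / 6) * x ^ (q * 6 / 2 % 3) * b ^ (q * 6 % 2) = _
  rw [show q * 6 / 6 = q by omega, show q * 6 / 2 % 3 = 0 by omega, show q * 6 % 2 = 0 by omega]
  simp

end CfsgLib.Ext32
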