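import Cfsg.Agent.Lib.Ext32.Setup
import Cfsg.Agent.Lib.M12Cent.Setup

/-!
# The first model is the centraliser in `M₁₂`
-/

set_option autoImplicit false
set_option maxRecDepth 100000
set_option maxHeartbeats 4000000

namespace CfsgLib.Ext32

universe u

/-- the coordinates of the other model in the first one -/
def m12T : Nat := 0x6696067eae364e1e093969215199b1810b3b6b23539bb38368980880b03850206a9a0a82b23a52220737671f4f97af7f4575a55d8d152dbda21242ba2a728a5aa61646be2e768e5e4373a35b8b132bbb4777a75f8f172fbfa41444bc2c748c5c5626b69e6e860e3eb9895941112971a1b585553d0d256d9d5828b8a0708810405424b49c6c840c3cb787573f0f276f9f7949190191a931611cac7c64344c94041aaa7a62324a92027d4d1d0595ad35657b4b1b0393ab336318a8783048906000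

/-- the inverse coordinates -/
def m12I : Nat := 0x687c886470845745375d4f3da99bb1a391bb12260a1e2a066d7f8d6775875044305c483caa9eb2a692be13210b192b026b798b6173815642365a4e3aa89cb0a490bc17250f1d2f056e7a8e6276825143315b493bad9fb5a795bf1024081c28016c788c6074805547355f4d3fab99b3a193b916220e1a2e036f7d8f657785544034584c38ae9ab6a296ba1123091b2904697b896371835246325e4a3eac98b4a094b815270d1f2d076a7e8a667286534133594b39af9db7a597bd14200c182c00

theorem m12_inv : ∀ m ∈ els, appN m12T m < 192 ∧ appN m12I m < 192 ∧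
    appN m12T (appN m12I m) = m ∧ appN m12I (appN m12T m) = m := by decide +kernel

theorem m12_hom : ∀ m ∈ els, ∀ n ∈ els,
    appN m12T (CfsgLib.M12Cent.mulN m n) = mulN 0 (appN m12T m) (appN m12T n) := by decide +kernel

theorem m12_tN : appN m12T CfsgLib.M12Cent.tN = tN := by decide +kernel

theorem m12_xN : (vN, [30, 60, 90, 126, 156, 186]) ∈ clsL 0 ∧
    appN m12T CfsgLib.M12Cent.xN ∈ [30, 60, 90, 126, 156, 186] := by decide +kernel

variable {G : Type u} [Group G] {t : G}

/-- The first model read in the coordinates of `M₁₂`. -/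
noncomputable def Cen.toM12 (D : Cen 0 t) : CfsgLib.M12Cent.Cen t where
  ord := D.ord
  val m := D.val (appN m12T m)
  val_mul m n hm hn := by
    rw [m12_hom m (mem_els hm) n (mem_els hn)]
    exact D.val_mul _ _ (m12_inv m (mem_els hm)).1 (m12_inv n (mem_els hn)).1
  val_comm m hm := D.val_comm _ (m12_inv m (mem_els hm)).1
  val_inj m n hm hn h := by
    have e := D.val_inj _ _ (m12_inv m (mem_els hm)).1 (m12_inv n (mem_els hn)).1 h
    rw [← (m12_inv m (mem_els hm)).2.2.2, e, (m12_inv n (mem_els hn)).2.2.2]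
  val_surj g hg := by
    obtain ⟨m, hm, e⟩ := D.val_surj g hg
    exact ⟨appN m12I m, (m12_inv m (mem_els hm)).2.1, by rw [(m12_inv m (mem_els hm)).2.2.1, e]⟩
  val_tau := by rw [m12_tN, D.val_tau]

theorem Cen.toM12_fused (D : Cen 0 t) (hx : IsConj t (D.val vN)) :
    IsConj t (D.toM12.val CfsgLib.M12Cent.xN) :=
  hx.trans (D.cls_conj m12_xN.1 m12_xN.2)

end CfsgLib.Ext32
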