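import Cfsg.Agent.Lib.Ext32.UFrame
import Cfsg.Agent.Lib.J1Unique.Odd
import Cfsg.Agent.Lib.Involutions.ZStar.Main
import Cfsg.Agent.Lib.Base.Cores

/-!
# The centraliser of the second involution normalises a four-group

`{0, 101}` gives an isolated involution of the centraliser of `u = 84` modulo `u`, so the four-group
`{0, 84, 101, 185}` is normal in it. Modulo this group the involution `t` has a centraliser of
order four.
-/

set_option autoImplicit false
set_option linter.unusedSectionVars false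
set_option linter.style.haveILetI false
set_option maxRecDepth 100000
set_option maxHeartbeats 2000000

namespace CfsgLib.Ext32

open Cfsg
open CfsgLib.U42 (conj_comm)
open scoped Pointwise

universe u

/-- the second generator of the four-group -/
def zN : Nat := 101

/-- the centraliser of `84` in the model -/
def ru : List Nat := els.filter fun m => mulN 2 m uN == mulN 2 uN m

/-- the centraliser of `84` and another element -/
def ruC (w : Nat) : List Nat := ru.filter fun m => mulN 2 m w == mulN 2 w m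

/-- the action of the element of order three fixing the four-group on the group of order sixteen -/
def gAct (x : Nat) : Nat :=
  appN phiT (appN sndT.1 (appN phiT (appN phiT (appN sndT.2 x))))

theorem ru_facts : IsSub 2 ru ∧ uN ∈ ucls ∧ uN ∈ ru ∧ tN ∈ ru ∧ zN ∈ ru ∧ oN ∈ ru ∧
    (∀ z ∈ ru, z ∈ tcls → (∀ a ∈ ru, mulN 2 z a = mulN 2 a z) → z = tN) := by decide +kernel

theorem ru_cent : ∀ m ∈ els, (m ∈ ru ↔ mulN 2 m uN = mulN 2 uN m) := by decide +kernel

theorem z_facts : mulN 2 zN zN = 0 ∧ zN ≠ 0 ∧ zN ∈ ucls ∧ mulN 2 zN uN = 185 ∧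
    185 ∈ ucls ∧ mulN 2 zN uN = mulN 2 uN zN ∧ zN ≠ uN ∧ mulN 2 uN uN = 0 ∧
    cjN 2 oN zN = 185 ∧ mulN 2 185 uN = zN := by decide +kernel

theorem a16_ru : (∀ a ∈ a16, a ∈ ru ∧ mulN 2 a zN = mulN 2 zN a) ∧
    (∀ m ∈ ru, mulN 2 m zN = mulN 2 zN m → m ∈ a16) := by decide +kernel

theorem w_cases : ∀ w ∈ ru, w ∈ ucls → mulN 2 w w = 0 → w ≠ uN → w = zN ∨ w = 185 ∨
    mulN 2 w uN ∈ tcls ∨
    (IsSub 2 (ruC w) ∧ (ruC w).length = 8 ∧ tN ∈ ruC w ∧
      ∀ a ∈ ruC w, a ∈ tcls → a = tN) := by decide +kernel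

theorem gAct_facts : ∀ x ∈ a16, appN sndT.2 x ∈ rl 2 ∧ appN sndT.1 (appN sndT.2 x) = x ∧
    appN sndT.1 (appN phiT (appN phiT (appN sndT.2 x))) ∈ rl 2 ∧ gAct x ∈ a16 := by decide +kernel

theorem gAct_vals : gAct uN = uN ∧ gAct zN = zN ∧ gAct 185 = 185 ∧ gAct 180 = 167 ∧ gAct 167 = 131 ∧
    gAct 131 = 180 ∧ gAct tN = 35 := by decide +kernel

theorem orbit_t : ∀ m ∈ a16, m ∈ tcls → ∃ v ∈ vl4, m = mulN 2 tN v ∨ m = gAct (mulN 2 tN v) ∨
    m = gAct (gAct (mulN 2 tN v)) := by decide +kernel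

theorem inverters : ∀ i ∈ [tN, vN, tvN 2], i ∈ ru ∧ i ∈ tcls ∧ mulN 2 i i = 0 ∧ i ∈ rl 2 := by
  decide +kernel

theorem uN_rl : uN ∈ rl 2 ∧ (∀ x ∈ els, ∀ d ∈ [uN, appN phiT uN, appN phiT (appN phiT uN)],
    mulN 2 x d = mulN 2 d x → powN 2 x 64 = 0) := by decide +kernel

theorem tcls_ucls : (∀ m ∈ tcls, m < 192 ∧ m ≠ 0 ∧ mulN 2 m m = 0) ∧
    (∀ m ∈ ucls, m < 192 ∧ m ≠ 0 ∧ mulN 2 m m = 0) ∧ (∀ m ∈ tcls, m ∉ ucls) := by decide +kernel

namespace Cen

variable {G : Type u} [Group G] [Finite G] {t : G} (D : Cen 2 t)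
include D

theorem ru_lt {m : ℕ} (hm : m ∈ ru) : m < 192 := els_lt (List.mem_filter.1 hm).1

theorem uN_lt : uN < 192 := by norm_num [uN]

theorem zN_lt : zN < 192 := by norm_num [zN]

theorem mem_ru {g : G} (h1 : g * t = t * g) (h2 : g * D.val uN = D.val uN * g) :
    ∃ m ∈ ru, D.val m = g := by
  obtain ⟨m, hm, rfl⟩ := D.val_surj g h1
  exact ⟨m, (ru_cent m (mem_els hm)).2 (D.mul_val_eq hm D.uN_lt h2), rfl⟩

theorem ru_comm {m : ℕ} (hm : m ∈ ru) : D.val m * D.val uN = D.val uN * D.val m :=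
  D.val_commute (D.ru_lt hm) D.uN_lt ((ru_cent m (mem_els (D.ru_lt hm))).1 hm)

/-- The centralizer of `84`. -/
abbrev KU : Subgroup G := Subgroup.centralizer ({D.val uN} : Set G)

/-- A two-subgroup of a subgroup has a conjugate in a listed subgroup, when every element
normalising the latter fixes `t`. -/
theorem conj_into {K : Subgroup G} {l : List ℕ} (hl : IsSub 2 l) (hle : D.grp hl ≤ K)
    (hn : ∀ n ∈ K, (∀ m ∈ l, n * D.val m * n⁻¹ ∈ D.grp hl) → n ∈ D.grp hl)
    {j : ℕ} (hj : Nat.card (D.grp hl) = 2 ^ j) {S : Subgroup G} (hSK : S ≤ K)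
    (hS : IsPGroup 2 S) : ∃ c ∈ K, ∀ x ∈ S, c * x * c⁻¹ ∈ D.grp hl := by
  haveI : Fact (Nat.Prime 2) := ⟨Nat.prime_two⟩
  set L := (D.grp hl).subgroupOf K with hL
  have hc : Nat.card L = 2 ^ j := by
    rw [hL, Nat.card_congr (Subgroup.subgroupOfEquivOfLe hle).toEquiv, hj]
  obtain ⟨P, hP⟩ := (IsPGroup.of_card hc).exists_le_sylow
  have heq : L = (P : Subgroup K) := by
    by_contra hne
    have hlt : L < (P : Subgroup K) := lt_of_le_of_ne hP hne
    obtain ⟨n, hn', hnn⟩ := SetLike.exists_of_lt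
      (Group.normalizerCondition_of_isNilpotent (G := (P : Subgroup K)) (h := P.2.isNilpotent)
        (L.subgroupOf (P : Subgroup K)) (by
          rw [lt_top_iff_ne_top]
          intro e
          exact hlt.not_ge (Subgroup.subgroupOf_eq_top.1 e)))
    exact hnn (hn _ (n : K).2 fun m hm =>
      (Subgroup.mem_normalizer_iff.1 hn' ⟨⟨D.val m, hle ⟨m, hm, rfl⟩⟩, hP ⟨m, hm, rfl⟩⟩).1
        ⟨m, hm, rfl⟩)
  have hS' : IsPGroup 2 (S.subgroupOf K) :=
    hS.of_equiv (Subgroup.subgroupOfEquivOfLe hSK).symm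
  obtain ⟨Q, hQ⟩ := hS'.exists_le_sylow
  obtain ⟨c, hc'⟩ := MulAction.exists_smul_eq K Q P
  refine ⟨c, c.2, fun x hx => ?_⟩
  have h1 : MulAut.conj c • (⟨x, hSK hx⟩ : K) ∈ MulAut.conj c • (Q : Subgroup K) :=
    Subgroup.smul_mem_pointwise_smul _ _ _ (hQ (show (⟨x, hSK hx⟩ : K) ∈ S.subgroupOf K from hx))
  rw [← Sylow.coe_subgroup_smul, hc', ← heq] at h1
  exact h1

/-- The involution `84` in its centralizer. -/
def uK : D.KU := ⟨D.val uN, Subgroup.mem_centralizer_singleton_iff.2 rfl⟩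

theorem uK_comm (x : D.KU) : x * D.uK = D.uK * x :=
  Subtype.ext (Subgroup.mem_centralizer_singleton_iff.1 x.2)

instance uK_normal : (Subgroup.zpowers D.uK).Normal :=
  ⟨fun n hn g => by
    obtain ⟨i, rfl⟩ := Subgroup.mem_zpowers_iff.1 hn
    rw [((show Commute g D.uK from D.uK_comm g).zpow_right i).eq,
      mul_inv_cancel_right]
    exact hn⟩

/-- The quotient of the centralizer of `84`. -/
abbrev KUB : Type u := D.KU ⧸ Subgroup.zpowers D.uK

variable {h k : G} (hh : D.Std h) (hk : (D.twist sndT_facts).Std k) (hhk : h * k = k * h)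
  (h36 : IsConj t (D.val 36)) (h42 : ¬ IsConj t (D.val 42))
include hh hk hhk h36 h42

theorem tcls_iff {m : ℕ} (hm : m < 192) (h0 : m ≠ 0) (h2 : mulN 2 m m = 0) :
    IsConj t (D.val m) ↔ m ∈ tcls :=
  (D.conj_t_iff hh h36 h42 hm (D.val_invol hm h2 h0)).1

theorem not_tu {a b : ℕ} (ha : a ∈ tcls) (hb : b ∈ ucls) : ¬ IsConj (D.val a) (D.val b) := by
  obtain ⟨f1, f2, f3⟩ := tcls_ucls
  obtain ⟨la, a0, a2⟩ := f1 a ha
  obtain ⟨lb, b0, b2⟩ := f2 b hb
  intro hc
  exact f3 b ((D.tcls_iff hh hk hhk h36 h42 lb b0 b2).1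
    (((D.tcls_iff hh hk hhk h36 h42 la a0 a2).2 ha).trans hc)) hb

/-- A conjugate of `t` among the values in `ru` normalised by an element. -/
theorem fix_t_of_central {n : G} {l : List ℕ} (hl : IsSub 2 l) (ht : tN ∈ l)
    (hn : ∀ m ∈ l, n * D.val m * n⁻¹ ∈ D.grp hl)
    (huniq : ∀ z ∈ l, z ∈ tcls → (∃ y, y * D.val z * y⁻¹ = t) → D.val z = n * t * n⁻¹ → z = tN) :
    n * t = t * n := by
  obtain ⟨z, hz, hzv⟩ := hn tN ht
  rw [D.val_tau] at hzv
  have hzl := (hl.2.2.1 z hz).1
  have hc : IsConj t (D.val z) := isConj_iff.2 ⟨n, hzv.symm⟩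
  have h0 : z ≠ 0 := by
    rintro rfl
    rw [D.val_zero, eq_comm, conj_eq_one_iff] at hzv
    have := D.ord
    rw [hzv, orderOf_one] at this
    norm_num at this
  have h2 : mulN 2 z z = 0 := D.val_sq hzl (by
    rw [hzv, conj_mul, D.tt, mul_one, mul_inv_cancel])
  have := huniq z hz ((D.tcls_iff hh hk hhk h36 h42 hzl h0 h2).1 hc) ⟨n⁻¹, by rw [hzv]; group⟩ hzv
  subst this
  rw [D.val_tau] at hzv
  exact mul_inv_eq_iff_eq_mul.1 hzv.symm

/-- A two-subgroup of the centralizer of `84` has a conjugate in that of the model. -/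
theorem conj_into_ru {S : Subgroup G} (hSK : S ≤ D.KU) (hS : IsPGroup 2 S) :
    ∃ c ∈ D.KU, ∀ x ∈ S, c * x * c⁻¹ ∈ D.grp ru_facts.1 := by
  obtain ⟨hsub, -, -, ht, -, -, huniq⟩ := ru_facts
  have hle : D.grp hsub ≤ D.KU := by
    rintro _ ⟨m, hm, rfl⟩
    exact Subgroup.mem_centralizer_singleton_iff.2 (D.ru_comm hm)
  refine D.conj_into hsub hle (fun n hn hnorm => ?_) (j := 5) (by
    rw [D.card_grp, show ru.length = 32 by decide +kernel]; norm_num) hSK hS
  refine D.mem_ru (D.fix_t_of_central hh hk hhk h36 h42 hsub ht hnorm fun z hz hzt _ hzv =>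
    huniq z hz hzt fun a ha => ?_) (Subgroup.mem_centralizer_singleton_iff.1 hn)
  have hn' : ∀ m ∈ ru, ∃ m' ∈ ru, n * D.val m' * n⁻¹ = D.val m := fun m hm => by
    let f : {m // m ∈ ru} → {m // m ∈ ru} := fun x =>
      ⟨(hnorm x.1 x.2).choose, (hnorm x.1 x.2).choose_spec.1⟩
    have hf : ∀ x, D.val (f x).1 = n * D.val x.1 * n⁻¹ := fun x => (hnorm x.1 x.2).choose_spec.2
    have hinj : Function.Injective f := fun x y e => Subtype.ext (D.val_inj _ _ (D.ru_lt x.2)
      (D.ru_lt y.2) (mul_left_cancel (mul_right_cancel ((hf x).symm.trans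
        ((congrArg (fun z => D.val z.1) e).trans (hf y))))))
    obtain ⟨x, hx⟩ := Finite.injective_iff_surjective.1 hinj ⟨m, hm⟩
    exact ⟨x.1, x.2, by rw [← hf, hx]⟩
  obtain ⟨a', ha', hav⟩ := hn' a ha
  refine D.mul_val_eq (D.ru_lt hz) (D.ru_lt ha) ?_
  rw [hzv, ← hav]
  exact conj_comm ((D.val_comm a' (D.ru_lt ha')).symm)

/-- In the centralizer of `84` the element `101` has its conjugates in the model in a pair. -/
theorem conj_z {n : G} (hn : n ∈ D.KU) {w : ℕ} (hw : w ∈ ru)
    (hv : D.val w = n * D.val zN * n⁻¹) : w = zN ∨ w = 185 := by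
  obtain ⟨hzz, hz0, hzu, hzuv, h185, hzuc, hzne, -⟩ := z_facts
  have hwl := D.ru_lt hw
  have hnu := Subgroup.mem_centralizer_singleton_iff.1 hn
  have hw0 : w ≠ 0 := by
    rintro rfl
    rw [D.val_zero, eq_comm, conj_eq_one_iff] at hv
    exact hz0 (D.val_eq_one D.zN_lt hv)
  have hw2 : mulN 2 w w = 0 := D.val_sq hwl (by
    rw [hv, conj_mul, ← D.val_mul _ _ D.zN_lt D.zN_lt, hzz, D.val_zero, mul_one, mul_inv_cancel])
  have hconj : IsConj (D.val zN) (D.val w) := isConj_iff.2 ⟨n, hv.symm⟩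
  have hwu : w ∈ ucls := by
    rcases (D.conj_t_iff hh h36 h42 hwl (D.val_invol hwl hw2 hw0)).2.2 with e | e
    · exact absurd hconj.symm (D.not_tu hh hk hhk h36 h42 e hzu)
    · exact e
  have hne : w ≠ uN := by
    rintro rfl
    refine hzne (D.val_inj _ _ D.zN_lt D.uN_lt ?_)
    calc D.val zN = n⁻¹ * (n * D.val zN * n⁻¹) * n := by group
      _ = n⁻¹ * (D.val uN * n) := by rw [← hv]; group
      _ = D.val uN := by rw [← hnu]; group
  rcases w_cases w hw hwu hw2 hne with e | e | e | ⟨hsub, hlen, ht, huniq⟩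
  · exact Or.inl e
  · exact Or.inr e
  · exfalso
    refine D.not_tu hh hk hhk h36 h42 e h185 ?_
    rw [← hzuv, D.val_mul _ _ hwl D.uN_lt, D.val_mul _ _ D.zN_lt D.uN_lt, hv]
    refine isConj_iff.2 ⟨n⁻¹, ?_⟩
    calc n⁻¹ * (n * D.val zN * n⁻¹ * D.val uN) * n⁻¹⁻¹ = D.val zN * (n⁻¹ * (D.val uN * n)) := by
          group
      _ = _ := by rw [← hnu]; group
  · exfalso
    obtain ⟨hA, hAl, -⟩ := a16_facts
    set S := (D.grp hA).map (MulAut.conj n).toMonoidHom with hS
    have hS16 : Nat.card S = 16 := by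
      rw [hS, ← Nat.card_congr ((D.grp hA).equivMapOfInjective _ (MulAut.conj n).injective).toEquiv,
        D.card_grp, hAl]
    set K := D.KU ⊓ Subgroup.centralizer ({D.val w} : Set G) with hK
    have hle : D.grp hsub ≤ K := by
      rintro _ ⟨m, hm, rfl⟩
      obtain ⟨hm1, hm2⟩ := List.mem_filter.1 hm
      exact Subgroup.mem_inf.2 ⟨Subgroup.mem_centralizer_singleton_iff.2 (D.ru_comm hm1),
        Subgroup.mem_centralizer_singleton_iff.2
          (D.val_commute (D.ru_lt hm1) hwl (by simpa using hm2))⟩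
    have hSK : S ≤ K := by
      rintro _ ⟨_, ⟨a, ha, rfl⟩, rfl⟩
      obtain ⟨ha1, ha2⟩ := a16_ru.1 a ha
      refine Subgroup.mem_inf.2 ⟨mul_mem (mul_mem hn (Subgroup.mem_centralizer_singleton_iff.2
        (D.ru_comm ha1))) (inv_mem hn), Subgroup.mem_centralizer_singleton_iff.2 ?_⟩
      rw [hv]
      exact conj_comm (D.val_commute (D.a16_lt ha) D.zN_lt ha2)
    obtain ⟨c, -, hcS⟩ := D.conj_into hsub hle (fun g hg hnorm => by
      obtain ⟨hg1, hg2⟩ := Subgroup.mem_inf.1 hg
      obtain ⟨m, hm, rfl⟩ := D.mem_ru (D.fix_t_of_central hh hk hhk h36 h42 hsub ht hnorm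
        fun z hz hzt _ _ => huniq z hz hzt) (Subgroup.mem_centralizer_singleton_iff.1 hg1)
      exact ⟨m, List.mem_filter.2 ⟨hm, by
        simpa using D.mul_val_eq (D.ru_lt hm) hwl (Subgroup.mem_centralizer_singleton_iff.1 hg2)⟩,
        rfl⟩) (j := 3) (by rw [D.card_grp, hlen]; norm_num) hSK
      (IsPGroup.of_card (n := 4) (by rw [hS16]; norm_num))
    have := Subgroup.card_le_of_le (show S.map (MulAut.conj c).toMonoidHom ≤ D.grp hsub by
      rintro _ ⟨x, hx, rfl⟩
      exact hcS x hx)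
    rw [← Nat.card_congr (S.equivMapOfInjective _ (MulAut.conj c).injective).toEquiv, hS16,
      D.card_grp, hlen] at this
    norm_num at this

/-- The four-group is normal in the centralizer of `84`. -/
theorem z_pair {x : G} (hx : x * D.val uN = D.val uN * x) :
    x * D.val zN * x⁻¹ = D.val zN ∨ x * D.val zN * x⁻¹ = D.val 185 := by
  haveI : Fact (Nat.Prime 2) := ⟨Nat.prime_two⟩
  obtain ⟨hzz, hz0, hzu, hzuv, h185, hzuc, hzne, huu, -, h185u⟩ := z_facts
  set u := D.val uN with hu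
  set z := D.val zN with hz
  have huu' : u * u = 1 := by rw [hu, ← D.val_mul _ _ D.uN_lt D.uN_lt, huu, D.val_zero]
  have hui : u⁻¹ = u := inv_eq_of_mul_eq_one_right huu'
  have hzz' : z * z = 1 := by rw [hz, ← D.val_mul _ _ D.zN_lt D.zN_lt, hzz, D.val_zero]
  have hzuv' : D.val 185 = z * u := by rw [← hzuv, D.val_mul _ _ D.zN_lt D.uN_lt]
  have hzK : z ∈ D.KU := Subgroup.mem_centralizer_singleton_iff.2 (D.ru_comm ru_facts.2.2.2.2.1)
  have hmem : ∀ a : D.KU, a ∈ Subgroup.zpowers D.uK ↔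
      (a : G) = 1 ∨ (a : G) = u := fun a => by
    rw [Subgroup.mem_zpowers_iff]
    constructor
    · rintro ⟨n, rfl⟩
      rw [SubgroupClass.coe_zpow]
      rcases Int.even_or_odd n with ⟨m, rfl⟩ | ⟨m, rfl⟩
      · left
        show u ^ (m + m) = 1
        rw [zpow_add, ← (Commute.refl u).mul_zpow, huu', one_zpow]
      · right
        show u ^ (2 * m + 1) = u
        rw [zpow_add, zpow_mul, zpow_one, show u ^ (2 : ℤ) = 1 by rw [zpow_two, huu'], one_zpow,
          one_mul]
    · rintro (h | h)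
      · exact ⟨0, Subtype.ext (by simp [h])⟩
      · exact ⟨1, Subtype.ext (by simp [h]; rfl)⟩
  have mk_eq : ∀ a b : D.KU, (QuotientGroup.mk a : D.KUB) = QuotientGroup.mk b ↔
      (b : G) = a ∨ (b : G) = (a : G) * u := fun a b => by
    rw [QuotientGroup.eq, hmem]
    simp only [Subgroup.coe_mul, Subgroup.coe_inv]
    rw [inv_mul_eq_one, inv_mul_eq_iff_eq_mul]
    exact or_congr_left eq_comm
  set zB : D.KUB := QuotientGroup.mk ⟨z, hzK⟩ with hzB
  -- conjugates of `z` in a conjugate of the model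
  have hcl : ∀ {c : G}, c ∈ D.KU → ∀ {n : G}, n ∈ D.KU →
      c * (n * z * n⁻¹) * c⁻¹ ∈ D.grp ru_facts.1 →
      c * (n * z * n⁻¹) * c⁻¹ = z ∨ c * (n * z * n⁻¹) * c⁻¹ = z * u := by
    intro c hc n hn hmem'
    obtain ⟨w, hw, hwv⟩ := hmem'
    rcases D.conj_z hh hk hhk h36 h42 (mul_mem hc hn) hw (by rw [hwv, hz]; group) with rfl | rfl
    · exact Or.inl hwv.symm
    · exact Or.inr (hwv.symm.trans hzuv')
  have hiso : Cfsg.IsIsolatedInvolution zB := by
    refine ⟨orderOf_eq_prime ?_ ?_, fun g hg => ?_⟩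
    · rw [hzB, ← QuotientGroup.mk_pow, QuotientGroup.eq_one_iff, hmem]
      exact Or.inl (by rw [SubgroupClass.coe_pow, pow_two]; exact hzz')
    · rw [hzB, ne_eq, QuotientGroup.eq_one_iff, hmem]
      rintro (h | h)
      · exact hz0 (D.val_eq_one D.zN_lt h)
      · exact hzne (D.val_inj _ _ D.zN_lt D.uN_lt h)
    obtain ⟨n, rfl⟩ := QuotientGroup.mk_surjective g
    set y := (n : G) * z * (n : G)⁻¹ with hy
    have hnu := Subgroup.mem_centralizer_singleton_iff.1 n.2
    have hyy : y * y = 1 := by rw [hy, conj_mul, hzz', mul_one, mul_inv_cancel]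
    have hyi : y⁻¹ = y := inv_eq_of_mul_eq_one_right hyy
    have hzi : z⁻¹ = z := inv_eq_of_mul_eq_one_right hzz'
    have hzu' : Commute z u := Subgroup.mem_centralizer_singleton_iff.1 hzK
    have hyu : Commute y u := by
      rw [hy]
      exact (((show Commute (n : G) u from hnu).mul_left hzu').mul_left
        (show Commute (n : G) u from hnu).inv_left)
    have hyz : y * z = z * y ∨ y * z = z * y * u := by
      have e : (QuotientGroup.mk (n * ⟨z, hzK⟩ * n⁻¹ * ⟨z, hzK⟩) : D.KUB) =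
          QuotientGroup.mk (⟨z, hzK⟩ * (n * ⟨z, hzK⟩ * n⁻¹)) := by
        simp only [QuotientGroup.mk_mul, QuotientGroup.mk_inv]
        exact hg.eq.symm
      rcases (mk_eq _ _).1 e with e' | e' <;> simp only [Subgroup.coe_mul, Subgroup.coe_inv] at e'
      · exact Or.inl e'.symm
      · exact Or.inr (by
          change z * y = y * z * u at e'
          rw [e', mul_assoc _ u u, huu', mul_one])
    -- the two-group generated by the pair and `u`
    obtain ⟨S, hSle, hSp, hzS, hyS⟩ : ∃ S : Subgroup G, S ≤ D.KU ∧ IsPGroup 2 S ∧ z ∈ S ∧ y ∈ S := by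
      refine ⟨Subgroup.zpowers (z * y) ⊔ Subgroup.zpowers z, sup_le ?_ ?_, ?_,
        Subgroup.mem_sup_right (Subgroup.mem_zpowers z), ?_⟩
      · rw [Subgroup.zpowers_le]
        exact mul_mem hzK (mul_mem (mul_mem n.2 hzK) (inv_mem n.2))
      · rw [Subgroup.zpowers_le]; exact hzK
      · refine IsPGroup.to_sup_of_normal_left' ?_ ?_ ?_
        · have h4 : (z * y) ^ 4 = 1 := by
            have e2 : (z * y) * (z * y) = 1 ∨ (z * y) * (z * y) = u := by
              rcases hyz with e | e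
              · left
                calc z * y * (z * y) = z * (y * z) * y := by group
                  _ = 1 := by rw [e, ← mul_assoc z z y, hzz', one_mul, hyy]
              · right
                calc z * y * (z * y) = z * (y * z) * y := by group
                  _ = z * z * (y * (u * y)) := by rw [e]; group
                  _ = u := by rw [hzz', one_mul, ← hyu.eq, ← mul_assoc, hyy, one_mul]
            rw [show 4 = 2 * 2 from rfl, pow_mul, pow_two (z * y)]
            rcases e2 with e | e <;> rw [e, pow_two]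
            exacts [mul_one 1, huu']
          obtain ⟨j, -, hj⟩ := (Nat.dvd_prime_pow Nat.prime_two).1
            (show orderOf (z * y) ∣ 2 ^ 2 from orderOf_dvd_of_pow_eq_one h4)
          exact IsPGroup.of_card (n := j) (by rw [Nat.card_zpowers, hj])
        · exact IsPGroup.of_card (n := 1) (by
            rw [Nat.card_zpowers, pow_one]
            exact orderOf_eq_prime (by rw [pow_two]; exact hzz')
              fun e => hz0 (D.val_eq_one D.zN_lt e))
        · rw [Subgroup.zpowers_le, Subgroup.mem_normalizer_iff]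
          have key : ∀ a, a ∈ Subgroup.zpowers (z * y) →
              z * a * z⁻¹ ∈ Subgroup.zpowers (z * y) := fun a ha => by
            obtain ⟨i, rfl⟩ := Subgroup.mem_zpowers_iff.1 ha
            refine ⟨-i, ?_⟩
            show (z * y) ^ (-i) = z * (z * y) ^ i * z⁻¹
            rw [← conj_zpow, zpow_neg, ← inv_zpow]
            congr 1
            rw [mul_inv_rev, hyi, ← mul_assoc z z, hzz', one_mul]
          refine fun a => ⟨key a, fun ha => ?_⟩
          have := key _ ha
          rwa [show z * (z * a * z⁻¹) * z⁻¹ = z * z * a * (z * z)⁻¹ by group, hzz', one_mul,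
            inv_one, mul_one] at this
      · have h' := mul_mem
          (Subgroup.mem_sup_right (S := Subgroup.zpowers (z * y)) (Subgroup.mem_zpowers z))
          (Subgroup.mem_sup_left (T := Subgroup.zpowers z) (Subgroup.mem_zpowers (z * y)))
        rwa [show z * (z * y) = y by rw [← mul_assoc, hzz', one_mul]] at h'
    obtain ⟨c, hc, hcS⟩ := D.conj_into_ru hh hk hhk h36 h42 hSle hSp
    have hcu : Commute c u := Subgroup.mem_centralizer_singleton_iff.1 hc
    have p1 := hcl hc (one_mem _) (by rw [one_mul, inv_one, mul_one]; exact hcS z hzS)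
    rw [one_mul, inv_one, mul_one] at p1
    have p2 := hcl hc n.2 (hcS y hyS)
    rw [← hy] at p2
    have back : ∀ r, c * r * c⁻¹ = z → c * (r * u) * c⁻¹ = z * u := fun r e => by
      rw [show c * (r * u) * c⁻¹ = c * r * c⁻¹ * (c * u * c⁻¹) by group, e, hcu.eq,
        mul_inv_cancel_right]
    have hcinj : ∀ a b : G, c * a * c⁻¹ = c * b * c⁻¹ → a = b := fun a b e =>
      mul_left_cancel (mul_right_cancel e)
    have hfin : y = z ∨ y = z * u := by
      rcases p1 with e1 | e1
      · rcases p2 with e2 | e2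
        · exact Or.inl (hcinj _ _ (e2.trans e1.symm))
        · exact Or.inr (hcinj _ _ (e2.trans (back z e1).symm))
      · have e1' : c * (z * u) * c⁻¹ = z := by
          rw [show c * (z * u) * c⁻¹ = c * z * c⁻¹ * (c * u * c⁻¹) by group, e1, hcu.eq,
            mul_inv_cancel_right, mul_assoc, huu', mul_one]
        rcases p2 with e2 | e2
        · exact Or.inr (hcinj _ _ (e2.trans e1'.symm))
        · exact Or.inl (hcinj _ _ (e2.trans e1.symm))
    rw [hzB, ← QuotientGroup.mk_inv, ← QuotientGroup.mk_mul, ← QuotientGroup.mk_mul, mk_eq]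
    show z = (n : G) * z * (n : G)⁻¹ ∨ z = (n : G) * z * (n : G)⁻¹ * u
    rcases hfin with e | e
    · exact Or.inl e.symm
    · right; rw [← hy, e, mul_assoc, huu', mul_one]
  have hO : Cfsg.oddCore D.KUB = ⊥ := by
    have hi2 : h⁻¹ = h * h := inv_eq_of_mul_eq_one_right (by
      rw [← hh.h3]; simp [pow_succ, mul_assoc])
    have hfix : ∀ i ∈ [tN, vN, tvN 2], ∀ o : D.KU, (QuotientGroup.mk o : D.KUB) ∈ Cfsg.oddCore D.KUB →
        (o : G) * D.val i * (o : G)⁻¹ = D.val i ∨
          (o : G) * D.val i * (o : G)⁻¹ = D.val i * u → (QuotientGroup.mk o : D.KUB) = 1 := by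
      intro i hi o ho hoi
      obtain ⟨hiru, hit, hii, hir⟩ := inverters i hi
      have hil := D.rl_lt hir
      have hou : (o : G) * u = u * (o : G) := Subgroup.mem_centralizer_singleton_iff.1 o.2
      obtain ⟨p, hp⟩ : ∃ p : G, p = (o : G) * (o : G) := ⟨_, rfl⟩
      have hpi : p * D.val i = D.val i * p := by
        refine mul_inv_eq_iff_eq_mul.1 ?_
        rw [show p * D.val i * p⁻¹ = (o : G) * ((o : G) * D.val i * (o : G)⁻¹) * (o : G)⁻¹ by
          rw [hp]; group]
        rcases hoi with e | e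
        · rw [e, e]
        · rw [e, show (o : G) * (D.val i * u) * (o : G)⁻¹ =
            (o : G) * D.val i * (o : G)⁻¹ * ((o : G) * u * (o : G)⁻¹) by group, e, hou,
            mul_inv_cancel_right, mul_assoc, huu', mul_one]
      have h64 : (o : G) ^ 128 = 1 := by
        obtain ⟨hur, hd⟩ := uN_rl
        -- move `i` to `t` by a power of the element of order three
        obtain ⟨q, d, hd', hq, hqd⟩ : ∃ q : G, ∃ d ∈ [uN, appN phiT uN, appN phiT (appN phiT uN)],
            q * D.val i * q⁻¹ = t ∧ q * u * q⁻¹ = D.val d := by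
          simp only [List.mem_cons, List.not_mem_nil, or_false] at hi
          rcases hi with rfl | rfl | rfl
          · exact ⟨1, uN, by simp, by rw [D.val_tau]; group, by rw [hu]; group⟩
          · refine ⟨h * h, appN phiT (appN phiT uN), by simp, ?_, ?_⟩
            · calc h * h * D.val vN * (h * h)⁻¹ = h * (h * D.val vN * h⁻¹) * h⁻¹ := by group
                _ = t := by rw [hh.hx, hh.toStd0.htv D]
            · calc h * h * u * (h * h)⁻¹ = h * (h * D.val uN * h⁻¹) * h⁻¹ := by rw [hu]; group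
                _ = _ := by rw [hh.act _ hur, hh.act _ (phiT_facts.1 _ hur)]
          · exact ⟨h, appN phiT uN, by simp, hh.toStd0.htv D, hh.act _ hur⟩
        obtain ⟨x, hx, hxv⟩ := D.val_surj (q * p * q⁻¹) (by
          have := conj_comm (h := q) hpi
          rwa [hq] at this)
        have hdl : d < 192 := by
          have : ∀ d ∈ [uN, appN phiT uN, appN phiT (appN phiT uN)], d < 192 := by decide +kernel
          exact this d hd'
        have e := D.val_pow hx 64
        rw [hd x (mem_els hx) d hd' (D.mul_val_eq hx hdl (by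
          rw [hxv, ← hqd]
          exact conj_comm (show p * u = u * p by rw [hp, mul_assoc, hou, ← mul_assoc, hou, mul_assoc]))),
          D.val_zero, hxv, conj_pow, eq_comm, conj_eq_one_iff, hp, ← pow_two, ← pow_mul] at e
        exact e
      have hodd : Odd (orderOf (QuotientGroup.mk o : D.KUB)) :=
        (CfsgLib.Base.odd_card_oddCore D.KUB).of_dvd_nat (by
          rw [← Subgroup.orderOf_mk _ ho]; exact orderOf_dvd_natCard _)
      exact orderOf_eq_one_iff.1 (Nat.Coprime.eq_one_of_dvd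
        (Nat.Coprime.pow_right 7 (Nat.coprime_two_right.2 hodd))
        (orderOf_dvd_of_pow_eq_one (by
          rw [← QuotientGroup.mk_pow, show o ^ 2 ^ 7 = 1 from Subtype.ext (by simpa using h64)]
          rfl)))
    have hiK : ∀ i ∈ [tN, vN, tvN 2], D.val i ∈ D.KU := fun i hi =>
      Subgroup.mem_centralizer_singleton_iff.2 (D.ru_comm (inverters i hi).1)
    have hinv : ∀ i (hi : i ∈ [tN, vN, tvN 2]), ∀ o ∈ Cfsg.oddCore D.KUB,
        QuotientGroup.mk ⟨D.val i, hiK i hi⟩ * o * (QuotientGroup.mk ⟨D.val i, hiK i hi⟩)⁻¹ = o⁻¹ := by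
      intro i hi o ho
      set a : D.KUB := QuotientGroup.mk ⟨D.val i, hiK i hi⟩ with ha
      have haa : a * a = 1 := by
        rw [ha, ← QuotientGroup.mk_mul, show (⟨D.val i, hiK i hi⟩ : D.KU) * ⟨D.val i, hiK i hi⟩ = 1
          from Subtype.ext (by
            rw [Subgroup.coe_mul]; show D.val i * D.val i = 1
            rw [← D.val_mul i i (D.rl_lt (inverters i hi).2.2.2) (D.rl_lt (inverters i hi).2.2.2),
              (inverters i hi).2.2.1, D.val_zero])]
        rfl
      rw [inv_eq_of_mul_eq_one_right haa]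
      refine CfsgLib.J1Unique.invert_of_fpf _ haa (fun b hb => ?_) (fun b hb h => ?_) o ho
      · have := Subgroup.Normal.conj_mem (inferInstance : (Cfsg.oddCore D.KUB).Normal) b hb a
        rwa [inv_eq_of_mul_eq_one_right haa] at this
      · obtain ⟨o', rfl⟩ := QuotientGroup.mk_surjective b
        refine hfix i hi o' hb ?_
        have e : (QuotientGroup.mk ⟨D.val i, hiK i hi⟩ : D.KUB) =
            QuotientGroup.mk (o' * ⟨D.val i, hiK i hi⟩ * o'⁻¹) := by
          rw [QuotientGroup.mk_mul, QuotientGroup.mk_mul, QuotientGroup.mk_inv, ← ha]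
          calc a = QuotientGroup.mk o' * ((QuotientGroup.mk o')⁻¹ * a * QuotientGroup.mk o') *
                (QuotientGroup.mk o')⁻¹ := by group
            _ = QuotientGroup.mk o' * ((a * QuotientGroup.mk o' * a)⁻¹ * a * QuotientGroup.mk o') *
                (QuotientGroup.mk o')⁻¹ := by rw [h]
            _ = QuotientGroup.mk o' * a⁻¹ * (QuotientGroup.mk o')⁻¹ := by group
            _ = _ := by rw [inv_eq_of_mul_eq_one_right haa]
        exact (mk_eq _ _).1 e
    rw [eq_bot_iff]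
    intro o ho
    rw [Subgroup.mem_bot]
    set a : D.KUB := QuotientGroup.mk ⟨D.val tN, hiK tN (by simp)⟩ with ha
    set b : D.KUB := QuotientGroup.mk ⟨D.val vN, hiK vN (by simp)⟩ with hb
    have hab : a * b = QuotientGroup.mk ⟨D.val (tvN 2), hiK (tvN 2) (by simp)⟩ := by
      rw [ha, hb, ← QuotientGroup.mk_mul]
      congr 1
      exact Subtype.ext (by
        rw [Subgroup.coe_mul]
        show D.val tN * D.val vN = D.val (tvN 2)
        rw [D.val_tau, D.val_tv])
    have ia := hinv tN (by simp) o ho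
    have ib := hinv vN (by simp) o ho
    have ic := hinv (tvN 2) (by simp) o ho
    rw [← ha] at ia
    rw [← hb] at ib
    rw [← hab] at ic
    have e : a * b * o * (a * b)⁻¹ = o := by
      calc a * b * o * (a * b)⁻¹ = a * (b * o * b⁻¹) * a⁻¹ := by group
        _ = (a * o * a⁻¹)⁻¹ := by rw [ib]; group
        _ = o := by rw [ia, inv_inv]
    rw [e] at ic
    have h2 : o ^ 2 = 1 := by rw [pow_two]; exact eq_inv_iff_mul_eq_one.1 ic
    have hodd : Odd (orderOf o) := (CfsgLib.Base.odd_card_oddCore D.KUB).of_dvd_nat (by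
      rw [← Subgroup.orderOf_mk _ ho]; exact orderOf_dvd_natCard _)
    exact orderOf_eq_one_iff.1
      ((Nat.coprime_two_right.2 hodd).eq_one_of_dvd (orderOf_dvd_of_pow_eq_one h2))
  have hxK : x ∈ D.KU := Subgroup.mem_centralizer_singleton_iff.2 hx
  have hc := Subgroup.mem_center_iff.1
    (CfsgLib.Involutions.ZStar.mem_center_of_oddCore_eq_bot hiso hO) (QuotientGroup.mk ⟨x, hxK⟩)
  rw [hzB, ← QuotientGroup.mk_mul, ← QuotientGroup.mk_mul, mk_eq] at hc
  simp only [Subgroup.coe_mul] at hc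
  have hxu : Commute x u := hx
  rcases hc with e | e
  · left; rw [← e, mul_inv_cancel_right]
  · right
    rw [hzuv', show x * z * x⁻¹ = (x * z * u) * u * x⁻¹ by rw [mul_assoc _ u u, huu', mul_one],
      ← e, mul_assoc (z * x) u, ← hxu.inv_left.eq, ← mul_assoc, mul_inv_cancel_right]

end Cen

end CfsgLib.Ext32
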