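import Cfsg.Agent.Lib.Ext32.Std

/-!
# The classes of involutions in the alternating type
-/

set_option autoImplicit false
set_option linter.unusedSectionVars false
set_option linter.style.haveILetI false
set_option maxRecDepth 100000
set_option maxHeartbeats 2000000

namespace CfsgLib.Ext32

open CfsgLib.U42 (conj_comm)
open scoped Pointwise

universe u

theorem syl_facts : IsSub 2 syl ∧ syl.length = 64 ∧ tN ∈ syl ∧
    ∀ n ∈ syl, (∀ a ∈ syl, mulN 2 n a = mulN 2 a n) → n = 0 ∨ n = tN := by decide +kernel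

theorem cls2_cases : ∀ p ∈ clsL 2, p.1 ∈ [tN, vN, 36, 42, 1, 97] ∧ (p.1 = tN → p.2 = [tN]) := by
  decide +kernel

theorem fusion_facts : (∃ m ∈ rl 2, m ∈ clsOf 2 1 ∧ appN phiT m ∈ clsOf 2 36) ∧
    ∃ m ∈ rl 2, m ∈ clsOf 2 97 ∧ appN phiT m ∈ clsOf 2 42 := by decide +kernel

namespace Cen

variable {G : Type u} [Group G] [Finite G] {t : G} (D : Cen 2 t)
include D

theorem cls_mem {a m : ℕ} (hm : m ∈ clsOf 2 a) : ∃ p ∈ clsL 2, p.1 = a ∧ m ∈ p.2 := by
  unfold clsOf at hm
  cases h : (clsL 2).find? fun p => p.1 == a with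
  | none => rw [h] at hm; simp at hm
  | some p =>
    rw [h] at hm
    refine ⟨p, List.mem_of_find?_eq_some h, ?_, by simpa using hm⟩
    simpa using List.find?_some h

theorem clsOf_conj {a m : ℕ} (hm : m ∈ clsOf 2 a) : IsConj (D.val a) (D.val m) := by
  obtain ⟨p, hp, rfl, h⟩ := D.cls_mem hm
  exact D.cls_conj hp h

theorem clsOf_lt {a m : ℕ} (hm : m ∈ clsOf 2 a) : a < 192 ∧ m < 192 := by
  obtain ⟨p, hp, rfl, h⟩ := D.cls_mem hm
  exact ⟨(class_lt 2 D.hkr p hp).1, (class_lt 2 D.hkr p hp).2 m h⟩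

/-- The Sylow two-subgroup of the model is one of the whole group. -/
theorem exists_sylow : ∃ P : Sylow 2 G, (P : Subgroup G) = D.grp syl_facts.1 := by
  haveI : Fact (Nat.Prime 2) := ⟨Nat.prime_two⟩
  set S := D.grp syl_facts.1 with hS
  have hp : IsPGroup 2 S := IsPGroup.of_card (n := 6) (by
    rw [hS, D.card_grp, syl_facts.2.1]; norm_num)
  obtain ⟨P, hP⟩ := hp.exists_le_sylow
  refine ⟨P, hP.antisymm' ?_⟩
  by_contra hne
  have hlt : S < (P : Subgroup G) := lt_of_le_of_ne hP fun e => hne e.ge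
  obtain ⟨g, hg, hgn⟩ := SetLike.exists_of_lt
    (Group.normalizerCondition_of_isNilpotent (G := (P : Subgroup G))
      (h := P.2.isNilpotent) (S.subgroupOf P) (by
        rw [lt_top_iff_ne_top]
        intro e
        exact hne (Subgroup.subgroupOf_eq_top.1 e)))
  have hlt' : ∀ m ∈ syl, m < 192 := fun m hm => (syl_facts.1.2.2.1 m hm).1
  have hconj : ∀ m ∈ syl, (g : G) * D.val m * (g : G)⁻¹ ∈ S := fun m hm =>
    (Subgroup.mem_normalizer_iff.1 hg ⟨D.val m, hP ⟨m, hm, rfl⟩⟩).1 ⟨m, hm, rfl⟩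
  have hconj' : ∀ m ∈ syl, (g : G)⁻¹ * D.val m * (g : G) ∈ S := fun m hm => by
    have h := (Subgroup.mem_normalizer_iff.1 (inv_mem hg) ⟨D.val m, hP ⟨m, hm, rfl⟩⟩).1
      ⟨m, hm, rfl⟩
    simpa [Subgroup.mem_subgroupOf] using h
  obtain ⟨n, hn, hnv⟩ := hconj tN syl_facts.2.2.1
  rcases syl_facts.2.2.2 n hn (fun a ha => D.mul_val_eq (hlt' n hn) (hlt' a ha) (by
      obtain ⟨b, hb, hbv⟩ := hconj' a ha
      rw [hnv, D.val_tau]
      have hc := D.val_comm b (hlt' b hb)
      rw [hbv] at hc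
      calc (g : G) * t * (g : G)⁻¹ * D.val a
          = (g : G) * (t * ((g : G)⁻¹ * D.val a * (g : G))) * (g : G)⁻¹ := by group
        _ = (g : G) * (((g : G)⁻¹ * D.val a * (g : G)) * t) * (g : G)⁻¹ := by rw [hc]
        _ = D.val a * ((g : G) * t * (g : G)⁻¹) := by group)) with e | e
  · rw [e, D.val_zero, D.val_tau, eq_comm, conj_eq_one_iff] at hnv
    have := D.ord
    rw [hnv, orderOf_one] at this
    norm_num at this
  · rw [e, D.val_tau, eq_mul_inv_iff_mul_eq] at hnv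
    set W : Subgroup G := (P : Subgroup G) ⊓ Subgroup.centralizer ({t} : Set G) with hW
    have hle : S ≤ W := le_inf hP (by
      rintro _ ⟨m, hm, rfl⟩
      exact Subgroup.mem_centralizer_singleton_iff.2 (D.val_comm m (hlt' m hm)))
    obtain ⟨k, hk⟩ := IsPGroup.iff_card.1 (P.2.to_le (inf_le_left : W ≤ (P : Subgroup G)))
    have hd : 2 ^ k ∣ 192 := by
      rw [← hk, ← D.card_cent]; exact Subgroup.card_dvd_of_le inf_le_right
    have hk6 : k ≤ 6 := by
      by_contra hk7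
      exact absurd ((pow_dvd_pow 2 (by omega : 7 ≤ k)).trans hd) (by norm_num)
    have heq : S = W := Subgroup.eq_of_le_of_card_ge hle (by
      rw [hk, hS, D.card_grp, syl_facts.2.1]
      exact le_trans (Nat.pow_le_pow_right (by norm_num) hk6) (by norm_num))
    refine hgn ?_
    rw [Subgroup.mem_subgroupOf, heq]
    exact ⟨g.2, Subgroup.mem_centralizer_singleton_iff.2 hnv.symm⟩

/-- An involution of a two-subgroup has a conjugate in the Sylow subgroup of the model. -/
theorem exists_conj_syl {v : G} (hv : orderOf v = 2) :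
    ∃ m ∈ syl, IsConj (D.val m) v := by
  haveI : Fact (Nat.Prime 2) := ⟨Nat.prime_two⟩
  obtain ⟨P, hP⟩ := D.exists_sylow
  obtain ⟨R, hR⟩ := (IsPGroup.of_card (n := 1)
    (show Nat.card (Subgroup.zpowers v) = 2 ^ 1 by rw [Nat.card_zpowers, hv, pow_one])).exists_le_sylow
  obtain ⟨u, hu⟩ := MulAction.exists_smul_eq G R P
  have hw : u * v * u⁻¹ ∈ D.grp syl_facts.1 := by
    have h1 : MulAut.conj u • v ∈ MulAut.conj u • (R : Subgroup G) :=
      Subgroup.smul_mem_pointwise_smul v _ _ (hR (Subgroup.mem_zpowers v))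
    rw [← Sylow.coe_subgroup_smul] at h1
    rw [hu, hP] at h1
    exact h1
  obtain ⟨m, hm, hmv⟩ := hw
  exact ⟨m, hm, isConj_iff.2 ⟨u⁻¹, by rw [hmv]; group⟩⟩

variable {h : G} (hh : D.Std h)
include hh

theorem conj_v : IsConj t (D.val vN) := isConj_iff.2 ⟨h, hh.ht⟩

theorem conj_one : IsConj (D.val 36) (D.val 1) ∧ IsConj (D.val 42) (D.val 97) := by
  have key : ∀ {m a b : ℕ}, m ∈ rl 2 → m ∈ clsOf 2 a → appN phiT m ∈ clsOf 2 b →
      IsConj (D.val b) (D.val a) := fun {m a b} h1 h2 h3 =>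
    ((D.clsOf_conj h3).trans (isConj_iff.2 ⟨h⁻¹, by rw [← hh.act m h1]; group⟩)).trans
      (D.clsOf_conj h2).symm
  obtain ⟨⟨m, a1, a2, a3⟩, m', b1, b2, b3⟩ := fusion_facts
  exact ⟨key a1 a2 a3, key b1 b2 b3⟩

/-- An involution commuting with `t` is conjugate to `t` or to one of two others. -/
theorem invol_fused_cent {v : G} (hv : orderOf v = 2) (hc : v * t = t * v) :
    IsConj t v ∨ IsConj (D.val 36) v ∨ IsConj (D.val 42) v := by
  obtain ⟨m, hm, rfl, p, hp, hmp⟩ := D.invol_val hv hc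
  have hpm := D.cls_conj hp hmp
  obtain ⟨c1, c2⟩ := D.conj_one hh
  have := (cls2_cases p hp).1
  simp only [List.mem_cons, List.not_mem_nil, or_false] at this
  rcases this with e | e | e | e | e | e <;> rw [e] at hpm
  · rw [D.val_tau] at hpm; exact Or.inl hpm
  · exact Or.inl ((D.conj_v hh).trans hpm)
  · exact Or.inr (Or.inl hpm)
  · exact Or.inr (Or.inr hpm)
  · exact Or.inr (Or.inl (c1.trans hpm))
  · exact Or.inr (Or.inr (c2.trans hpm))

/-- Every involution is conjugate to `t` or to one of two others. -/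
theorem invol_fused {v : G} (hv : orderOf v = 2) :
    IsConj t v ∨ IsConj (D.val 36) v ∨ IsConj (D.val 42) v := by
  obtain ⟨m, hm, hc⟩ := D.exists_conj_syl hv
  have hml := (syl_facts.1.2.2.1 m hm).1
  have ho : orderOf (D.val m) = 2 := by
    obtain ⟨u, hu⟩ := isConj_iff.1 hc
    rw [← hu] at hv
    exact ((MulAut.conj u).orderOf_eq (D.val m)).symm.trans hv
  rcases D.invol_fused_cent hh ho (D.val_comm m hml) with e | e | e
  exacts [Or.inl (e.trans hc), Or.inr (Or.inl (e.trans hc)), Or.inr (Or.inr (e.trans hc))]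

end Cen

end CfsgLib.Ext32
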