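import Cfsg.Agent.Lib.Ext32.Fusion
import Mathlib.GroupTheory.Transfer
import Mathlib.GroupTheory.Perm.Cycle.Type

/-!
# The pattern with one class of involutions is impossible

The normalizer of the elementary group of order sixteen would be an extension of it by a group of
order sixty with a self-normalizing four-group.
-/

set_option autoImplicit false
set_option linter.unusedSectionVars false
set_option linter.style.haveILetI false
set_option maxRecDepth 100000
set_option maxHeartbeats 2000000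

namespace CfsgLib.Ext32

open CfsgLib.U42 (conj_comm)
open scoped Pointwise

universe u

variable {G : Type u} [Group G] [Finite G]

/-- Orbit and stabilizer for the conjugation of a subgroup. -/
theorem card_conj_orbit (H : Subgroup G) (x : G) (X : Set G)
    (hX : ∀ y, y ∈ X ↔ ∃ h ∈ H, h * x * h⁻¹ = y) :
    Nat.card H = Nat.card X * Nat.card ↥(H ⊓ Subgroup.centralizer ({x} : Set G)) := by
  set C : Subgroup H := (H ⊓ Subgroup.centralizer ({x} : Set G)).subgroupOf H with hC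
  let f : H ⧸ C → X := fun q => Quotient.liftOn' q
    (fun h => (⟨(h : G) * x * (h : G)⁻¹, (hX _).2 ⟨h, h.2, rfl⟩⟩ : X)) (by
      intro a b hab
      rw [QuotientGroup.leftRel_apply, hC, Subgroup.mem_subgroupOf] at hab
      have hc := Subgroup.mem_centralizer_singleton_iff.1 hab.2
      simp only [Subgroup.coe_mul, Subgroup.coe_inv] at hc
      refine Subtype.ext ?_
      show (a : G) * x * (a : G)⁻¹ = (b : G) * x * (b : G)⁻¹
      calc (a : G) * x * (a : G)⁻¹ = (a : G) * (x * ((a : G)⁻¹ * (b : G))) * (b : G)⁻¹ := by group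
        _ = (a : G) * (((a : G)⁻¹ * (b : G)) * x) * (b : G)⁻¹ := by rw [hc]
        _ = _ := by group)
  have hf : Function.Bijective f := by
    constructor
    · intro p q
      induction p using QuotientGroup.induction_on with
      | H a =>
        induction q using QuotientGroup.induction_on with
        | H b =>
          intro h
          have h' : (a : G) * x * (a : G)⁻¹ = (b : G) * x * (b : G)⁻¹ := congrArg Subtype.val h
          rw [QuotientGroup.eq, hC, Subgroup.mem_subgroupOf]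
          refine ⟨(a⁻¹ * b : H).2, Subgroup.mem_centralizer_singleton_iff.2 ?_⟩
          simp only [Subgroup.coe_mul, Subgroup.coe_inv]
          calc (a : G)⁻¹ * (b : G) * x = (a : G)⁻¹ * ((b : G) * x * (b : G)⁻¹) * (b : G) := by group
            _ = (a : G)⁻¹ * ((a : G) * x * (a : G)⁻¹) * (b : G) := by rw [h']
            _ = x * ((a : G)⁻¹ * (b : G)) := by group
    · rintro ⟨y, hy⟩
      obtain ⟨h, hh, rfl⟩ := (hX y).1 hy
      exact ⟨QuotientGroup.mk ⟨h, hh⟩, rfl⟩
  rw [Subgroup.card_eq_card_quotient_mul_card_subgroup C, Nat.card_eq_of_bijective f hf,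
    Nat.card_congr (Subgroup.subgroupOfEquivOfLe inf_le_left).toEquiv]

/-- An element acting with period `p` on a finite set of cardinality prime to `p` fixes a point. -/
theorem exists_fixed_conj {p : ℕ} [Fact p.Prime] {f : G} (X : Set G)
    (hX : ∀ y ∈ X, f * y * f⁻¹ ∈ X) (hp : ∀ y ∈ X, f ^ p * y = y * f ^ p)
    (hcard : ¬ p ∣ Nat.card X) : ∃ y ∈ X, f * y = y * f := by
  classical
  haveI := Fintype.ofFinite X
  let a : X → X := fun y => ⟨f * y.1 * f⁻¹, hX y y.2⟩
  have ha : Function.Bijective a := Finite.injective_iff_bijective.1 fun u v h => Subtype.ext (by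
    have := congrArg Subtype.val h
    simpa [a] using this)
  have hit : ∀ (n : ℕ) (y : X), ((Equiv.ofBijective a ha) ^ n) y =
      ⟨f ^ n * y.1 * (f ^ n)⁻¹, by
        induction n with
        | zero => simpa using y.2
        | succ n ih =>
          have := hX _ ih
          rwa [show f * (f ^ n * y.1 * (f ^ n)⁻¹) * f⁻¹ = f ^ (n + 1) * y.1 * (f ^ (n + 1))⁻¹ by
            rw [pow_succ']; group] at this⟩ := by
    intro n
    induction n with
    | zero => intro y; exact Subtype.ext (by simp)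
    | succ n ih =>
      intro y
      rw [pow_succ', Equiv.Perm.mul_apply, ih]
      exact Subtype.ext (by
        show f * (f ^ n * y.1 * (f ^ n)⁻¹) * f⁻¹ = f ^ (n + 1) * y.1 * (f ^ (n + 1))⁻¹
        rw [pow_succ']; group)
  obtain ⟨y, hy⟩ := Equiv.Perm.exists_fixed_point_of_prime (σ := Equiv.ofBijective a ha) (p := p) (n := 1)
    (by rwa [← Nat.card_eq_fintype_card]) (Equiv.ext fun y => by
      rw [pow_one, hit]
      exact Subtype.ext (mul_inv_eq_iff_eq_mul.2 (hp y y.2)))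
  exact ⟨y.1, y.2, mul_inv_eq_iff_eq_mul.1 (congrArg Subtype.val hy)⟩

theorem a16_one : IsSub 2 a16 ∧ a16.length = 16 ∧ tN ∈ a16 ∧
    (∀ a ∈ a16, a ∈ syl ∧ mulN 2 a a = 0 ∧ ∀ b ∈ a16, mulN 2 a b = mulN 2 b a) ∧
    (∀ n ∈ els, (∀ a ∈ a16, cjN 2 n a ∈ a16) → n ∈ syl) ∧
    (∀ n ∈ syl, ∀ a ∈ a16, cjN 2 n a ∈ a16) ∧
    (∀ n ∈ els, (∀ a ∈ a16, mulN 2 n a = mulN 2 a n) → n ∈ a16) := by decide +kernel

theorem syl_quot : (∀ a ∈ syl, mulN 2 a a ∈ a16) ∧
    (∀ a ∈ syl, ∀ b ∈ syl, mulN 2 (mulN 2 (mulN 2 (invN 2 a) (invN 2 b)) a) b ∈ a16) ∧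
    60 ∈ syl ∧ 42 ∈ syl ∧ 60 ∉ a16 ∧ 42 ∉ a16 ∧ mulN 2 60 42 ∉ a16 ∧ mulN 2 60 42 ∈ syl := by
  decide +kernel

theorem twelve_in_syl : ∀ x ∈ syl, x ∉ a16 → mulN 2 x x = 0 →
    (syl.filter fun y => mulN 2 y y == 0 && mulN 2 x y == mulN 2 y x).length < 16 := by decide +kernel

namespace Cen

variable {t : G} (D : Cen 2 t)
include D

theorem syl_lt {m : ℕ} (hm : m ∈ syl) : m < 192 := (syl_facts.1.2.2.1 m hm).1

theorem a16_one_lt {m : ℕ} (hm : m ∈ a16) : m < 192 := (a16_one.1.2.2.1 m hm).1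

theorem syl_le_cent : D.grp syl_facts.1 ≤ Subgroup.centralizer ({t} : Set G) := by
  rintro _ ⟨m, hm, rfl⟩
  exact D.mem_cent_iff.2 ⟨m, D.syl_lt hm, rfl⟩

/-- The only elementary group of order sixteen in the Sylow subgroup. -/
theorem a16_unique {B : Subgroup G} (hB : B ≤ D.grp syl_facts.1) (h16 : Nat.card B = 16)
    (hc : ∀ a ∈ B, ∀ b ∈ B, a * b = b * a) (h2 : ∀ a ∈ B, a * a = 1) : B = D.grp a16_one.1 := by
  refine Subgroup.eq_of_le_of_card_ge (fun b hb => ?_) (by rw [D.card_grp, a16_one.2.1, h16])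
  obtain ⟨x, hx, rfl⟩ := hB hb
  by_contra hne
  have hxl := D.syl_lt hx
  have hlt := twelve_in_syl x hx (fun h => hne ⟨x, h, rfl⟩) (D.val_sq hxl (h2 _ hb))
  set l := syl.filter fun y => mulN 2 y y == 0 && mulN 2 x y == mulN 2 y x with hl
  have hsub : ∀ m ∈ l, m < 192 := fun m hm => D.syl_lt (List.mem_filter.1 hm).1
  have hcard := D.card_image hsub (syl_facts.1.1.filter _)
  have hle : Nat.card B ≤ Nat.card {g : G // ∃ m ∈ l, D.val m = g} := by
    refine Nat.card_le_card_of_injective (fun b : B => (⟨b.1, ?_⟩ : {g : G // ∃ m ∈ l, D.val m = g}))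
      fun a b h => Subtype.ext (congrArg (fun z => z.1) h)
    obtain ⟨y, hy, hyb⟩ := hB b.2
    have e1 : mulN 2 y y = 0 := D.val_sq (D.syl_lt hy) (by rw [hyb]; exact h2 _ b.2)
    have e2 : mulN 2 x y = mulN 2 y x :=
      D.mul_val_eq hxl (D.syl_lt hy) (by rw [hyb]; exact hc _ hb _ b.2)
    exact ⟨y, List.mem_filter.2 ⟨hy, by simp [e1, e2]⟩, hyb⟩
  omega

/-- A two-subgroup centralizing `t` has a conjugate in the Sylow subgroup of the model. -/
theorem exists_conj_le {B : Subgroup G} (hB : B ≤ Subgroup.centralizer ({t} : Set G))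
    (hp : IsPGroup 2 B) : ∃ c : G, c * t * c⁻¹ = t ∧ ∀ b ∈ B, c * b * c⁻¹ ∈ D.grp syl_facts.1 := by
  haveI : Fact (Nat.Prime 2) := ⟨Nat.prime_two⟩
  set C := Subgroup.centralizer ({t} : Set G) with hC
  have hS : Nat.card ((D.grp syl_facts.1).subgroupOf C) = 2 ^ (Nat.card C).factorization 2 := by
    rw [Nat.card_congr (Subgroup.subgroupOfEquivOfLe D.syl_le_cent).toEquiv, D.card_grp,
      syl_facts.2.1, D.card_cent, show (192 : ℕ) = 2 ^ 6 * 3 by norm_num,
      Nat.factorization_mul (by norm_num) (by norm_num), Finsupp.add_apply,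
      Nat.Prime.factorization_pow Nat.prime_two, Finsupp.single_eq_same,
      Nat.factorization_eq_zero_of_not_dvd (by norm_num : ¬ 2 ∣ 3)]
    norm_num
  obtain ⟨R, hR⟩ := (hp.of_equiv (Subgroup.subgroupOfEquivOfLe hB).symm).exists_le_sylow
  obtain ⟨c, hc⟩ := MulAction.exists_smul_eq C R (Sylow.ofCard _ hS)
  refine ⟨c, mul_inv_eq_iff_eq_mul.2 (Subgroup.mem_centralizer_singleton_iff.1 c.2), fun b hb => ?_⟩
  have h1 : MulAut.conj c • (⟨b, hB hb⟩ : C) ∈ MulAut.conj c • (R : Subgroup C) :=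
    Subgroup.smul_mem_pointwise_smul _ _ _ (hR (Subgroup.mem_subgroupOf.2 hb))
  rw [← Sylow.coe_subgroup_smul, hc] at h1
  exact h1

theorem a16_comm : ∀ a ∈ D.grp a16_one.1, ∀ b ∈ D.grp a16_one.1, a * b = b * a := by
  rintro _ ⟨m, hm, rfl⟩ _ ⟨n, hn, rfl⟩
  exact D.val_commute (D.a16_one_lt hm) (D.a16_one_lt hn) ((a16_one.2.2.2.1 m hm).2.2 n hn)

theorem a16_sq : ∀ a ∈ D.grp a16_one.1, a * a = 1 := by
  rintro _ ⟨m, hm, rfl⟩
  rw [← D.val_mul _ _ (D.a16_one_lt hm) (D.a16_one_lt hm), (a16_one.2.2.2.1 m hm).2.1, D.val_zero]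

theorem t_mem_a16 : t ∈ D.grp a16_one.1 := ⟨tN, a16_one.2.2.1, D.val_tau⟩

theorem t_ne_one : t ≠ 1 := fun h => by
  have := D.ord
  rw [h, orderOf_one] at this
  norm_num at this

theorem norm_a16_cent : Subgroup.normalizer (D.grp a16_one.1 : Set G) ⊓
    Subgroup.centralizer ({t} : Set G) = D.grp syl_facts.1 := by
  refine le_antisymm ?_ (le_inf ?_ D.syl_le_cent)
  · rintro g ⟨hg, hgc⟩
    obtain ⟨n, hn, rfl⟩ := D.mem_cent_iff.1 hgc
    refine ⟨n, a16_one.2.2.2.2.1 n (mem_els hn) fun a ha => ?_, rfl⟩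
    obtain ⟨b, hb, hbv⟩ := (Subgroup.mem_normalizer_iff.1 hg (D.val a)).1 ⟨a, ha, rfl⟩
    exact D.val_inj b _ (D.a16_one_lt hb) (cjN_lt ..) (hbv.trans (D.val_cj hn (D.a16_one_lt ha)).symm) ▸ hb
  · rintro _ ⟨n, hn, rfl⟩
    refine Subgroup.mem_normalizer_iff_map_conj_eq.2 (Subgroup.eq_of_le_of_card_ge ?_ ?_)
    · rintro _ ⟨_, ⟨a, ha, rfl⟩, rfl⟩
      exact ⟨cjN 2 n a, a16_one.2.2.2.2.2.1 n hn a ha, D.val_cj (D.syl_lt hn) (D.a16_one_lt ha)⟩
    · exact (Nat.card_congr (Subgroup.equivMapOfInjective _ _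
        (MulAut.conj (D.val n)).injective).toEquiv).le

variable {h : G} (hh : D.Std h)
include hh

/-- The pattern with one class of involutions is impossible. -/
theorem one_class_false (h36 : IsConj t (D.val 36)) (h42 : IsConj t (D.val 42)) : False := by
  classical
  haveI : Fact (Nat.Prime 2) := ⟨Nat.prime_two⟩
  haveI : Fact (Nat.Prime 5) := ⟨Nat.prime_five⟩
  set A := D.grp a16_one.1 with hA
  set S := D.grp syl_facts.1 with hS
  have hA16 : Nat.card A = 16 := by rw [hA, D.card_grp, a16_one.2.1]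
  set N := Subgroup.normalizer (A : Set G) with hN
  have hall : ∀ v : G, orderOf v = 2 → IsConj t v := fun v hv => by
    rcases D.invol_fused hh hv with e | e | e
    exacts [e, h36.trans e, h42.trans e]
  -- `N` is transitive on the involutions of `A`
  have htrans : ∀ a ∈ A, a ≠ 1 → ∃ n ∈ N, n * t * n⁻¹ = a := by
    intro a ha hane
    obtain ⟨g, hg⟩ := isConj_iff.1 (hall a (orderOf_eq_prime (by rw [pow_two]; exact D.a16_sq a ha) hane))
    set B := A.map (MulAut.conj g⁻¹).toMonoidHom with hB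
    have hBC : B ≤ Subgroup.centralizer ({t} : Set G) := by
      rintro _ ⟨b, hb, rfl⟩
      rw [Subgroup.mem_centralizer_singleton_iff, MulEquiv.coe_toMonoidHom, MulAut.conj_apply]
      have := conj_comm (h := g⁻¹) (D.a16_comm b hb a ha)
      rwa [show g⁻¹ * a * g⁻¹⁻¹ = t by rw [← hg]; group] at this
    have hBcard : Nat.card B = 16 := by
      rw [← hA16]
      exact Nat.card_congr (Subgroup.equivMapOfInjective _ _ (MulAut.conj g⁻¹).injective).toEquiv.symm
    obtain ⟨c, hct, hcB⟩ := D.exists_conj_le hBC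
      (IsPGroup.of_card (n := 4) (by rw [hBcard]; norm_num))
    set B' := B.map (MulAut.conj c).toMonoidHom with hB'
    have heq : B' = A := D.a16_unique
      (by rintro _ ⟨b, hb, rfl⟩; exact hcB b hb)
      (by rw [← hBcard]
          exact Nat.card_congr (Subgroup.equivMapOfInjective _ _ (MulAut.conj c).injective).toEquiv.symm)
      (by
        rintro _ ⟨_, ⟨x, hx, rfl⟩, rfl⟩ _ ⟨_, ⟨y, hy, rfl⟩, rfl⟩
        rw [← map_mul, ← map_mul, D.a16_comm x hx y hy, map_mul, map_mul])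
      (by
        rintro _ ⟨_, ⟨x, hx, rfl⟩, rfl⟩
        rw [← map_mul, ← map_mul, D.a16_sq x hx, map_one, map_one])
    refine ⟨(c * g⁻¹)⁻¹, inv_mem (Subgroup.mem_normalizer_iff_map_conj_eq.2 ?_), ?_⟩
    · conv_rhs => rw [← heq, hB', hB, Subgroup.map_map]
      congr 1
      ext x
      simp [MonoidHom.comp_apply, mul_assoc]
    · calc (c * g⁻¹)⁻¹ * t * (c * g⁻¹)⁻¹⁻¹ = g * (c⁻¹ * (c * t * c⁻¹) * c) * g⁻¹ := by
            rw [hct]; group
        _ = a := by rw [← hg]; group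
  have hNC : N ⊓ Subgroup.centralizer ({t} : Set G) = S := D.norm_a16_cent
  have hX : ∀ y, y ∈ ((A : Set G) \ {1}) ↔ ∃ n ∈ N, n * t * n⁻¹ = y := by
    intro y
    constructor
    · rintro ⟨hy, hy1⟩; exact htrans y hy (by simpa using hy1)
    · rintro ⟨n, hn, rfl⟩
      exact ⟨(Subgroup.mem_normalizer_iff.1 hn t).1 D.t_mem_a16,
        fun e => D.t_ne_one (conj_eq_one_iff.1 e)⟩
  have hN960 : Nat.card N = 960 := by
    rw [card_conj_orbit N t _ hX, hNC, hS, D.card_grp, syl_facts.2.1, Nat.card_coe_set_eq,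
      Set.ncard_diff (by simp) (Set.finite_singleton 1), Set.ncard_singleton, ← Nat.card_coe_set_eq]
    show (Nat.card A - 1) * 64 = 960
    rw [hA16]
  have hAN : A ≤ N := Subgroup.le_normalizer
  set A' := A.subgroupOf N with hA'
  haveI : A'.Normal := Subgroup.normal_in_normalizer
  have hA'16 : Nat.card A' = 16 := by
    rw [hA', Nat.card_congr (Subgroup.subgroupOfEquivOfLe hAN).toEquiv, hA16]
  set π := QuotientGroup.mk' A' with hπ
  have hQ60 : Nat.card (N ⧸ A') = 60 := by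
    have := Subgroup.card_eq_card_quotient_mul_card_subgroup A'
    rw [hN960, hA'16] at this
    omega
  have hSN : S ≤ N := hNC ▸ inf_le_left
  set V := (S.subgroupOf N).map π with hV
  have hV4 : Nat.card V = 4 := by
    have hAS : A ≤ S := by
      rintro _ ⟨m, hm, rfl⟩; exact ⟨m, (a16_one.2.2.2.1 m hm).1, rfl⟩
    have h1 : Nat.card V * Nat.card A' = Nat.card (S.subgroupOf N) := by
      rw [hV, ← Subgroup.relIndex_bot_left, ← Subgroup.map_bot π, Subgroup.relIndex_map_map,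
        hπ, QuotientGroup.ker_mk', bot_sup_eq,
        sup_eq_left.2 (show A' ≤ S.subgroupOf N from fun x hx => hAS hx)]
      rw [← Subgroup.relIndex_bot_left A', ← Subgroup.relIndex_bot_left (S.subgroupOf N), mul_comm]
      exact Subgroup.relIndex_mul_relIndex (⊥ : Subgroup N) A' (S.subgroupOf N) bot_le
        (fun x hx => hAS hx)
    rw [hA'16, Nat.card_congr (Subgroup.subgroupOfEquivOfLe hSN).toEquiv, hS, D.card_grp,
      syl_facts.2.1] at h1
    omega
  have hVfac : Nat.card V = 2 ^ (Nat.card (N ⧸ A')).factorization 2 := by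
    rw [hV4, hQ60, show (60 : ℕ) = 2 ^ 2 * 15 by norm_num,
      Nat.factorization_mul (by norm_num) (by norm_num), Finsupp.add_apply,
      Nat.Prime.factorization_pow Nat.prime_two, Finsupp.single_eq_same,
      Nat.factorization_eq_zero_of_not_dvd (by norm_num : ¬ 2 ∣ 15)]
    norm_num
  set P : Sylow 2 (N ⧸ A') := Sylow.ofCard V hVfac with hP
  have hVab : ∀ x ∈ V, ∀ y ∈ V, x * y = y * x := by
    rintro _ ⟨x, ⟨m, hm, hmv⟩, rfl⟩ _ ⟨y, ⟨n, hn, hnv⟩, rfl⟩
    rw [hπ, QuotientGroup.mk'_apply, QuotientGroup.mk'_apply, ← QuotientGroup.mk_mul,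
      ← QuotientGroup.mk_mul]
    refine ((QuotientGroup.eq).2 ?_).symm
    refine ⟨_, syl_quot.2.1 m hm n hn, ?_⟩
    have l1 := D.syl_lt hm
    have l2 := D.syl_lt hn
    rw [D.val_mul _ _ (mulN_lt ..) l2, D.val_mul _ _ (mulN_lt ..) l1,
      D.val_mul _ _ (invN_lt D.hk l1) (invN_lt D.hk l2), D.val_inv l1, D.val_inv l2, hmv, hnv]
    show ((x : N) : G)⁻¹ * (y : G)⁻¹ * x * y = (((y * x)⁻¹ * (x * y) : N) : G)
    simp [mul_assoc]
  have hself : Subgroup.normalizer ((P : Subgroup (N ⧸ A')) : Set (N ⧸ A')) ≤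
      Subgroup.centralizer ((P : Subgroup (N ⧸ A')) : Set (N ⧸ A')) := by
    have hPV : (P : Subgroup (N ⧸ A')) = V := rfl
    rw [hPV]
    intro q hq
    obtain ⟨n, rfl⟩ := QuotientGroup.mk_surjective q
    suffices hn : (n : G) ∈ S by
      intro v hv
      exact hVab v hv _ ⟨n, hn, rfl⟩
    have hconj : ∀ x : N, (x : G) ∈ S → (n : G) * x * (n : G)⁻¹ ∈ S := by
      intro x hx
      obtain ⟨y, hy, hyv⟩ := (Subgroup.mem_normalizer_iff.1 hq (π x)).1 ⟨x, hx, rfl⟩
      rw [hπ, QuotientGroup.mk'_apply, QuotientGroup.mk'_apply, ← QuotientGroup.mk_inv,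
        ← QuotientGroup.mk_mul, ← QuotientGroup.mk_mul, QuotientGroup.eq] at hyv
      obtain ⟨a, ha, hav⟩ := hyv
      have e : (n : G) * x * (n : G)⁻¹ = (y : G) * D.val a := by
        rw [hav]; simp
      rw [e]
      exact mul_mem hy ⟨a, (a16_one.2.2.2.1 a ha).1, rfl⟩
    obtain ⟨m, hm, hmv⟩ := hconj ⟨t, hAN D.t_mem_a16⟩ ⟨tN, syl_facts.2.2.1, D.val_tau⟩
    rcases syl_facts.2.2.2 m hm (fun a ha => D.mul_val_eq (D.syl_lt hm) (D.syl_lt ha) (by
        have hback : (n : G)⁻¹ * D.val a * (n : G) ∈ S := by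
          have hq' := inv_mem hq
          obtain ⟨y, hy, hyv⟩ := (Subgroup.mem_normalizer_iff.1 hq' (π ⟨D.val a, hSN ⟨a, ha, rfl⟩⟩)).1
            ⟨_, ⟨a, ha, rfl⟩, rfl⟩
          rw [hπ, QuotientGroup.mk'_apply, QuotientGroup.mk'_apply, ← QuotientGroup.mk_inv,
            ← QuotientGroup.mk_inv, ← QuotientGroup.mk_mul, ← QuotientGroup.mk_mul,
            QuotientGroup.eq] at hyv
          obtain ⟨b, hb, hbv⟩ := hyv
          have e : (n : G)⁻¹ * D.val a * (n : G) = (y : G) * D.val b := by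
            rw [hbv]; simp
          rw [e]
          exact mul_mem hy ⟨b, (a16_one.2.2.2.1 b hb).1, rfl⟩
        obtain ⟨b, hb, hbv⟩ := hback
        have hcm := D.val_comm b (D.syl_lt hb)
        rw [hbv] at hcm
        rw [hmv]
        calc (n : G) * t * (n : G)⁻¹ * D.val a
            = (n : G) * (t * ((n : G)⁻¹ * D.val a * (n : G))) * (n : G)⁻¹ := by group
          _ = (n : G) * (((n : G)⁻¹ * D.val a * (n : G)) * t) * (n : G)⁻¹ := by rw [hcm]
          _ = D.val a * ((n : G) * t * (n : G)⁻¹) := by group)) with rfl | rfl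
    · rw [D.val_zero, eq_comm, conj_eq_one_iff] at hmv
      exact absurd hmv D.t_ne_one
    · rw [D.val_tau, eq_mul_inv_iff_mul_eq] at hmv
      rw [← hNC]
      exact ⟨n.2, Subgroup.mem_centralizer_singleton_iff.2 hmv.symm⟩
  -- the normal subgroup of order five
  set φ := MonoidHom.transferSylow P hself with hφ
  set K := φ.ker with hK
  have hK15 : Nat.card K = 15 := by
    have h := (MonoidHom.ker_transferSylow_isComplement' P hself).card_mul
    have hPc : Nat.card (P : Subgroup (N ⧸ A')) = 4 := hV4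
    rw [hPc, hQ60] at h
    change Nat.card K * 4 = 60 at h
    omega
  obtain ⟨f, hf⟩ := exists_prime_orderOf_dvd_card' (G := N) 5 (by rw [hN960]; norm_num)
  set q := π f with hq
  have hq5 : orderOf q = 5 := by
    refine orderOf_eq_prime (by rw [hq, ← map_pow, ← hf, pow_orderOf_eq_one, map_one]) fun e => ?_
    rw [hq, hπ, QuotientGroup.mk'_apply, QuotientGroup.eq_one_iff] at e
    have h1 := Subgroup.orderOf_dvd_natCard _ e
    rw [hf, hA'16] at h1
    norm_num at h1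
  have hqK : q ∈ K := by
    rw [hK, MonoidHom.mem_ker]
    have h1 : orderOf (φ q) ∣ 5 := hq5 ▸ orderOf_map_dvd φ q
    have h2 : orderOf (φ q) ∣ 4 := by
      have := orderOf_dvd_natCard (φ q)
      rwa [show Nat.card (P : Subgroup (N ⧸ A')) = 4 from hV4] at this
    exact orderOf_eq_one_iff.1 (Nat.dvd_one.1 (Nat.dvd_gcd h1 h2))
  have hnormal : ∀ v : N ⧸ A', ∃ i : ℤ, v * q * v⁻¹ = q ^ i := by
    intro v
    have hr : v * q * v⁻¹ ∈ K := (inferInstance : K.Normal).conj_mem q hqK v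
    set qK : K := ⟨q, hqK⟩ with hqKd
    set rK : K := ⟨_, hr⟩ with hrKd
    have oq : orderOf qK = 5 := by rw [← Subgroup.orderOf_coe]; exact hq5
    have orr : orderOf rK = 5 := by
      rw [← Subgroup.orderOf_coe]; exact ((MulAut.conj v).orderOf_eq q).trans hq5
    have hfac : (Nat.card K).factorization 5 = 1 := by
      rw [hK15, show (15 : ℕ) = 5 * 3 by norm_num,
        Nat.factorization_mul (by norm_num) (by norm_num), Finsupp.add_apply,
        Nat.Prime.factorization_self Nat.prime_five,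
        Nat.factorization_eq_zero_of_not_dvd (by norm_num : ¬ 5 ∣ 3)]
    let P1 : Sylow 5 K := Sylow.ofCard (Subgroup.zpowers qK) (by
      rw [Nat.card_zpowers, oq, hfac]; rfl)
    let P2 : Sylow 5 K := Sylow.ofCard (Subgroup.zpowers rK) (by
      rw [Nat.card_zpowers, orr, hfac]; rfl)
    have hsub : Nat.card (Sylow 5 K) = 1 := by
      have h1 := card_sylow_modEq_one 5 K
      have h2 : Nat.card (Sylow 5 K) ∣ 3 := by
        have h := P1.card_dvd_index
        have hi : (P1 : Subgroup K).index = 3 := by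
          have := Subgroup.card_mul_index (P1 : Subgroup K)
          rw [show Nat.card (P1 : Subgroup K) = 5 by
            show Nat.card (Subgroup.zpowers qK) = 5
            rw [Nat.card_zpowers, oq], hK15] at this
          omega
        rwa [hi] at h
      rcases (Nat.dvd_prime Nat.prime_three).1 h2 with e | e
      · exact e
      · rw [e] at h1; exact absurd h1 (by decide)
    haveI : Subsingleton (Sylow 5 K) := (Nat.card_eq_one_iff_unique.1 hsub).1
    have e : Subgroup.zpowers rK = Subgroup.zpowers qK :=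
      congrArg (fun S : Sylow 5 K => (S : Subgroup K)) (Subsingleton.elim P2 P1)
    obtain ⟨i, hi⟩ := Subgroup.mem_zpowers_iff.1 (e ▸ Subgroup.mem_zpowers rK)
    exact ⟨i, (congrArg Subtype.val hi).symm.trans (SubgroupClass.coe_zpow _ _)⟩
  -- a lifted involution of the four-group centralizing it
  have hpm : ∀ v ∈ V, v * q * v⁻¹ = q ∨ v * q * v⁻¹ = q⁻¹ := by
    intro v hv
    obtain ⟨i, hi⟩ := hnormal v
    have hv2 : v * v = 1 := by
      obtain ⟨x, ⟨m, hm, hmv⟩, rfl⟩ := hv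
      rw [hπ, QuotientGroup.mk'_apply, ← QuotientGroup.mk_mul, QuotientGroup.eq_one_iff]
      exact ⟨_, syl_quot.1 m hm, by rw [D.val_mul _ _ (D.syl_lt hm) (D.syl_lt hm), hmv]; rfl⟩
    have h2 : q = q ^ (i * i) := by
      calc q = v * v * q * (v * v)⁻¹ := by rw [hv2]; group
        _ = v * (v * q * v⁻¹) * v⁻¹ := by group
        _ = v * q ^ i * v⁻¹ := by rw [hi]
        _ = (v * q * v⁻¹) ^ i := conj_zpow.symm
        _ = _ := by rw [hi, ← zpow_mul]
    have h5 : (5 : ℤ) ∣ i * i - 1 := by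
      have h3 : q ^ (i * i - 1) = 1 := by rw [zpow_sub, zpow_one, ← h2, mul_inv_cancel]
      have := orderOf_dvd_iff_zpow_eq_one.2 h3
      rw [hq5] at this
      exact_mod_cast this
    have key : (5 : ℤ) ∣ i - 1 ∨ (5 : ℤ) ∣ i + 1 := by
      refine (Int.prime_iff_natAbs_prime.2 (by norm_num)).dvd_or_dvd ?_
      rwa [show (i - 1) * (i + 1) = i * i - 1 by ring]
    rcases key with e | e <;> rw [show (5 : ℤ) = ((orderOf q : ℕ) : ℤ) by rw [hq5]; rfl] at e
    · left
      rw [hi, ← mul_inv_eq_one, ← zpow_one q, ← zpow_mul, one_mul, ← zpow_neg, ← zpow_add]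
      exact orderOf_dvd_iff_zpow_eq_one.1 (by rwa [← sub_eq_add_neg])
    · right
      rw [hi, eq_inv_iff_mul_eq_one]
      nth_rw 2 [← zpow_one q]
      rw [← zpow_add]
      exact orderOf_dvd_iff_zpow_eq_one.1 e
  obtain ⟨-, -, s1S, s2S, s1A, s2A, s3A, s3S⟩ := syl_quot
  have hlift : ∀ {m : ℕ} (hm : m ∈ syl), ∃ x : N, (x : G) = D.val m ∧ π x ∈ V :=
    fun {m} hm => ⟨⟨D.val m, hSN ⟨m, hm, rfl⟩⟩, rfl, _, ⟨m, hm, rfl⟩, rfl⟩
  obtain ⟨s, hs, hsA, x, hxv, hxq⟩ : ∃ m, m ∈ syl ∧ m ∉ a16 ∧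
      ∃ x : N, (x : G) = D.val m ∧ π x * q * (π x)⁻¹ = q := by
    obtain ⟨x1, e1, m1⟩ := hlift s1S
    obtain ⟨x2, e2, m2⟩ := hlift s2S
    rcases hpm _ m1 with a | a
    · exact ⟨60, s1S, s1A, x1, e1, a⟩
    rcases hpm _ m2 with b | b
    · exact ⟨42, s2S, s2A, x2, e2, b⟩
    refine ⟨mulN 2 60 42, s3S, s3A, x1 * x2, ?_, ?_⟩
    · rw [Subgroup.coe_mul, e1, e2, D.val_mul _ _ (D.syl_lt s1S) (D.syl_lt s2S)]
    · calc π (x1 * x2) * q * (π (x1 * x2))⁻¹ = π x1 * (π x2 * q * (π x2)⁻¹) * (π x1)⁻¹ := by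
            rw [map_mul]; group
        _ = (π x1 * q * (π x1)⁻¹)⁻¹ := by rw [b]; group
        _ = q := by rw [a, inv_inv]
  obtain ⟨a0, ha0, ha0v⟩ : ∃ a ∈ A, (f : G) * D.val s = D.val s * (f : G) * a := by
    refine ⟨(((x * f)⁻¹ * (f * x) : N) : G), ?_, ?_⟩
    · have : π ((x * f)⁻¹ * (f * x)) = 1 := by
        rw [map_mul, map_inv, map_mul, map_mul, ← hq, inv_mul_eq_one]
        exact mul_inv_eq_iff_eq_mul.1 hxq
      rwa [hπ, QuotientGroup.mk'_apply, QuotientGroup.eq_one_iff] at this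
    · rw [← hxv]; simp [mul_assoc]
  set F : Set G := {y | y ∈ A ∧ y ≠ 1 ∧ D.val s * y = y * D.val s} with hF
  have hfN : (f : G) ∈ N := f.2
  have hFinv : ∀ y ∈ F, (f : G) * y * (f : G)⁻¹ ∈ F := by
    rintro y ⟨hy, hy1, hys⟩
    refine ⟨(Subgroup.mem_normalizer_iff.1 hfN y).1 hy, fun e => hy1 (conj_eq_one_iff.1 e), ?_⟩
    have hya : a0 * y = y * a0 := D.a16_comm a0 ha0 y hy
    have e1 : (f : G)⁻¹ * D.val s * f = D.val s * a0⁻¹ := by
      calc (f : G)⁻¹ * D.val s * f = (f : G)⁻¹ * (D.val s * f * a0) * a0⁻¹ := by group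
        _ = _ := by rw [← ha0v]; group
    have e2 : D.val s * a0⁻¹ * y = y * (D.val s * a0⁻¹) := by
      rw [mul_assoc, ((show Commute a0 y from hya).inv_left).eq, ← mul_assoc, hys, mul_assoc]
    rw [← e1] at e2
    calc D.val s * ((f : G) * y * (f : G)⁻¹)
        = (f : G) * ((f : G)⁻¹ * D.val s * f * y) * (f : G)⁻¹ := by group
      _ = (f : G) * (y * ((f : G)⁻¹ * D.val s * f)) * (f : G)⁻¹ := by rw [e2]
      _ = _ := by group
  set CA := A ⊓ Subgroup.centralizer ({D.val s} : Set G) with hCA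
  have hFcard : Nat.card F = Nat.card CA - 1 := by
    have e : F = (CA : Set G) \ {1} := by
      ext y
      simp only [hF, hCA, Set.mem_setOf_eq, Set.mem_diff, SetLike.mem_coe, Subgroup.mem_inf,
        Subgroup.mem_centralizer_singleton_iff, Set.mem_singleton_iff]
      exact ⟨fun ⟨a, b, c⟩ => ⟨⟨a, c.symm⟩, b⟩, fun ⟨⟨a, c⟩, b⟩ => ⟨a, b, c.symm⟩⟩
    rw [e, Nat.card_coe_set_eq, Set.ncard_diff (by simp) (Set.finite_singleton 1),
      Set.ncard_singleton, ← Nat.card_coe_set_eq]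
    rfl
  have hlt : Nat.card CA < 16 := by
    refine lt_of_le_of_ne (hA16 ▸ Subgroup.card_le_of_le inf_le_left) fun e => hsA ?_
    have hle : CA = A := Subgroup.eq_of_le_of_card_ge inf_le_left (by rw [hA16, e])
    refine a16_one.2.2.2.2.2.2 s (mem_els (D.syl_lt hs)) fun a ha =>
      D.mul_val_eq (D.syl_lt hs) (D.a16_one_lt ha) ?_
    have h1 : D.val a ∈ CA := hle ▸ ⟨a, ha, rfl⟩
    exact (Subgroup.mem_centralizer_singleton_iff.1 h1.2).symm
  have hdvd : Nat.card CA ∣ 16 := hA16 ▸ Subgroup.card_dvd_of_le inf_le_left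
  have hgt : 1 < Nat.card CA := by
    rw [Subgroup.one_lt_card_iff_ne_bot]
    intro e
    have h1 : t ∈ CA := ⟨D.t_mem_a16,
      Subgroup.mem_centralizer_singleton_iff.2 (D.val_comm s (D.syl_lt hs)).symm⟩
    rw [e, Subgroup.mem_bot] at h1
    exact D.t_ne_one h1
  have h5 : ¬ 5 ∣ Nat.card F := by
    rw [hFcard]
    obtain ⟨j, hj, e⟩ := (Nat.dvd_prime_pow Nat.prime_two).1
      (show Nat.card CA ∣ 2 ^ 4 by simpa using hdvd)
    rw [e] at hlt hgt ⊢
    interval_cases j <;> norm_num at *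
  obtain ⟨y, ⟨hy, hy1, -⟩, hyf⟩ := exists_fixed_conj (p := 5) (f := (f : G)) F hFinv (fun y hy => by
    rw [← SubgroupClass.coe_pow (f : N), ← hf, pow_orderOf_eq_one, Subgroup.coe_one, one_mul, mul_one]) h5
  obtain ⟨n, hn, rfl⟩ := htrans y hy hy1
  have hS5 : n⁻¹ * f * n ∈ S := by
    rw [← hNC]
    refine ⟨N.mul_mem (N.mul_mem (N.inv_mem hn) hfN) hn, Subgroup.mem_centralizer_singleton_iff.2 ?_⟩
    calc n⁻¹ * (f : G) * n * t = n⁻¹ * ((f : G) * (n * t * n⁻¹)) * n := by group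
      _ = n⁻¹ * ((n * t * n⁻¹) * (f : G)) * n := by rw [hyf]
      _ = _ := by group
  have h64 := Subgroup.orderOf_dvd_natCard _ hS5
  rw [show n⁻¹ * (f : G) * n = MulAut.conj n⁻¹ (f : G) by simp, MulEquiv.orderOf_eq,
    Subgroup.orderOf_coe, hf, hS, D.card_grp, syl_facts.2.1] at h64
  norm_num at h64

end Cen

end CfsgLib.Ext32
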