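import Cfsg.Agent.Lib.Ext32.OneClass
import Cfsg.Agent.Lib.M12Cent.NonSimple

/-!
# Two small classes not fused with the involution

Then the elementary group of order eight is normal, with quotient the simple group of order `168`.
-/

set_option autoImplicit false
set_option linter.unusedSectionVars false
set_option linter.style.haveILetI false
set_option maxRecDepth 100000
set_option maxHeartbeats 2000000

namespace CfsgLib.Ext32

open Cfsg
open CfsgLib.U42 (conj_comm)

universe u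

/-- the elementary group of order eight -/
def el8 : List Nat := [0, 30, 60, 90, 96, 126, 156, 186]

theorem el8_facts : IsSub 2 el8 ∧ el8.length = 8 ∧ tN ∈ el8 ∧
    (∀ m ∈ el8, mulN 2 m m = 0 ∧ (∀ n ∈ el8, mulN 2 m n = mulN 2 n m) ∧
      (m = 0 ∨ m = tN ∨ m ∈ clsOf 2 vN)) ∧
    (∀ m ∈ clsOf 2 vN, m ∈ el8) ∧
    (∀ n ∈ els, (∀ e ∈ el8, mulN 2 n e = mulN 2 e n) → n ∈ el8) := by decide +kernel

theorem small_cls : ∀ a ∈ [36, 42], (∀ j ∈ els, cjN 2 j a ∈ clsOf 2 a) ∧
    (∀ x ∈ els, mulN 2 x a = mulN 2 a x → powN 2 x 4 = 0) ∧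
    (∃ e ∈ clsOf 2 vN, mulN 2 e a = mulN 2 a e ∧ mulN 2 tN e ∈ clsOf 2 vN ∧
      mulN 2 (mulN 2 tN e) a = mulN 2 a (mulN 2 tN e)) ∧
    ∀ m ∈ clsOf 2 vN, mulN 2 m a = mulN 2 a m → ∃ n ∈ els, cjN 2 n m = vN ∧ cjN 2 n a ∈ rl 2 ∧
      appN phiT (appN phiT (cjN 2 n a)) ∉ clsOf 2 a ∧
      ∀ x ∈ els, mulN 2 x (appN phiT (appN phiT (cjN 2 n a))) =
        mulN 2 (appN phiT (appN phiT (cjN 2 n a))) x → powN 2 x 4 = 0 := by decide +kernel

namespace Cen

variable {G : Type u} [Group G] [Finite G] {t : G} (D : Cen 2 t) {h : G} (hh : D.Std h)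
include D

theorem t_lt' : tN < 192 := D.t_lt

theorem phi_lt {m : ℕ} (hm : m ∈ rl 2) : appN phiT m < 192 := D.rl_lt (phiT_facts.1 m hm)

include hh

theorem act_inv {m : ℕ} (hm : m ∈ rl 2) :
    h⁻¹ * D.val m * h⁻¹⁻¹ = D.val (appN phiT (appN phiT m)) := by
  have h2 : h⁻¹ = h * h := inv_eq_of_mul_eq_one_right (by rw [← hh.h3]; simp [pow_succ, mul_assoc])
  rw [← hh.act _ (phiT_facts.1 m hm), ← hh.act m hm]
  calc h⁻¹ * D.val m * h⁻¹⁻¹ = h * h * D.val m * (h * h)⁻¹ := by rw [← h2]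
    _ = _ := by group

theorem std_tv : h * D.val (tvN 2) * h⁻¹ = t := hh.toStd0.htv D

theorem conj_inv_v : h⁻¹ * D.val vN * h⁻¹⁻¹ = t := by
  conv_lhs => rw [← hh.ht]
  group

omit hh

/-- A conjugate of `t` commuting with `t` lies in the elementary group of order eight. -/
theorem conj_mem_el8 (hh : D.Std h) (h36 : ¬ IsConj t (D.val 36)) (h42 : ¬ IsConj t (D.val 42))
    {g : G} (hg : g * t * g⁻¹ * t = t * (g * t * g⁻¹)) : g * t * g⁻¹ ∈ D.grp el8_facts.1 := by
  obtain ⟨m, hm, hmv, p, hp, hmp⟩ := D.invol_val D.conj_ord hg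
  have hpm : IsConj t (D.val p.1) :=
    (show IsConj t (D.val m) from isConj_iff.2 ⟨g, hmv.symm⟩).trans (D.cls_conj hp hmp).symm
  obtain ⟨hc, ht⟩ := cls2_cases p hp
  obtain ⟨c1, c2⟩ := D.conj_one hh
  refine ⟨m, ?_, hmv⟩
  simp only [List.mem_cons, List.not_mem_nil, or_false] at hc
  rcases hc with e | e | e | e | e | e
  · rw [ht e, List.mem_singleton] at hmp
    exact hmp ▸ el8_facts.2.2.1
  · exact el8_facts.2.2.2.2.1 m (by
      rw [← e, (class_invol 2 D.hkr p hp).1]; exact hmp)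
  · exact absurd (e ▸ hpm) h36
  · exact absurd (e ▸ hpm) h42
  · exact absurd ((e ▸ hpm).trans c1.symm) h36
  · exact absurd ((e ▸ hpm).trans c2.symm) h42

/-- The centralizer of an involution of the two small classes lies in that of `t`. -/
theorem cent_small (hh : D.Std h) (h36 : ¬ IsConj t (D.val 36)) (h42 : ¬ IsConj t (D.val 42))
    {a : ℕ} (ha : a ∈ [36, 42]) {x : G} (hx : x * D.val a = D.val a * x) : x * t = t * x := by
  have hal : a < 192 := by fin_cases ha <;> norm_num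
  obtain ⟨hcls, hsmallt, ⟨e, he, hea, hte, htea⟩, hframe⟩ := small_cls a ha
  set U := Subgroup.centralizer ({D.val a} : Set G) with hU
  let tU : U := ⟨t, Subgroup.mem_centralizer_singleton_iff.2 (D.val_comm a hal).symm⟩
  -- the conjugating element
  have frame : ∀ m ∈ clsOf 2 vN, mulN 2 m a = mulN 2 a m → ∃ k : G, ∃ d : ℕ, d < 192 ∧
      k * D.val m * k⁻¹ = t ∧ k * D.val a * k⁻¹ = D.val d ∧ d ∉ clsOf 2 a ∧
      ∀ x ∈ els, mulN 2 x d = mulN 2 d x → powN 2 x 4 = 0 := by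
    intro m hm hma
    have hml := (D.clsOf_lt hm).2
    obtain ⟨n, hn, hnm, hnr, hnot, hsm⟩ := hframe m hm hma
    have hnl := els_lt hn
    refine ⟨h⁻¹ * D.val n, _, D.phi_lt (phiT_facts.1 _ hnr), ?_, ?_, hnot, hsm⟩
    · calc h⁻¹ * D.val n * D.val m * (h⁻¹ * D.val n)⁻¹
          = h⁻¹ * (D.val n * D.val m * (D.val n)⁻¹) * h⁻¹⁻¹ := by group
        _ = t := by rw [← D.val_cj hnl hml, hnm, D.conj_inv_v hh]
    · rw [← D.act_inv hh hnr, D.val_cj hnl hal]; group
  have hiso : Cfsg.IsIsolatedInvolution tU := by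
    refine ⟨by rw [← Subgroup.orderOf_coe]; exact D.ord, fun u hu => Subtype.ext ?_⟩
    have hu' : (u : G) * t * (u : G)⁻¹ * t = t * ((u : G) * t * (u : G)⁻¹) :=
      (congrArg Subtype.val hu.eq).symm
    obtain ⟨m, hm, hmv⟩ := D.conj_mem_el8 hh h36 h42 hu'
    have hua := Subgroup.mem_centralizer_singleton_iff.1 u.2
    have hml := (el8_facts.1.2.2.1 m hm).1
    rcases (el8_facts.2.2.2.1 m hm).2.2 with rfl | rfl | hm30
    · rw [D.val_zero, eq_comm, conj_eq_one_iff] at hmv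
      have := D.ord
      rw [hmv, orderOf_one] at this
      norm_num at this
    · show (u : G) * t * (u : G)⁻¹ = t
      rw [← hmv, D.val_tau]
    · exfalso
      have hma : mulN 2 m a = mulN 2 a m := D.mul_val_eq hml hal (by
        rw [hmv]
        have := conj_comm (h := (u : G)) (D.val_comm a hal)
        rw [hua, mul_inv_cancel_right] at this
        exact this.symm)
      obtain ⟨k, d, hd, hkm, hka, hnot, -⟩ := frame m hm30 hma
      obtain ⟨j, hj, hjv⟩ := D.val_surj (k * (u : G)) (by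
        refine mul_inv_eq_iff_eq_mul.1 ?_
        rw [show k * (u : G) * t * (k * (u : G))⁻¹ = k * ((u : G) * t * (u : G)⁻¹) * k⁻¹ by group,
          ← hmv, hkm])
      refine hnot ?_
      have : D.val d = D.val (cjN 2 j a) := by
        rw [D.val_cj hj hal, hjv, ← hka,
          show k * (u : G) * D.val a * (k * (u : G))⁻¹ = k * ((u : G) * D.val a * (u : G)⁻¹) * k⁻¹ by
            group, hua, mul_inv_cancel_right]
      rw [D.val_inj d _ hd (cjN_lt ..) this]
      exact hcls j (mem_els hj)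
  have hO : Cfsg.oddCore U = ⊥ := by
    -- an odd element of `U` centralizing `t` or a member of the class of six is trivial
    have pow_one' : ∀ o ∈ Cfsg.oddCore U, ((o : U) : G) ^ 4 = 1 → o = 1 := fun o ho h4 => by
      have hodd : Odd (orderOf o) := (CfsgLib.Base.odd_card_oddCore U).of_dvd_nat (by
        rw [← Subgroup.orderOf_mk _ ho]; exact orderOf_dvd_natCard _)
      exact orderOf_eq_one_iff.1 (Nat.Coprime.eq_one_of_dvd
        (Nat.Coprime.pow_right 2 (Nat.coprime_two_right.2 hodd))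
        (orderOf_dvd_of_pow_eq_one (Subtype.ext (by simpa using h4))))
    have hfixt : ∀ o ∈ Cfsg.oddCore U, (o : G) * t = t * (o : G) → o = 1 := fun o ho hot => by
      obtain ⟨j, hj, hjv⟩ := D.val_surj _ hot
      refine pow_one' o ho ?_
      rw [← hjv, ← D.val_pow hj, hsmallt j (mem_els hj) (D.mul_val_eq hj hal (by
        rw [hjv]; exact Subgroup.mem_centralizer_singleton_iff.1 o.2)), D.val_zero]
    have hfixm : ∀ m ∈ clsOf 2 vN, mulN 2 m a = mulN 2 a m → ∀ o ∈ Cfsg.oddCore U,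
        (o : G) * D.val m = D.val m * (o : G) → o = 1 := fun m hm hma o ho hom => by
      obtain ⟨k, d, hd, hkm, hka, -, hsm⟩ := frame m hm hma
      have h1 := conj_comm (h := k) hom
      rw [hkm] at h1
      obtain ⟨j, hj, hjv⟩ := D.val_surj _ h1
      refine pow_one' o ho ?_
      have := hsm j (mem_els hj) (D.mul_val_eq hj hd (by
        rw [hjv, ← hka]
        exact conj_comm (Subgroup.mem_centralizer_singleton_iff.1 o.2)))
      have e := D.val_pow hj 4
      rw [this, D.val_zero, hjv, conj_pow, eq_comm, conj_eq_one_iff] at e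
      exact e
    have hel := (D.clsOf_lt he).2
    have hinv : ∀ i : U, (i : G) * i = 1 →
        (∀ o ∈ Cfsg.oddCore U, (o : G) * i = (i : G) * o → o = 1) →
        ∀ o ∈ Cfsg.oddCore U, i * o * i⁻¹ = o⁻¹ := by
      intro i hii hf o ho
      have hii' : i * i = 1 := Subtype.ext hii
      have hi' : i⁻¹ = i := inv_eq_of_mul_eq_one_right hii'
      rw [hi']
      refine CfsgLib.J1Unique.invert_of_fpf _ hii' (fun a ha => ?_) (fun a ha h => hf a ha ?_) o ho
      · have := (inferInstance : (Cfsg.oddCore U).Normal).conj_mem a ha i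
        rwa [hi'] at this
      · have e : a * i = i * a := by
          calc a * i = i * a * i * i := by rw [h]
            _ = i * a := by rw [mul_assoc, hii', mul_one]
        exact congrArg Subtype.val e
    have hsq : ∀ m ∈ el8, D.val m * D.val m = 1 := fun m hm => by
      rw [← D.val_mul _ _ (el8_facts.1.2.2.1 m hm).1 (el8_facts.1.2.2.1 m hm).1,
        (el8_facts.2.2.2.1 m hm).1, D.val_zero]
    let iA : U := tU
    let iB : U := ⟨D.val e, Subgroup.mem_centralizer_singleton_iff.2 (D.val_commute hel hal hea)⟩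
    let iC : U := ⟨D.val (mulN 2 tN e),
      Subgroup.mem_centralizer_singleton_iff.2 (D.val_commute (mulN_lt ..) hal htea)⟩
    have habc : iA * iB = iC := Subtype.ext (by
      show t * D.val e = D.val (mulN 2 tN e)
      rw [D.val_mul _ _ D.t_lt hel, D.val_tau])
    rw [eq_bot_iff]
    intro o ho
    rw [Subgroup.mem_bot]
    have ia := hinv iA D.tt hfixt o ho
    have ib := hinv iB (hsq e (el8_facts.2.2.2.2.1 e he)) (hfixm e he hea) o ho
    have ic := hinv iC (hsq _ (el8_facts.2.2.2.2.1 _ hte)) (hfixm _ hte htea) o ho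
    rw [← habc] at ic
    have e1 : iA * iB * o * (iA * iB)⁻¹ = o := by
      calc iA * iB * o * (iA * iB)⁻¹ = iA * (iB * o * iB⁻¹) * iA⁻¹ := by group
        _ = (iA * o * iA⁻¹)⁻¹ := by rw [ib]; group
        _ = o := by rw [ia, inv_inv]
    rw [e1] at ic
    have h2 : o ^ 2 = 1 := by rw [pow_two]; exact eq_inv_iff_mul_eq_one.1 ic
    have hodd : Odd (orderOf o) := (CfsgLib.Base.odd_card_oddCore U).of_dvd_nat (by
      rw [← Subgroup.orderOf_mk _ ho]; exact orderOf_dvd_natCard _)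
    exact orderOf_eq_one_iff.1
      ((Nat.coprime_two_right.2 hodd).eq_one_of_dvd (orderOf_dvd_of_pow_eq_one h2))
  have hc := Subgroup.mem_center_iff.1
    (CfsgLib.Involutions.ZStar.mem_center_of_oddCore_eq_bot hiso hO)
    ⟨x, Subgroup.mem_centralizer_singleton_iff.2 hx⟩
  exact congrArg Subtype.val hc

include hh

/-- The elementary group of order eight is normal with quotient the group of order `168`. -/
theorem outcome1 (h36 : ¬ IsConj t (D.val 36)) (h42 : ¬ IsConj t (D.val 42)) :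
    ∃ (N : Subgroup G) (_ : N.Normal), IsMulCommutative N ∧ (∀ n ∈ N, n ^ 2 = 1) ∧ Nat.card N = 8 ∧
      Nonempty (G ⧸ N ≃* Matrix.ProjectiveSpecialLinearGroup (Fin 3) (ZMod 2)) := by
  classical
  haveI : Fact (Nat.Prime 2) := ⟨Nat.prime_two⟩
  set E := D.grp el8_facts.1 with hE
  have hlt : ∀ m ∈ el8, m < 192 := fun m hm => (el8_facts.1.2.2.1 m hm).1
  have hE8 : Nat.card E = 8 := by rw [hE, D.card_grp, el8_facts.2.1]
  have hEcomm : ∀ e ∈ E, ∀ f ∈ E, e * f = f * e := by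
    rintro _ ⟨m, hm, rfl⟩ _ ⟨n, hn, rfl⟩
    exact D.val_commute (hlt m hm) (hlt n hn) ((el8_facts.2.2.2.1 m hm).2.1 n hn)
  have hEsq : ∀ e ∈ E, e ^ 2 = 1 := by
    rintro _ ⟨m, hm, rfl⟩
    rw [pow_two, ← D.val_mul _ _ (hlt m hm) (hlt m hm), (el8_facts.2.2.2.1 m hm).1, D.val_zero]
  have htE : t ∈ E := ⟨tN, el8_facts.2.2.1, D.val_tau⟩
  have hEc : ∀ e ∈ E, e ≠ 1 → IsConj t e := by
    rintro _ ⟨m, hm, rfl⟩ hne
    rcases (el8_facts.2.2.2.1 m hm).2.2 with rfl | rfl | h30
    · exact absurd D.val_zero hne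
    · rw [D.val_tau]
    · exact (D.conj_v hh).trans (D.clsOf_conj h30)
  have hconjE : ∀ g : G, g * t * g⁻¹ * t = t * (g * t * g⁻¹) → g * t * g⁻¹ ∈ E :=
    fun g hg => D.conj_mem_el8 hh h36 h42 hg
  set M := Subgroup.normalizer (E : Set G) with hM
  have hmove : ∀ g : G, g * t * g⁻¹ ∈ E → g ∈ M := by
    intro g hg
    have hsub : E.map (MulAut.conj g⁻¹).toMonoidHom ≤ E := by
      rintro _ ⟨e, he, rfl⟩
      rw [MulEquiv.coe_toMonoidHom, MulAut.conj_apply]
      by_cases h1 : e = 1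
      · rw [h1, mul_one, mul_inv_cancel]; exact one_mem _
      obtain ⟨a, ha⟩ := isConj_iff.1 (hEc e he h1)
      have e1 : g⁻¹ * a * t * (g⁻¹ * a)⁻¹ = g⁻¹ * e * g⁻¹⁻¹ := by rw [← ha]; group
      have := hconjE (g⁻¹ * a) (by
        rw [e1]
        have hc := conj_comm (h := g⁻¹) (hEcomm e he _ hg)
        rwa [show g⁻¹ * (g * t * g⁻¹) * g⁻¹⁻¹ = t by group] at hc)
      rwa [e1] at this
    have heq := Subgroup.eq_of_le_of_card_ge hsub (le_of_eq
      (Nat.card_congr (E.equivMapOfInjective _ (MulAut.conj g⁻¹).injective).toEquiv))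
    rw [hM, Subgroup.mem_normalizer_iff]
    intro e
    constructor
    · intro he
      rw [← heq] at he
      obtain ⟨f, hf, rfl⟩ := he
      rw [MulEquiv.coe_toMonoidHom, MulAut.conj_apply]
      rwa [show g * (g⁻¹ * f * g⁻¹⁻¹) * g⁻¹ = f by group]
    · intro he
      rw [← heq]
      exact ⟨_, he, by rw [MulEquiv.coe_toMonoidHom, MulAut.conj_apply]; group⟩
  have hCM : ∀ c : G, c * t = t * c → c ∈ M := fun c hc => hmove c (by
    rw [hc, mul_inv_cancel_right]; exact htE)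
  have hvalM : ∀ m, m < 192 → D.val m ∈ M := fun m hm => hCM _ (D.val_comm m hm)
  have hhM : h ∈ M := hmove h (by rw [hh.ht]; exact ⟨vN, el8_facts.2.2.2.2.1 vN (by decide +kernel), rfl⟩)
  -- the centralizers of involutions
  have tr : ∀ {k x : G}, k ∈ M → Subgroup.centralizer ({x} : Set G) ≤ M →
      Subgroup.centralizer ({k * x * k⁻¹} : Set G) ≤ M := fun {k x} hk hx c hc => by
    have e := conj_comm (h := k⁻¹) (Subgroup.mem_centralizer_singleton_iff.1 hc)
    rw [show k⁻¹ * (k * x * k⁻¹) * k⁻¹⁻¹ = x by group] at e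
    have := M.mul_mem (M.mul_mem hk (hx (Subgroup.mem_centralizer_singleton_iff.2 e))) (M.inv_mem hk)
    rwa [show k * (k⁻¹ * c * k⁻¹⁻¹) * k⁻¹ = c by group] at this
  have hcls : ∀ {a m : ℕ}, m ∈ clsOf 2 a → (Subgroup.centralizer ({D.val a} : Set G) ≤ M ↔
      Subgroup.centralizer ({D.val m} : Set G) ≤ M) := fun {a m} hm => by
    obtain ⟨p, hp, rfl, hmp⟩ := D.cls_mem hm
    obtain ⟨n, hn, hnm⟩ := class_conj 2 D.hkr p hp m hmp
    have hnl := els_lt hn
    rw [← hnm, D.val_cj hnl (class_lt 2 D.hkr p hp).1]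
    refine ⟨tr (hvalM n hnl), fun h => ?_⟩
    have := tr (M.inv_mem (hvalM n hnl)) h
    rwa [show (D.val n)⁻¹ * (D.val n * D.val p.1 * (D.val n)⁻¹) * (D.val n)⁻¹⁻¹ = D.val p.1 by
      group] at this
  have s36 : ∀ a ∈ [36, 42], Subgroup.centralizer ({D.val a} : Set G) ≤ M := fun a ha c hc =>
    hCM c (D.cent_small hh h36 h42 ha (Subgroup.mem_centralizer_singleton_iff.1 hc))
  have hcentC : ∀ i : G, orderOf i = 2 → i * t = t * i → Subgroup.centralizer ({i} : Set G) ≤ M := by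
    intro i hi hit
    obtain ⟨m, hm, rfl, p, hp, hmp⟩ := D.invol_val hi hit
    have hmc : m ∈ clsOf 2 p.1 := by rw [(class_invol 2 D.hkr p hp).1]; exact hmp
    refine (hcls hmc).1 ?_
    have hc := (cls2_cases p hp).1
    have viaphi : ∀ {a b m : ℕ}, b ∈ [36, 42] → m ∈ rl 2 → m ∈ clsOf 2 a →
        appN phiT m ∈ clsOf 2 b → Subgroup.centralizer ({D.val a} : Set G) ≤ M :=
      fun {a b m} hb h1 h2 h3 => by
        refine (hcls h2).2 ?_
        have := tr (M.inv_mem hhM) ((hcls h3).1 (s36 b hb))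
        rwa [← hh.act m h1, show h⁻¹ * (h * D.val m * h⁻¹) * h⁻¹⁻¹ = D.val m by group] at this
    obtain ⟨⟨m1, a1, a2, a3⟩, m2, b1, b2, b3⟩ := fusion_facts
    simp only [List.mem_cons, List.not_mem_nil, or_false] at hc
    rcases hc with e | e | e | e | e | e <;> rw [e]
    · rw [D.val_tau]; exact fun c hc => hCM c (Subgroup.mem_centralizer_singleton_iff.1 hc)
    · have := tr hhM (fun c hc => hCM c (Subgroup.mem_centralizer_singleton_iff.1 hc) :
        Subgroup.centralizer ({t} : Set G) ≤ M)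
      rwa [hh.ht] at this
    · exact s36 36 (by simp)
    · exact s36 42 (by simp)
    · exact viaphi (by simp) a1 a2 a3
    · exact viaphi (by simp) b1 b2 b3
  have hX : ∀ y, y ∈ ((E : Set G) \ {1}) → ∃ k ∈ M, k * t * k⁻¹ = y := by
    rintro y ⟨hy, hy1⟩
    obtain ⟨k, hk⟩ := isConj_iff.1 (hEc y hy (by simpa using hy1))
    exact ⟨k, hmove k (hk ▸ hy), hk⟩
  have hfix : ∀ i ∈ M, orderOf i = 2 → ∃ k ∈ M, i * (k * t * k⁻¹) = k * t * k⁻¹ * i := by
    intro i hi hi2
    obtain ⟨y, hy, hyc⟩ := exists_fixed_conj (p := 2) (f := i) ((E : Set G) \ {1})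
      (fun y hy => ⟨(Subgroup.mem_normalizer_iff.1 hi y).1 hy.1, fun e =>
        hy.2 (by simpa using e)⟩)
      (fun y _ => by rw [show i ^ 2 = 1 by rw [← hi2, pow_orderOf_eq_one], one_mul, mul_one])
      (by rw [Nat.card_coe_set_eq, Set.ncard_diff (by simp) (Set.finite_singleton 1),
            Set.ncard_singleton, ← Nat.card_coe_set_eq]
          change ¬ 2 ∣ Nat.card E - 1
          rw [hE8]; norm_num)
    obtain ⟨k, hk, rfl⟩ := hX y hy
    exact ⟨k, hk, hyc⟩
  have hstrong : ∀ i ∈ M, orderOf i = 2 → Subgroup.centralizer ({i} : Set G) ≤ M := by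
    intro i hi hi2
    obtain ⟨k, hk, hc⟩ := hfix i hi hi2
    have e := conj_comm (h := k⁻¹) hc
    rw [show k⁻¹ * (k * t * k⁻¹) * k⁻¹⁻¹ = t by group] at e
    have := tr hk (hcentC (k⁻¹ * i * k⁻¹⁻¹) (((MulAut.conj k⁻¹).orderOf_eq i).trans hi2) e)
    rwa [show k * (k⁻¹ * i * k⁻¹⁻¹) * k⁻¹ = i by group] at this
  have hback : ∀ g : G, g * t * g⁻¹ ∈ M → g ∈ M := by
    intro g hg
    obtain ⟨k, hk, hc⟩ := hfix _ hg D.conj_ord
    have e := conj_comm (h := k⁻¹) hc
    rw [show k⁻¹ * (k * t * k⁻¹) * k⁻¹⁻¹ = t by group,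
      show k⁻¹ * (g * t * g⁻¹) * k⁻¹⁻¹ = k⁻¹ * g * t * (k⁻¹ * g)⁻¹ by group] at e
    have := M.mul_mem hk (hmove _ (hconjE _ e))
    rwa [mul_inv_cancel_left] at this
  have h36M : D.val 36 ∈ M := hvalM 36 (by norm_num)
  have htop : M = ⊤ := CfsgLib.M12Cent.eq_top_of_strong_conj D.ord
    (D.val_invol (by norm_num : (36 : ℕ) < 192) (by decide +kernel) (by norm_num))
    (hCM t rfl) h36M h36 hback hstrong
  haveI hEn : E.Normal := Subgroup.normalizer_eq_top_iff.1 htop
  have hG : Nat.card G = 1344 := by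
    have hXiff : ∀ y, y ∈ ((E : Set G) \ {1}) ↔ ∃ k ∈ (⊤ : Subgroup G), k * t * k⁻¹ = y := by
      intro y
      refine ⟨fun hy => ?_, ?_⟩
      · obtain ⟨k, -, hk⟩ := hX y hy; exact ⟨k, Subgroup.mem_top k, hk⟩
      · rintro ⟨k, -, rfl⟩
        refine ⟨hEn.conj_mem t htE k, fun e => ?_⟩
        rw [Set.mem_singleton_iff, conj_eq_one_iff] at e
        have := D.ord
        rw [e, orderOf_one] at this
        norm_num at this
    have h1 := card_conj_orbit (⊤ : Subgroup G) t _ hXiff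
    rw [Subgroup.card_top, top_inf_eq, D.card_cent, Nat.card_coe_set_eq,
      Set.ncard_diff (by simp) (Set.finite_singleton 1), Set.ncard_singleton,
      ← Nat.card_coe_set_eq] at h1
    rw [h1]
    show (Nat.card E - 1) * 192 = 1344
    rw [hE8]
  have hCE : Subgroup.centralizer (E : Set G) ≤ E := by
    intro c hc
    obtain ⟨n, hn, rfl⟩ := D.val_surj c ((Subgroup.mem_centralizer_iff.1 hc t htE).symm)
    refine ⟨n, el8_facts.2.2.2.2.2 n (mem_els hn) fun e he => ?_, rfl⟩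
    exact D.mul_val_eq hn (hlt e he) (Subgroup.mem_centralizer_iff.1 hc _ ⟨e, he, rfl⟩).symm
  have hq : Nat.card (G ⧸ E) = 168 := by
    have := Subgroup.card_eq_card_quotient_mul_card_subgroup E
    rw [hG, hE8] at this
    omega
  exact ⟨E, hEn, ⟨⟨fun a b => Subtype.ext (hEcomm a a.2 b b.2)⟩⟩, hEsq, hE8,
    CfsgLib.M12Cent.quot_psl E hE8 hEcomm hEsq hCE hq⟩

end Cen

end CfsgLib.Ext32
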