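import Cfsg.Agent.Lib.Ext32.Setup
import Cfsg.Agent.Lib.Small.ExtraspecialThirtyTwo
import Cfsg.Agent.Lib.Base.Cores

/-!
# The centraliser is one of the models

An element of order three without fixed points on `Q/Z` splits `Q` into two quaternion groups,
and an inverting element acts on them in one of two ways.
-/

set_option autoImplicit false
set_option linter.unusedSectionVars false
set_option linter.style.haveILetI false
set_option maxRecDepth 100000
set_option maxHeartbeats 4000000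

namespace CfsgLib.Ext32

universe u

/-- the signs of the products of quaternion units -/
def sgT : List Nat := [0, 0, 0, 0, 0, 1, 0, 1, 0, 1, 1, 0, 0, 0, 1, 1]

/-- the products of quaternion units -/
def ixT : List Nat := [0, 1, 2, 3, 1, 0, 3, 2, 2, 3, 0, 1, 3, 2, 1, 0]

theorem qMul_split : ∀ p ∈ List.range 32, ∀ q ∈ List.range 32, qMul p q =
    (p / 16 + q / 16 + sgT.getD (p / 4 % 4 * 4 + q / 4 % 4) 0 + sgT.getD (p % 4 * 4 + q % 4) 0) % 2
      * 16 + ixT.getD (p / 4 % 4 * 4 + q / 4 % 4) 0 * 4 + ixT.getD (p % 4 * 4 + q % 4) 0 := by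
  decide +kernel

/-- the third power of the action of order three -/
def ph (q : Nat) : Nat := xAct 1 q

theorem ph_facts : ∀ q ∈ List.range 32, ph q < 32 ∧ ph (ph (ph q)) = q ∧ xAct 0 q = q ∧
    xAct 2 q = ph (ph q) ∧ ph q = q / 16 * 16 + [0, 2, 3, 1].getD (q / 4 % 4) 0 * 4 +
      [0, 2, 3, 1].getD (q % 4) 0 := by decide +kernel

/-- the map with given images of two quaternion generators -/
def betaN (p r q : Nat) : Nat :=
  qMul (qMul (16 * (q / 16)) ([0, p, ph (ph p), qMul p (ph (ph p))].getD (q / 4 % 4) 0))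
    ([0, r, ph (ph r), qMul r (ph (ph r))].getD (q % 4) 0)

/-- The pair gives two quaternion lines. -/
abbrev Line2 (i j : Nat) : Prop :=
  qMul i i = 16 ∧ ph (ph i) = qMul i (ph i) ∧ qMul j j = 16 ∧ ph (ph j) = qMul j (ph j) ∧
    qMul i j = qMul j i ∧ qMul i (ph j) = qMul (ph j) i

theorem beta_cases : ∀ p ∈ List.range 32, qMul p p = 16 → ph p = qMul p (ph (ph p)) →
    ∀ r ∈ List.range 32, qMul r r = 16 → ph r = qMul r (ph (ph r)) →
    qMul p r = qMul r p → qMul p (ph r) = qMul (ph r) p →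
    betaN p r (betaN p r 4) = 4 → betaN p r (betaN p r 1) = 1 →
    ∃ i ∈ List.range 32, ∃ j ∈ List.range 32, Line2 i j ∧
      ((betaN p r i = qMul 16 (ph i) ∧ betaN p r j = qMul 16 (ph j)) ∨
        (betaN p r i = qMul 16 (ph j) ∧ betaN p r j = qMul 16 (ph i))) := by decide +kernel

theorem third_cases : ∀ q ∈ List.range 32, qMul (qMul q (ph (ph q))) (ph q) = 0 →
    ∃ y ∈ List.range 32, ∃ y' ∈ List.range 32, qMul y y' = 0 ∧ qMul y (ph (ph y')) = q := by
  decide +kernel

theorem bAct_beta : ∀ k ∈ List.range 4, ∀ q ∈ List.range 32, bAct k q =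
    if k < 2 then betaN (qMul 16 (ph 4)) (qMul 16 (ph 1)) q
    else betaN (qMul 16 (ph 1)) (qMul 16 (ph 4)) q := by decide +kernel

variable {G : Type u} [Group G] [Finite G]

/-- Two quaternion lines exchanged by an element of order three, spanning `Q`. -/
structure Frame (Q : Subgroup G) (s x i w : G) : Prop where
  hs : s * s = 1
  hs1 : s ≠ 1
  hsQ : s ∈ Q
  hz : ∀ q ∈ Q, q * s = s * q
  hx : x * x * x = 1
  hxs : x * s = s * x
  hfix : ∀ q ∈ Q, x * q * x⁻¹ = q → q = 1 ∨ q = s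
  hi : i ∈ Q
  hw : w ∈ Q
  hii : i * i = s
  hww : w * w = s
  hip : x * (x * i * x⁻¹) * x⁻¹ = i * (x * i * x⁻¹)
  hwp : x * (x * w * x⁻¹) * x⁻¹ = w * (x * w * x⁻¹)
  c1 : i * w = w * i
  c2 : i * (x * w * x⁻¹) = x * w * x⁻¹ * i

/-- the units of a line -/
def unitL (i j : G) (a : ℕ) : G := [1, i, j, i * j].getD a 1

/-- the element of `Q` with given coordinates -/
def qv (s x i w : G) (q : ℕ) : G :=
  s ^ (q / 16) * unitL i (x * i * x⁻¹) (q / 4 % 4) * unitL w (x * w * x⁻¹) (q % 4)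

theorem line_mul {s i j : G} (hs : s * s = 1) (hsi : i * s = s * i) (hsj : j * s = s * j)
    (hii : i * i = s) (hjj : j * j = s) (hji : j * i = i * j * s) {a c : ℕ} (ha : a < 4) (hc : c < 4) :
    unitL i j a * unitL i j c = s ^ (sgT.getD (a * 4 + c) 0) * unitL i j (ixT.getD (a * 4 + c) 0) := by
  have e1 : ∀ y, i * (i * y) = s * y := fun y => by rw [← mul_assoc, hii]
  have e2 : ∀ y, j * (j * y) = s * y := fun y => by rw [← mul_assoc, hjj]
  have e3 : ∀ y, j * (i * y) = s * (i * (j * y)) := fun y => by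
    have : j * i = s * (i * j) := by
      rw [hji, mul_assoc i j s, hsj, ← mul_assoc, hsi, mul_assoc]
    rw [← mul_assoc, this, mul_assoc, mul_assoc]
  have e3' : j * i = s * (i * j) := by simpa using e3 1
  have e4 : ∀ y, i * (s * y) = s * (i * y) := fun y => by rw [← mul_assoc, hsi, mul_assoc]
  have e5 : ∀ y, j * (s * y) = s * (j * y) := fun y => by rw [← mul_assoc, hsj, mul_assoc]
  have e6 : ∀ y, s * (s * y) = y := fun y => by rw [← mul_assoc, hs, one_mul]
  interval_cases a <;> interval_cases c <;>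
    simp [unitL, sgT, ixT, mul_assoc, e1, e2, e3, e3', e4, e5, e6, hs, hsi, hsj, hii, hjj]

namespace Frame

variable {Q : Subgroup G} {s x i w : G} (F : Frame Q s x i w)
  (hxQ : ∀ q ∈ Q, x * q * x⁻¹ ∈ Q) (hcm : ∀ a ∈ Q, ∀ b ∈ Q, a * b = b * a ∨ a * b = b * a * s)
  (hcard : Nat.card Q = 32)
include F

theorem sinv : s⁻¹ = s := inv_eq_of_mul_eq_one_right F.hs

theorem si : i * s = s * i := F.hz i F.hi

theorem sw : w * s = s * w := F.hz w F.hw

include hxQ

theorem hj : x * i * x⁻¹ ∈ Q := hxQ i F.hi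

theorem hv : x * w * x⁻¹ ∈ Q := hxQ w F.hw

theorem x_s : x * s * x⁻¹ = s := by rw [F.hxs, mul_inv_cancel_right]

theorem jj : x * i * x⁻¹ * (x * i * x⁻¹) = s := by rw [conj_mul, F.hii, F.x_s hxQ]

theorem vv : x * w * x⁻¹ * (x * w * x⁻¹) = s := by rw [conj_mul, F.hww, F.x_s hxQ]

theorem d1 : x * i * x⁻¹ * w = w * (x * i * x⁻¹) := by
  have hx3 : ∀ y, x * (x * (x * y * x⁻¹) * x⁻¹) * x⁻¹ = y := fun y => by
    calc _ = x * x * x * y * (x * x * x)⁻¹ := by group
      _ = y := by rw [F.hx]; group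
  have hc : Commute i (x * (x * w * x⁻¹) * x⁻¹) := by
    rw [F.hwp]; exact (show Commute i w from F.c1).mul_right F.c2
  have key : Commute (x * i * x⁻¹) (x * (x * (x * w * x⁻¹) * x⁻¹) * x⁻¹) :=
    hc.map (MulAut.conj x).toMonoidHom
  rw [hx3] at key
  exact key.eq

theorem d2 : x * i * x⁻¹ * (x * w * x⁻¹) = x * w * x⁻¹ * (x * i * x⁻¹) := by
  rw [conj_mul, conj_mul, F.c1]

include hcm

theorem comm_line {i : G} (hi : i ∈ Q) (hii : i * i = s)
    (hip : x * (x * i * x⁻¹) * x⁻¹ = i * (x * i * x⁻¹)) :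
    x * i * x⁻¹ * i = i * (x * i * x⁻¹) * s := by
  rcases hcm _ (hxQ i hi) i hi with e | e
  · exfalso
    have h1 : i * (x * i * x⁻¹) * (i * (x * i * x⁻¹)) = 1 := by
      calc i * (x * i * x⁻¹) * (i * (x * i * x⁻¹)) = i * (x * i * x⁻¹ * i) * (x * i * x⁻¹) := by
            group
        _ = i * i * (x * i * x⁻¹ * (x * i * x⁻¹)) := by rw [e]; group
        _ = 1 := by rw [conj_mul, hii, F.x_s hxQ, F.hs]
    rw [← hip, conj_mul, conj_mul, hii, F.x_s hxQ, F.x_s hxQ] at h1
    exact F.hs1 h1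
  · exact e

theorem ji : x * i * x⁻¹ * i = i * (x * i * x⁻¹) * s := F.comm_line hxQ hcm F.hi F.hii F.hip

theorem vw : x * w * x⁻¹ * w = w * (x * w * x⁻¹) * s := F.comm_line hxQ hcm F.hw F.hww F.hwp

theorem mulI {a c : ℕ} (ha : a < 4) (hc : c < 4) :
    unitL i (x * i * x⁻¹) a * unitL i (x * i * x⁻¹) c =
      s ^ (sgT.getD (a * 4 + c) 0) * unitL i (x * i * x⁻¹) (ixT.getD (a * 4 + c) 0) :=
  line_mul F.hs F.si (F.hz _ (F.hj hxQ)) F.hii (F.jj hxQ) (F.ji hxQ hcm) ha hc

theorem mulW {a c : ℕ} (ha : a < 4) (hc : c < 4) :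
    unitL w (x * w * x⁻¹) a * unitL w (x * w * x⁻¹) c =
      s ^ (sgT.getD (a * 4 + c) 0) * unitL w (x * w * x⁻¹) (ixT.getD (a * 4 + c) 0) :=
  line_mul F.hs F.sw (F.hz _ (F.hv hxQ)) F.hww (F.vv hxQ) (F.vw hxQ hcm) ha hc

omit hcm

theorem unit_mem (a : ℕ) : unitL i (x * i * x⁻¹) a ∈ Q ∧ unitL w (x * w * x⁻¹) a ∈ Q := by
  rcases (show a = 0 ∨ a = 1 ∨ a = 2 ∨ a = 3 ∨ 4 ≤ a by omega) with rfl | rfl | rfl | rfl | h
  · exact ⟨one_mem _, one_mem _⟩
  · exact ⟨F.hi, F.hw⟩
  · exact ⟨F.hj hxQ, F.hv hxQ⟩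
  · exact ⟨mul_mem F.hi (F.hj hxQ), mul_mem F.hw (F.hv hxQ)⟩
  · have e : ∀ i j : G, unitL i j a = 1 := fun i j => List.getD_eq_default _ _ (by simpa using h)
    rw [e, e]; exact ⟨one_mem _, one_mem _⟩

theorem unit_comm (a b : ℕ) : Commute (unitL i (x * i * x⁻¹) a) (unitL w (x * w * x⁻¹) b) := by
  have c1 : Commute i w := F.c1
  have c2 : Commute i (x * w * x⁻¹) := F.c2
  have c3 : Commute (x * i * x⁻¹) w := F.d1 hxQ
  have c4 : Commute (x * i * x⁻¹) (x * w * x⁻¹) := F.d2 hxQ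
  have key : ∀ y, Commute i y → Commute (x * i * x⁻¹) y → Commute (unitL i (x * i * x⁻¹) a) y := by
    intro y h1 h2
    rcases (show a = 0 ∨ a = 1 ∨ a = 2 ∨ a = 3 ∨ 4 ≤ a by omega) with rfl | rfl | rfl | rfl | h
    exacts [Commute.one_left y, h1, h2, h1.mul_left h2,
      (show unitL i (x * i * x⁻¹) a = 1 from List.getD_eq_default _ _ (by simpa using h)).symm ▸
        Commute.one_left y]
  have k1 := key w c1 c3
  have k2 := key _ c2 c4
  rcases (show b = 0 ∨ b = 1 ∨ b = 2 ∨ b = 3 ∨ 4 ≤ b by omega) with rfl | rfl | rfl | rfl | h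
  exacts [Commute.one_right _, k1, k2, k1.mul_right k2,
    (show unitL w (x * w * x⁻¹) b = 1 from List.getD_eq_default _ _ (by simpa using h)).symm ▸
      Commute.one_right _]

theorem qv_mem (q : ℕ) : qv s x i w q ∈ Q :=
  mul_mem (mul_mem (pow_mem F.hsQ _) (F.unit_mem hxQ _).1) (F.unit_mem hxQ _).2

theorem spow_comm (n : ℕ) {y : G} (hy : y ∈ Q) : Commute (s ^ n) y :=
  ((show Commute y s from F.hz y hy).symm).pow_left n

theorem spow_mod (n : ℕ) : s ^ n = s ^ (n % 2) := by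
  conv_lhs => rw [← Nat.div_add_mod n 2, pow_add, pow_mul, pow_two, F.hs, one_pow, one_mul]

include hcm

theorem qv_mul {p q : ℕ} (hp : p < 32) (hq : q < 32) :
    qv s x i w (qMul p q) = qv s x i w p * qv s x i w q := by
  have e := qMul_split p (List.mem_range.2 hp) q (List.mem_range.2 hq)
  set A := unitL i (x * i * x⁻¹) with hA
  set B := unitL w (x * w * x⁻¹) with hB
  set a := p / 4 % 4
  set b := p % 4
  set c := q / 4 % 4
  set d := q % 4
  set S1 := sgT.getD (a * 4 + c) 0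
  set S2 := sgT.getD (b * 4 + d) 0
  have b1 : ixT.getD (a * 4 + c) 0 < 4 ∧ ixT.getD (b * 4 + d) 0 < 4 := by
    have : ∀ m ∈ List.range 16, ixT.getD m 0 < 4 := by decide
    exact ⟨this _ (List.mem_range.2 (by omega)), this _ (List.mem_range.2 (by omega))⟩
  have hA' := F.mulI hxQ hcm (show a < 4 by omega) (show c < 4 by omega)
  have hB' := F.mulW hxQ hcm (show b < 4 by omega) (show d < 4 by omega)
  rw [← hA] at hA'
  rw [← hB] at hB'
  have lhs : qv s x i w (qMul p q) =
      s ^ (p / 16 + q / 16 + S1 + S2) * A (ixT.getD (a * 4 + c) 0) * B (ixT.getD (b * 4 + d) 0) := by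
    rw [F.spow_mod hxQ (p / 16 + q / 16 + S1 + S2), qv, e, hA, hB]
    congr 3 <;> omega
  rw [lhs]
  show _ = s ^ (p / 16) * A a * B b * (s ^ (q / 16) * A c * B d)
  have cA := F.unit_mem hxQ
  calc s ^ (p / 16 + q / 16 + S1 + S2) * A (ixT.getD (a * 4 + c) 0) * B (ixT.getD (b * 4 + d) 0)
      = s ^ (p / 16) * s ^ (q / 16) * (s ^ S1 * A (ixT.getD (a * 4 + c) 0)) *
          (s ^ S2 * B (ixT.getD (b * 4 + d) 0)) := by
        rw [pow_add, pow_add, pow_add]
        simp only [mul_assoc]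
        rw [← mul_assoc (s ^ S2) (A _) _, (F.spow_comm hxQ S2 (cA _).1).eq, mul_assoc]
    _ = s ^ (p / 16) * s ^ (q / 16) * (A a * A c) * (B b * B d) := by rw [hA', hB']
    _ = _ := by
        have h1 : Commute (s ^ (q / 16)) (A a * B b) :=
          F.spow_comm hxQ _ (mul_mem (cA a).1 (cA b).2)
        have h2 : Commute (A c) (B b) := F.unit_comm hxQ c b
        calc s ^ (p / 16) * s ^ (q / 16) * (A a * A c) * (B b * B d)
            = s ^ (p / 16) * (s ^ (q / 16) * (A a * (A c * B b) * B d)) := by group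
          _ = s ^ (p / 16) * (s ^ (q / 16) * (A a * B b) * (A c * B d)) := by rw [h2.eq]; group
          _ = s ^ (p / 16) * A a * B b * (s ^ (q / 16) * A c * B d) := by rw [h1.eq]; group

theorem qv_ph {q : ℕ} (hq : q < 32) : x * qv s x i w q * x⁻¹ = qv s x i w (ph q) := by
  obtain ⟨hl, -, -, -, he⟩ := ph_facts q (List.mem_range.2 hq)
  have hA : ∀ a < 4, x * unitL i (x * i * x⁻¹) a * x⁻¹ =
      unitL i (x * i * x⁻¹) ([0, 2, 3, 1].getD a 0) ∧
      x * unitL w (x * w * x⁻¹) a * x⁻¹ = unitL w (x * w * x⁻¹) ([0, 2, 3, 1].getD a 0) := by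
    have hx3 : ∀ y, x * (x * (x * y * x⁻¹) * x⁻¹) * x⁻¹ = y := fun y => by
      calc _ = x * x * x * y * (x * x * x)⁻¹ := by group
        _ = y := by rw [F.hx]; group
    intro a ha
    interval_cases a
    · exact ⟨by show x * 1 * x⁻¹ = 1; group, by show x * 1 * x⁻¹ = 1; group⟩
    · exact ⟨rfl, rfl⟩
    · exact ⟨F.hip, F.hwp⟩
    · refine ⟨?_, ?_⟩
      · show x * (i * (x * i * x⁻¹)) * x⁻¹ = i
        rw [← F.hip, hx3]
      · show x * (w * (x * w * x⁻¹)) * x⁻¹ = w
        rw [← F.hwp, hx3]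
  obtain ⟨a1, -⟩ := hA (q / 4 % 4) (by omega)
  obtain ⟨-, b1⟩ := hA (q % 4) (by omega)
  have hx2 : x * s ^ (q / 16) * x⁻¹ = s ^ (q / 16) := by
    rw [((show Commute x s from F.hxs).pow_right _).eq, mul_inv_cancel_right]
  have key : x * qv s x i w q * x⁻¹ = s ^ (q / 16) *
      unitL i (x * i * x⁻¹) ([0, 2, 3, 1].getD (q / 4 % 4) 0) *
      unitL w (x * w * x⁻¹) ([0, 2, 3, 1].getD (q % 4) 0) := by
    rw [qv, ← conj_mul, ← conj_mul, hx2, a1, b1]
  rw [key, he, qv]
  have : ∀ m ∈ List.range 4, [0, 2, 3, 1].getD m 0 < 4 := by decide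
  have := this (q / 4 % 4) (List.mem_range.2 (by omega))
  have h2 : [0, 2, 3, 1].getD (q % 4) 0 < 4 := by
    have : ∀ m ∈ List.range 4, [0, 2, 3, 1].getD m 0 < 4 := by decide
    exact this _ (List.mem_range.2 (by omega))
  congr 3 <;> omega

theorem qv_inj {q : ℕ} (hq : q < 32) (h : qv s x i w q = 1) : q = 0 := by
  set A := unitL i (x * i * x⁻¹)
  set B := unitL w (x * w * x⁻¹)
  have cA := F.unit_mem hxQ
  -- a unit central in its own line is trivial
  have kill : ∀ {p r : G} {a : ℕ}, p ∈ Q → x * p * x⁻¹ = r → r * p = p * r * s → a < 4 →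
      Commute (unitL p r a) p → Commute (unitL p r a) r → a = 0 := by
    intro p r a hp hr hrp ha h1 h2
    have hne : ¬ Commute r p := fun e => F.hs1 (by
      have e' : r * p = p * r := e
      rw [e', eq_comm, mul_eq_left] at hrp
      exact hrp)
    interval_cases a
    · rfl
    · exact absurd h2.symm hne
    · exact absurd h1 hne
    · exfalso
      have h1' : Commute (p * r) p := h1
      refine hne ?_
      have : p * (r * p) = p * (p * r) := by rw [← mul_assoc]; exact h1'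
      exact mul_left_cancel this
  have h' : s ^ (q / 16) * A (q / 4 % 4) * B (q % 4) = 1 := h
  have eA : A (q / 4 % 4) = (s ^ (q / 16))⁻¹ * (B (q % 4))⁻¹ := by
    calc A (q / 4 % 4) = (s ^ (q / 16))⁻¹ * (s ^ (q / 16) * A (q / 4 % 4) * B (q % 4)) *
          (B (q % 4))⁻¹ := by group
      _ = _ := by rw [h', mul_one]
  have ha : q / 4 % 4 = 0 := by
    refine kill F.hi rfl (F.ji hxQ hcm) (by omega) ?_ ?_ <;>
      show Commute (A (q / 4 % 4)) _ <;> rw [eA]
    · exact ((F.spow_comm hxQ _ F.hi).inv_left).mul_left ((F.unit_comm hxQ 1 _).symm.inv_left)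
    · exact ((F.spow_comm hxQ _ (F.hj hxQ)).inv_left).mul_left ((F.unit_comm hxQ 2 _).symm.inv_left)
  have eB : B (q % 4) = (A (q / 4 % 4))⁻¹ * (s ^ (q / 16))⁻¹ := by
    calc B (q % 4) = (A (q / 4 % 4))⁻¹ * (s ^ (q / 16))⁻¹ *
          (s ^ (q / 16) * A (q / 4 % 4) * B (q % 4)) := by group
      _ = _ := by rw [h', mul_one]
  have hb : q % 4 = 0 := by
    refine kill F.hw rfl (F.vw hxQ hcm) (by omega) ?_ ?_ <;>
      show Commute (B (q % 4)) _ <;> rw [eB]
    · exact ((F.unit_comm hxQ _ 1).inv_left).mul_left ((F.spow_comm hxQ _ F.hw).inv_left)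
    · exact ((F.unit_comm hxQ _ 2).inv_left).mul_left ((F.spow_comm hxQ _ (F.hv hxQ)).inv_left)
  rw [ha, hb] at h'
  have e1 : A 0 = 1 := rfl
  have e2 : B 0 = 1 := rfl
  rw [e1, e2, mul_one, mul_one] at h'
  rcases (show q / 16 = 0 ∨ q / 16 = 1 by omega) with e | e
  · omega
  · rw [e, pow_one] at h'
    exact absurd h' F.hs1

theorem qv_injective {p q : ℕ} (hp : p < 32) (hq : q < 32)
    (h : qv s x i w p = qv s x i w q) : p = q := by
  have hi : ∀ p ∈ List.range 32, ∃ r ∈ List.range 32, qMul p r = 0 ∧ qMul r p = 0 ∧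
      ∀ q ∈ List.range 32, qMul r q = 0 → p = q := by decide +kernel
  obtain ⟨r, hr, h1, h2, h3⟩ := hi p (List.mem_range.2 hp)
  have hrl := List.mem_range.1 hr
  refine h3 q (List.mem_range.2 hq) (F.qv_inj hxQ hcm (Nat.mod_lt _ (by norm_num)) ?_)
  rw [F.qv_mul hxQ hcm hrl hq, ← h, ← F.qv_mul hxQ hcm hrl hp, h2]
  simp [qv, unitL]

include hcard

theorem qv_surj {y : G} (hy : y ∈ Q) : ∃ q < 32, qv s x i w q = y := by
  let f : Fin 32 → Q := fun q => ⟨qv s x i w q, F.qv_mem hxQ q⟩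
  have hf : Function.Bijective f := (Nat.bijective_iff_injective_and_card _).2
    ⟨fun a b e => Fin.ext (F.qv_injective hxQ hcm a.2 b.2 (congrArg Subtype.val e :)),
      by rw [Nat.card_fin, hcard]⟩
  obtain ⟨q, hq⟩ := hf.2 ⟨y, hy⟩
  exact ⟨q, q.2, congrArg Subtype.val hq⟩

end Frame

variable {Q : Subgroup G} {s x : G}

/-- The hypotheses on the normal two-subgroup and the element of order three. -/
structure Act (Q : Subgroup G) (s x : G) : Prop where
  hs : s * s = 1
  hs1 : s ≠ 1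
  hsQ : s ∈ Q
  hz : ∀ q ∈ Q, q * s = s * q
  hx : x * x * x = 1
  hxs : x * s = s * x
  hfix : ∀ q ∈ Q, x * q * x⁻¹ = q → q = 1 ∨ q = s
  hxQ : ∀ q ∈ Q, x * q * x⁻¹ ∈ Q
  hcm : ∀ a ∈ Q, ∀ b ∈ Q, a * b = b * a ∨ a * b = b * a * s
  hsq : ∀ a ∈ Q, a * a = 1 ∨ a * a = s
  hcard : Nat.card Q = 32
  small : ∀ H : Subgroup G, H ≤ Q → s ∈ H → 16 ≤ Nat.card H →
    ∃ a ∈ H, ∃ b ∈ H, a * b ≠ b * a

theorem Act.x_s (T : Act Q s x) : x * s * x⁻¹ = s := by rw [T.hxs, mul_inv_cancel_right]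

theorem Act.x3 (T : Act Q s x) (y : G) : x * (x * (x * y * x⁻¹) * x⁻¹) * x⁻¹ = y := by
  calc _ = x * x * x * y * (x * x * x)⁻¹ := by group
    _ = y := by rw [T.hx]; group

theorem Act.zc (T : Act Q s x) {c y : G} (hc : c = 1 ∨ c = s) (hy : y ∈ Q) : Commute c y := by
  rcases hc with rfl | rfl
  · exact Commute.one_left y
  · exact (show Commute y c from T.hz y hy).symm

/-- An element of square `s` generates a quaternion line. -/
theorem Act.exists_line (T : Act Q s x) {y : G} (hy : y ∈ Q) (hyy : y * y = s) :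
    ∃ i, i ∈ Q ∧ i * i = s ∧ (i = y ∨ i = y * s) ∧
      x * (x * i * x⁻¹) * x⁻¹ = i * (x * i * x⁻¹) := by
  obtain ⟨a, ha⟩ : ∃ a, a = x * y * x⁻¹ := ⟨_, rfl⟩
  obtain ⟨b, hb⟩ : ∃ b, b = x * a * x⁻¹ := ⟨_, rfl⟩
  have haQ : a ∈ Q := ha ▸ T.hxQ y hy
  have hbQ : b ∈ Q := hb ▸ T.hxQ a haQ
  have hxb : x * b * x⁻¹ = y := by rw [hb, ha]; exact T.x3 y
  have haa : a * a = s := by rw [ha, conj_mul, hyy, T.x_s]
  have hbb : b * b = s := by rw [hb, conj_mul, haa, T.x_s]
  have hP : x * (y * a * b) * x⁻¹ = y⁻¹ * (y * a * b) * y := by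
    rw [← conj_mul, ← conj_mul, ← ha, ← hb, hxb]; group
  have hPQ : y * a * b ∈ Q := mul_mem (mul_mem hy haQ) hbQ
  obtain ⟨c, hc, hPc⟩ : ∃ c, (c = 1 ∨ c = s) ∧ x * (y * a * b) * x⁻¹ = (y * a * b) * c := by
    rcases T.hcm _ hPQ y hy with e | e
    · exact ⟨1, Or.inl rfl, by rw [hP, mul_one, mul_assoc, e, inv_mul_cancel_left]⟩
    · exact ⟨s, Or.inr rfl, by
        rw [hP, mul_assoc, e, ← mul_assoc, ← mul_assoc y⁻¹, inv_mul_cancel, one_mul]⟩
  have hc1 : c = 1 := by
    rcases hc with e | e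
    · exact e
    · exfalso
      rw [e] at hPc
      have h3 := T.x3 (y * a * b)
      have es : ∀ z : G, x * (z * s) * x⁻¹ = x * z * x⁻¹ * s := fun z => by
        rw [← conj_mul, T.x_s]
      rw [hPc, es, hPc, mul_assoc (y * a * b) s s, T.hs, mul_one, hPc] at h3
      exact T.hs1 (mul_eq_left.1 h3)
  rw [hc1, mul_one] at hPc
  have hz := T.hfix _ hPQ hPc
  obtain ⟨d, hd, hbd⟩ : ∃ d, (d = 1 ∨ d = s) ∧ b = a * y * d := by
    refine ⟨(a * y)⁻¹ * b, ?_, by group⟩
    have ei : ∀ {u : G}, u * u = s → u⁻¹ = u * s := fun {u} hu =>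
      inv_eq_of_mul_eq_one_right (by rw [← mul_assoc, hu, T.hs])
    have e : (a * y)⁻¹ * b = (y * a * b) := by
      rw [mul_inv_rev, ei haa, ei hyy]
      calc y * s * (a * s) * b = y * (s * a) * (s * b) := by group
        _ = y * (a * s) * (s * b) := by rw [T.hz a haQ]
        _ = y * a * (s * s) * b := by group
        _ = y * a * b := by rw [T.hs, mul_one]
    rw [e]; exact hz
  rcases T.hcm a haQ y hy with e | e
  · exfalso
    have h1 : b * b = 1 := by
      have cd : Commute (a * y) d := (T.zc hd (mul_mem haQ hy)).symm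
      have dd : d * d = 1 := by rcases hd with rfl | rfl; exacts [one_mul 1, T.hs]
      calc b * b = (a * y) * (a * y) * (d * d) := by
            rw [hbd, mul_assoc (a * y) d, ← mul_assoc d (a * y) d, ← cd.eq]; group
        _ = a * (y * a) * y * (d * d) := by group
        _ = a * a * (y * y) * (d * d) := by rw [← e]; group
        _ = 1 := by rw [haa, hyy, T.hs, dd, one_mul]
    rw [hbb] at h1
    exact T.hs1 h1
  · rcases hd with rfl | rfl
    · refine ⟨y * s, mul_mem hy T.hsQ, ?_, Or.inr rfl, ?_⟩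
      · rw [mul_assoc y s, ← mul_assoc s y, ← T.hz y hy, mul_assoc y s s, T.hs, mul_one, hyy]
      · have hax : x * (y * s) * x⁻¹ = a * s := by rw [← conj_mul, T.x_s, ha]
        rw [hax, ← conj_mul, T.x_s, ← hb, hbd, mul_one, e]
        calc y * a * s * s = y * a * (s * s) := by group
          _ = y * (a * s) * s := by rw [T.hs, mul_assoc y, mul_assoc, mul_assoc, T.hs]
          _ = y * (s * a) * s := by rw [T.hz a haQ]
          _ = y * s * (a * s) := by group
    · refine ⟨y, hy, hyy, Or.inl rfl, ?_⟩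
      rw [← ha, ← hb, hbd, e, mul_assoc (y * a), T.hs, mul_one]

/-- The two quaternion lines. -/
theorem Act.exists_frame (T : Act Q s x) : ∃ i w, Frame Q s x i w := by
  classical
  obtain ⟨y, hy, hyy⟩ : ∃ y ∈ Q, y * y = s := by
    by_contra hno
    push Not at hno
    have h1 : ∀ a ∈ Q, a * a = 1 := fun a ha => (T.hsq a ha).resolve_right (hno a ha)
    obtain ⟨a, ha, b, hb, hab⟩ := T.small Q le_rfl T.hsQ (by rw [T.hcard]; norm_num)
    refine hab ?_
    calc a * b = (a * b)⁻¹ := (inv_eq_of_mul_eq_one_right (h1 _ (mul_mem ha hb))).symm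
      _ = b * a := by
        rw [mul_inv_rev, inv_eq_of_mul_eq_one_right (h1 a ha), inv_eq_of_mul_eq_one_right (h1 b hb)]
  obtain ⟨i, hi, hii, -, hip⟩ := T.exists_line hy hyy
  set j := x * i * x⁻¹ with hj
  have hjQ : j ∈ Q := T.hxQ i hi
  set C : Subgroup G := Q ⊓ Subgroup.centralizer ({i} : Set G) ⊓ Subgroup.centralizer ({j} : Set G)
    with hC
  -- some element of square `s` centralizes the line
  obtain ⟨w0, hw0, hww0⟩ : ∃ u ∈ C, u * u = s := by
    by_contra hno
    push Not at hno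
    have hC1 : ∀ a ∈ C, a * a = 1 := fun a ha =>
      (T.hsq a (Subgroup.mem_inf.1 (Subgroup.mem_inf.1 ha).1).1).resolve_right (hno a ha)
    have hCab : ∀ a ∈ C, ∀ b ∈ C, a * b = b * a := fun a ha b hb => by
      calc a * b = (a * b)⁻¹ := (inv_eq_of_mul_eq_one_right (hC1 _ (mul_mem ha hb))).symm
        _ = b * a := by
          rw [mul_inv_rev, inv_eq_of_mul_eq_one_right (hC1 a ha),
            inv_eq_of_mul_eq_one_right (hC1 b hb)]
    -- two steps of index at most two
    have step : ∀ (H : Subgroup G) (a : G), H ≤ Q → a ∈ Q →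
        Nat.card H ≤ 2 * Nat.card (H ⊓ Subgroup.centralizer ({a} : Set G) : Subgroup G) := by
      intro H a hH ha
      set K : Subgroup H := (Subgroup.centralizer ({a} : Set G)).subgroupOf H with hK
      have hidx : K.index ≤ 2 := by
        by_cases htop : ∀ b : H, b ∈ K
        · rw [Subgroup.index_eq_one.2 (eq_top_iff.2 fun b _ => htop b)]; norm_num
        · obtain ⟨b, hb⟩ := not_forall.1 htop
          refine (Subgroup.index_eq_two_iff.2 ⟨b, fun c => ?_⟩).le
          have comm : ∀ c : H, c ∉ K → (c : G) * a = a * c * s := fun c hc => by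
            rcases T.hcm c (hH c.2) a ha with e | e
            · exact absurd (Subgroup.mem_centralizer_singleton_iff.2 e) hc
            · exact e
          by_cases hc : c ∈ K
          · exact Or.inr ⟨hc, fun h => hb ((K.mul_mem_cancel_left hc).1 h)⟩
          · refine Or.inl ⟨?_, hc⟩
            show ((c : G) * b) ∈ Subgroup.centralizer ({a} : Set G)
            rw [Subgroup.mem_centralizer_singleton_iff]
            calc (c : G) * b * a = (c : G) * (a * b * s) := by rw [mul_assoc, comm b hb]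
              _ = (c : G) * a * (b * s) := by group
              _ = a * c * (s * b * s) := by rw [comm c hc]; group
              _ = a * c * (b * (s * s)) := by rw [← T.hz b (hH b.2)]; group
              _ = a * ((c : G) * b) := by rw [T.hs]; group
      have h1 := K.card_mul_index
      have h2 : Nat.card K = Nat.card (H ⊓ Subgroup.centralizer ({a} : Set G) : Subgroup G) := by
        rw [hK, ← Subgroup.inf_subgroupOf_left]
        exact Nat.card_congr (Subgroup.subgroupOfEquivOfLe inf_le_left).toEquiv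
      rw [← h1, h2, mul_comm]
      exact Nat.mul_le_mul_right _ hidx
    have hC8 : 8 ≤ Nat.card C := by
      have h1 := step Q i le_rfl hi
      have h2 := step _ j (inf_le_left : Q ⊓ Subgroup.centralizer ({i} : Set G) ≤ Q) hjQ
      rw [T.hcard] at h1
      rw [← hC] at h2
      omega
    set A := C ⊔ Subgroup.zpowers i with hA
    have hAcomm : ∀ a ∈ A, ∀ b ∈ A, a * b = b * a := by
      have hAc : A = Subgroup.closure ((C : Set G) ∪ {i}) := by
        rw [hA, Subgroup.closure_union, Subgroup.closure_eq, ← Subgroup.zpowers_eq_closure]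
      have hgen : ∀ a ∈ ((C : Set G) ∪ {i}), ∀ b ∈ ((C : Set G) ∪ {i}), a * b = b * a := by
        rintro a (ha | ha) b (hb | hb)
        · exact hCab a ha b hb
        · rw [Set.mem_singleton_iff] at hb; subst hb
          exact Subgroup.mem_centralizer_singleton_iff.1 (Subgroup.mem_inf.1 (Subgroup.mem_inf.1 ha).1).2
        · rw [Set.mem_singleton_iff] at ha; subst ha
          exact (Subgroup.mem_centralizer_singleton_iff.1 (Subgroup.mem_inf.1 (Subgroup.mem_inf.1 hb).1).2).symm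
        · rw [Set.mem_singleton_iff] at ha hb; rw [ha, hb]
      intro a ha b hb
      rw [hAc] at ha hb
      haveI := Subgroup.isMulCommutative_closure hgen
      exact congrArg Subtype.val (mul_comm' (⟨a, ha⟩ : Subgroup.closure _) ⟨b, hb⟩)
    have hiC : i ∉ C := fun h => by
      have := hC1 i h
      rw [hii] at this
      exact T.hs1 this
    have hlt : C < A := lt_of_le_of_ne le_sup_left fun e =>
      hiC (e ▸ Subgroup.mem_sup_right (Subgroup.mem_zpowers i))
    have h16 : 16 ≤ Nat.card A := by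
      obtain ⟨m, hm⟩ := Subgroup.card_dvd_of_le hlt.le
      have hne : Nat.card C ≠ Nat.card A := fun e => hlt.ne (Subgroup.eq_of_le_of_card_ge hlt.le e.ge)
      have hpos : 0 < Nat.card A := Nat.card_pos
      rcases m with _ | _ | m
      · simp at hm; omega
      · simp at hm; omega
      · rw [hm]; nlinarith
    obtain ⟨a, ha, b, hb, hab⟩ := T.small A (sup_le (inf_le_left.trans inf_le_left)
      (Subgroup.zpowers_le.2 hi)) (hii ▸ mul_mem (Subgroup.mem_sup_right (Subgroup.mem_zpowers i))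
        (Subgroup.mem_sup_right (Subgroup.mem_zpowers i))) h16
    exact hab (hAcomm a ha b hb)
  obtain ⟨⟨hwQ, hwi⟩, hwj⟩ : (w0 ∈ Q ∧ w0 * i = i * w0) ∧ w0 * j = j * w0 :=
    ⟨⟨(Subgroup.mem_inf.1 (Subgroup.mem_inf.1 hw0).1).1,
      Subgroup.mem_centralizer_singleton_iff.1 (Subgroup.mem_inf.1 (Subgroup.mem_inf.1 hw0).1).2⟩,
      Subgroup.mem_centralizer_singleton_iff.1 (Subgroup.mem_inf.1 hw0).2⟩
  obtain ⟨w, hw, hww, hw', hwp⟩ := T.exists_line hwQ hww0
  have cw : ∀ z, z ∈ Q → w0 * z = z * w0 → w * z = z * w := fun z hz e => by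
    rcases hw' with rfl | rfl
    · exact e
    · exact ((show Commute w0 z from e).mul_left ((show Commute z s from T.hz z hz).symm)).eq
  refine ⟨i, w, ⟨T.hs, T.hs1, T.hsQ, T.hz, T.hx, T.hxs, T.hfix, hi, hw, hii, hww, hip, hwp,
    (cw i hi hwi).symm, ?_⟩⟩
  -- `w` commutes with the images of the line, so its image commutes with the line
  have cwi : Commute w i := cw i hi hwi
  have cwk : Commute w (x * j * x⁻¹) := by
    rw [hip]; exact cwi.mul_right (cw j hjQ hwj)
  have e : Commute (x * w * x⁻¹) (x * (x * j * x⁻¹) * x⁻¹) :=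
    cwk.map (MulAut.conj x).toMonoidHom
  rw [hj, T.x3] at e
  exact e.symm.eq

end CfsgLib.Ext32
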