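import Cfsg.Agent.Lib.Ext32.Second
import Cfsg.Agent.Lib.Ext32.GoodCert
import Cfsg.Agent.Lib.J1Unique.Pres

/-!
# The relators of the presentation hold
-/

set_option autoImplicit false
set_option linter.unusedSectionVars false
set_option linter.style.haveILetI false
set_option maxRecDepth 100000
set_option maxHeartbeats 2000000

namespace CfsgLib.Ext32

open CfsgLib.J1Unique (wv wv_append wv_cons wv_nil)
open scoped Pointwise

universe u

/-- the value of a word in the model -/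
def evalW : List ℕ → ℕ
  | [] => 0
  | x :: w => mulN 2 (genL.getD x 0) (evalW w)

/-- an element whose action makes an element of order four with the one of order three -/
abbrev Four (a : ℕ) : Prop :=
  ∀ e ∈ [0, tN] ++ clsOf 2 vN,
    cjN 2 a (appN phiT e) ∈ [0, tN] ++ clsOf 2 vN ∧
    cjN 2 a (appN phiT (cjN 2 a (appN phiT (cjN 2 a (appN phiT (cjN 2 a (appN phiT e))))))) = e

theorem el_facts : IsSub 2 ([0, tN] ++ clsOf 2 vN) ∧
    (∀ e ∈ [0, tN] ++ clsOf 2 vN, mulN 2 e e = 0 ∧ e ∈ rl 2 ∧ appN phiT e ∈ [0, tN] ++ clsOf 2 vN) ∧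
    (∀ m ∈ els, (∀ e ∈ [0, tN] ++ clsOf 2 vN, mulN 2 m e = mulN 2 e m) →
      m ∈ [0, tN] ++ clsOf 2 vN) ∧ ∀ m ∈ syl, powN 2 m 4 = 0 := by decide +kernel

theorem four_facts : Four 31 ∧ Four 104 := by decide +kernel

theorem word_vals : (∀ x ∈ List.range 4, genL.getD x 0 < 192 ∧
      genL.getD x 0 = evalW [x]) ∧
    (∀ w ∈ [[0, 0, 0, 0], [2, 2, 2, 2], [0, 2, 0, 2, 0, 2], [0, 0, 2, 0, 3, 0, 0, 2, 0, 3],
      [0, 0, 2, 2, 1, 3, 0, 3, 0, 2], [0, 1], [2, 3]], evalW w = 0) ∧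
    evalW [0, 2, 0, 3, 0, 2] = sN ∧ evalW [0, 2, 1, 2, 1, 2] = appN sndT.1 sN ∧
    (evalW [2, 0, 0, 2] ∈ rl 2 ∧
      evalW [0, 3, 3, 0, 3] = invN 2 (appN phiT (evalW [2, 0, 0, 2]))) ∧
    (∃ m ∈ rl 2, appN sndT.1 m = evalW [0, 2, 1, 3, 0, 3] ∧
      evalW [0, 3, 0, 3, 0] = invN 2 (appN sndT.1 (appN phiT m))) ∧
    evalW [0] = 31 ∧ evalW [1, 3] = appN sndT.1 104 := by decide +kernel

theorem rels_split : ∀ w ∈ Good.cert.rels, w ∈ [[0, 1], [2, 3], [4, 5], [6, 7],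
    [0, 0, 0, 0], [2, 2, 2, 2], [0, 2, 0, 2, 0, 2], [0, 0, 2, 0, 3, 0, 0, 2, 0, 3],
    [0, 0, 2, 2, 1, 3, 0, 3, 0, 2], [4, 4, 4],
    [0, 2, 0, 3, 0, 2] ++ [4] ++ [0, 2, 0, 3, 0, 2] ++ [4],
    [4] ++ [2, 0, 0, 2] ++ [5] ++ [0, 3, 3, 0, 3], [6, 6, 6],
    [0, 2, 1, 2, 1, 2] ++ [6] ++ [0, 2, 1, 2, 1, 2] ++ [6],
    [6] ++ [0, 2, 1, 3, 0, 3] ++ [7] ++ [0, 3, 0, 3, 0], [4, 6, 5, 7],
    [0] ++ [4] ++ [0] ++ [4] ++ [0] ++ [4] ++ [0] ++ [4],
    [1, 3] ++ [6] ++ [1, 3] ++ [6] ++ [1, 3] ++ [6] ++ [1, 3] ++ [6]] := by decide +kernel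

theorem evalW_lt : ∀ w : List ℕ, evalW w < 192
  | [] => by norm_num [evalW]
  | _ :: _ => mulN_lt ..

variable {G : Type u} [Group G] [Finite G] {t : G}

namespace Cen

variable (D : Cen 2 t)
include D

/-- The product of an element of order three and a suitable element of the centraliser has order
dividing four. -/
theorem four_order {h : G} (hh : D.Std h) {a : ℕ} (ha : a < 192) (h4 : Four a) :
    (D.val a * h) ^ 4 = 1 := by
  haveI : Fact (Nat.Prime 2) := ⟨Nat.prime_two⟩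
  obtain ⟨hE, hEp, hEc, hsyl⟩ := el_facts
  set g := D.val a * h with hg
  have le : ∀ {e}, e ∈ [0, tN] ++ clsOf 2 vN → e < 192 := fun he => (hE.2.2.1 _ he).1
  have step : ∀ e ∈ [0, tN] ++ clsOf 2 vN,
      g * D.val e * g⁻¹ = D.val (cjN 2 a (appN phiT e)) := fun e he => by
    rw [D.val_cj ha (le (hEp e he).2.2), ← hh.act e (hEp e he).2.1, hg]
    group
  have hfix : ∀ e ∈ [0, tN] ++ clsOf 2 vN, g ^ 4 * D.val e * (g ^ 4)⁻¹ = D.val e := fun e he => by
    calc g ^ 4 * D.val e * (g ^ 4)⁻¹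
        = g * (g * (g * (g * D.val e * g⁻¹) * g⁻¹) * g⁻¹) * g⁻¹ := by simp [pow_succ, mul_assoc]
      _ = _ := by
        rw [step e he, step _ (h4 e he).1, step _ (h4 _ (h4 e he).1).1,
          step _ (h4 _ (h4 _ (h4 e he).1).1).1, (h4 e he).2]
  have htE : tN ∈ [0, tN] ++ clsOf 2 vN := by simp
  obtain ⟨m, hm, hmv⟩ := D.val_surj (g ^ 4) (mul_inv_eq_iff_eq_mul.1 (by
    have := hfix tN htE
    rwa [D.val_tau] at this))
  have hmE := hEc m (mem_els hm) fun e he => D.mul_val_eq hm (le he) (by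
    rw [hmv]; exact mul_inv_eq_iff_eq_mul.1 (hfix e he))
  have h8 : g ^ 8 = 1 := by
    rw [show 8 = 4 * 2 from rfl, pow_mul, ← hmv, pow_two, ← D.val_mul m m hm hm, (hEp m hmE).1,
      D.val_zero]
  obtain ⟨P, hP⟩ := D.exists_sylow
  obtain ⟨j, -, hj⟩ := (Nat.dvd_prime_pow Nat.prime_two).1
    (show orderOf g ∣ 2 ^ 3 from orderOf_dvd_of_pow_eq_one h8)
  obtain ⟨R, hR⟩ := (IsPGroup.of_card (n := j)
    (show Nat.card (Subgroup.zpowers g) = 2 ^ j by rw [Nat.card_zpowers, hj])).exists_le_sylow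
  obtain ⟨u, hu⟩ := MulAction.exists_smul_eq G R P
  have hw : u * g * u⁻¹ ∈ D.grp syl_facts.1 := by
    have h1 : MulAut.conj u • g ∈ MulAut.conj u • (R : Subgroup G) :=
      Subgroup.smul_mem_pointwise_smul g _ _ (hR (Subgroup.mem_zpowers g))
    rw [← Sylow.coe_subgroup_smul] at h1
    rw [hu, hP] at h1
    exact h1
  obtain ⟨n, hn, hnv⟩ := hw
  have hnl := (syl_facts.1.2.2.1 n hn).1
  have e := D.val_pow hnl 4
  rw [hsyl n hn, D.val_zero, hnv, conj_pow, eq_comm, conj_eq_one_iff] at e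
  exact e

/-- the letters in the group -/
def lets (h k : G) : ℕ → G
  | 4 => h
  | 5 => h⁻¹
  | 6 => k
  | 7 => k⁻¹
  | x => D.val (genL.getD x 0)

theorem lets_of {h k : G} {x : ℕ} (hx : x < 4) : D.lets h k x = D.val (genL.getD x 0) := by
  interval_cases x <;> rfl

theorem wv_word (h k : G) : ∀ {w : List ℕ}, (∀ x ∈ w, x < 4) →
    wv (D.lets h k) w = D.val (evalW w)
  | [], _ => by rw [wv_nil, evalW, D.val_zero]
  | x :: w, hw => by
    have hx := hw x (List.mem_cons_self ..)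
    rw [wv_cons, wv_word h k (fun y hy => hw y (List.mem_cons_of_mem _ hy)), D.lets_of hx, evalW,
      D.val_mul _ _ (word_vals.1 x (List.mem_range.2 hx)).1 (evalW_lt w)]

theorem rels_hold {h k : G} (hh : D.Std h) (hk : (D.twist sndT_facts).Std k)
    (hhk : h * k = k * h) : ∀ w ∈ Good.cert.rels, wv (D.lets h k) w = 1 := by
  obtain ⟨-, ec, es, es', ⟨ea, ea'⟩, ⟨m, hm, eb, eb'⟩, e0, e13⟩ := word_vals
  have l4 : wv (D.lets h k) [4] = h := by rw [wv_cons, wv_nil, mul_one]; rfl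
  have l5 : wv (D.lets h k) [5] = h⁻¹ := by rw [wv_cons, wv_nil, mul_one]; rfl
  have l6 : wv (D.lets h k) [6] = k := by rw [wv_cons, wv_nil, mul_one]; rfl
  have l7 : wv (D.lets h k) [7] = k⁻¹ := by rw [wv_cons, wv_nil, mul_one]; rfl
  have hw : ∀ {w : List ℕ}, (∀ x ∈ w, x < 4) → wv (D.lets h k) w = D.val (evalW w) :=
    fun hx => D.wv_word h k hx
  have hcr : ∀ w ∈ [[0, 0, 0, 0], [2, 2, 2, 2], [0, 2, 0, 2, 0, 2], [0, 0, 2, 0, 3, 0, 0, 2, 0, 3],
      [0, 0, 2, 2, 1, 3, 0, 3, 0, 2], [0, 1], [2, 3]], (∀ x ∈ w, x < 4) →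
      wv (D.lets h k) w = 1 := fun w h1 h2 => by rw [hw h2, ec w h1, D.val_zero]
  have twv : ∀ i, (D.twist sndT_facts).val i = D.val (appN sndT.1 i) := fun _ => rfl
  have la : ∀ i < 192, appN sndT.1 i < 192 := fun i hi => (sndT_facts.1 i (mem_els hi)).1
  intro w hw'
  have := rels_split w hw'
  simp only [List.mem_cons, List.not_mem_nil, or_false] at this
  rcases this with rfl | rfl | rfl | rfl | rfl | rfl | rfl | rfl | rfl | rfl | rfl | rfl | rfl |
    rfl | rfl | rfl | rfl | rfl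
  · exact hcr _ (by simp) (by decide)
  · exact hcr _ (by simp) (by decide)
  · show h * (h⁻¹ * 1) = 1
    rw [mul_one, mul_inv_cancel]
  · show k * (k⁻¹ * 1) = 1
    rw [mul_one, mul_inv_cancel]
  · exact hcr _ (by simp) (by decide)
  · exact hcr _ (by simp) (by decide)
  · exact hcr _ (by simp) (by decide)
  · exact hcr _ (by simp) (by decide)
  · exact hcr _ (by simp) (by decide)
  · show h * (h * (h * 1)) = 1
    rw [mul_one, ← mul_assoc, ← hh.h3]
    simp [pow_succ]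
  · simp only [wv_append]
    rw [l4, hw (by decide), es, show D.val sN * h * D.val sN * h =
      (D.val sN * h * D.val sN) * h by group, hh.hs, inv_mul_cancel]
  · simp only [wv_append]
    rw [l4, l5, hw (by decide), hw (by decide), hh.act _ ea, ea',
      D.val_inv (D.rl_lt (phiT_facts.1 _ ea)), mul_inv_cancel]
  · show k * (k * (k * 1)) = 1
    rw [mul_one, ← mul_assoc, ← hk.h3]
    simp [pow_succ]
  · simp only [wv_append]
    rw [l6, hw (by decide), es', show D.val (appN sndT.1 sN) * k * D.val (appN sndT.1 sN) * k =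
      (D.val (appN sndT.1 sN) * k * D.val (appN sndT.1 sN)) * k by group, ← twv, hk.hs,
      inv_mul_cancel]
  · simp only [wv_append]
    have e := hk.act m hm
    rw [twv, twv] at e
    rw [l6, l7, hw (by decide), hw (by decide), ← eb, eb', e,
      D.val_inv (la _ (D.rl_lt (phiT_facts.1 _ hm))), mul_inv_cancel]
  · show h * (k * (h⁻¹ * (k⁻¹ * 1))) = 1
    rw [mul_one, show h * (k * (h⁻¹ * k⁻¹)) = h * k * (k * h)⁻¹ by group, hhk, mul_inv_cancel]
  · simp only [wv_append]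
    rw [l4, hw (by decide), e0]
    have e := D.four_order hh (a := 31) (by norm_num) four_facts.1
    calc D.val 31 * h * D.val 31 * h * D.val 31 * h * D.val 31 * h = (D.val 31 * h) ^ 4 := by
          simp [pow_succ, mul_assoc]
      _ = 1 := e
  · simp only [wv_append]
    rw [l6, hw (by decide), e13]
    have e := (D.twist sndT_facts).four_order hk (a := 104) (by norm_num) four_facts.2
    rw [twv] at e
    calc D.val (appN sndT.1 104) * k * D.val (appN sndT.1 104) * k * D.val (appN sndT.1 104) * k *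
          D.val (appN sndT.1 104) * k = (D.val (appN sndT.1 104) * k) ^ 4 := by
          simp [pow_succ, mul_assoc]
      _ = 1 := e

end Cen

end CfsgLib.Ext32
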