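import Cfsg.Agent.Lib.Ext32.Fusion

/-!
# The commuting elements of order three

When `t` is fused with `36` and not with `42`, a second frame gives an element of order three
commuting with the first, in standard position for a fixed change of coordinates.
-/

set_option autoImplicit false
set_option linter.unusedSectionVars false
set_option maxRecDepth 100000
set_option maxHeartbeats 2000000

namespace CfsgLib.Ext32

open CfsgLib.U42 (conj_comm)

universe u

/-- the classes fused with `t` -/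
def tcls : List Nat := [tN] ++ clsOf 2 vN ++ clsOf 2 36 ++ clsOf 2 1

/-- the other classes -/
def ucls : List Nat := clsOf 2 42 ++ clsOf 2 97

theorem tcls_cases : ∀ p ∈ clsL 2, ∀ m ∈ p.2,
    (m ∈ tcls ↔ p.1 ∈ [tN, vN, 36, 1]) ∧ (m ∈ ucls ↔ p.1 ∈ [42, 97]) ∧
    (m ∈ tcls ∨ m ∈ ucls) ∧ ¬ (m ∈ tcls ∧ m ∈ ucls) := by decide +kernel

/-- the change of coordinates of the second frame -/
def alF (p : Nat × Nat) (m : Nat) : Nat := appN preSnd.1 (appN p.2 m)

/-- its inverse -/
def alI (p : Nat × Nat) (m : Nat) : Nat := appN p.1 (appN preSnd.2 m)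

/-- the action of the second element of order three -/
def actS (p : Nat × Nat) (x : Nat) : Nat := alF p (appN phiT (alI p x))

/-- The classes are respected by the second element. -/
abbrev ValidS (p : Nat × Nat) : Prop :=
  ∀ r ∈ rl 2, mulN 2 r r = 0 → r ≠ 0 → (alF p r ∈ tcls ↔ alF p (appN phiT r) ∈ tcls)

/-- The coordinates corrected by `a` are those of the commuting frame. -/
abbrev Good (p : Nat × Nat) (a : Nat) : Prop :=
  appN sndT.1 sN = cjN 2 a (alF p sN) ∧ ∀ m ∈ rl 2, ∃ n ∈ rl 2,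
    appN sndT.1 m = cjN 2 a (alF p n) ∧ appN sndT.1 (appN phiT m) = cjN 2 a (alF p (appN phiT n))

theorem preSnd_facts : IsAut 2 preSnd ∧ appN preSnd.1 vN ∈ clsOf 2 36 := by decide +kernel

theorem sndT_facts : IsAut 2 sndT := by decide +kernel

theorem a16_facts : IsSub 2 a16 ∧ a16.length = 16 ∧ tN ∈ a16 ∧
    (∀ a ∈ a16, mulN 2 a a = 0 ∧ a ∈ rl 2 ∧ appN phiT a ∈ a16) ∧
    (∀ a ∈ a16, ∀ b ∈ a16, mulN 2 a b = mulN 2 b a) ∧
    (∀ m ∈ els, (∀ a ∈ a16, mulN 2 m a = mulN 2 a m) → m ∈ a16) ∧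
    (∀ a ∈ a16, appN phiT a = a → a = 0) ∧ ∀ a ∈ a16, cjN 2 sN a ∈ a16 := by decide +kernel

theorem second_facts : ∀ p ∈ alphas, ValidS p → ∀ x ∈ a16,
    alI p x ∈ rl 2 ∧ alF p (alI p x) = x ∧ alI p x < 192 ∧ actS p x ∈ a16 ∧
    appN phiT (actS p x) = actS p (appN phiT x) ∧ (actS p x = x → x = 0) ∧
    cjN 2 sN (actS p x) ∈ a16 := by decide +kernel

theorem centralise_facts : ∀ p ∈ alphas, ValidS p → ∀ e ∈ a16, ∃ a ∈ a16,
    mulN 2 (mulN 2 (appN phiT a) e) (actS p (appN phiT a)) = mulN 2 a (actS p a) := by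
  decide +kernel

theorem commuting_facts : ∀ p ∈ alphas, ValidS p → ∀ a ∈ a16, ∀ x ∈ a16,
    cjN 2 (cjN 2 a (alF p sN)) (appN phiT x) = appN phiT (cjN 2 (cjN 2 a (alF p sN)) x) ∧
    cjN 2 (cjN 2 a (alF p sN)) x ∈ a16 ∧ cjN 2 sN (actS p x) = actS p (cjN 2 sN x) := by
  decide +kernel

theorem good_cases : ∀ p ∈ alphas, ValidS p → ∀ a ∈ a16,
    cjN 2 a (alF p sN) ∈ rl 2 → appN phiT (cjN 2 a (alF p sN)) = cjN 2 a (alF p sN) →
    alI p (cjN 2 a sN) ∈ rl 2 → appN phiT (alI p (cjN 2 a sN)) = alI p (cjN 2 a sN) →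
    Good p a := by decide +kernel

theorem alpha_inv : ∀ p ∈ alphas, ∀ m ∈ els, alI p m < 192 ∧ alF p m < 192 ∧ alI p (alF p m) = m ∧
    alF p (alI p m) = m := by decide +kernel

namespace Cen

variable {G : Type u} [Group G] [Finite G] {t : G} (D : Cen 2 t)
include D

theorem a16_lt {m : ℕ} (hm : m ∈ a16) : m < 192 := (a16_facts.1.2.2.1 m hm).1

/-- The elementary abelian group of order sixteen is its own centraliser. -/
theorem cent_a16 {g : G} (hg : ∀ x ∈ a16, g * D.val x * g⁻¹ = D.val x) :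
    ∃ m ∈ a16, D.val m = g := by
  obtain ⟨-, -, ht, -, -, hc, -⟩ := a16_facts
  have h1 := hg tN ht
  rw [D.val_tau] at h1
  obtain ⟨m, hm, rfl⟩ := D.val_surj g (mul_inv_eq_iff_eq_mul.1 h1)
  exact ⟨m, hc m (mem_els hm) fun a ha =>
    D.mul_val_eq hm (D.a16_lt ha) (mul_inv_eq_iff_eq_mul.1 (hg a ha)), rfl⟩

variable {h : G} (hh : D.Std h)
include hh

/-- The classes separated by the hypotheses. -/
theorem conj_t_iff (h36 : IsConj t (D.val 36)) (h42 : ¬ IsConj t (D.val 42)) {m : ℕ} (hm : m < 192)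
    (ho : orderOf (D.val m) = 2) :
    (IsConj t (D.val m) ↔ m ∈ tcls) ∧ (IsConj (D.val 42) (D.val m) ↔ m ∈ ucls) ∧
      (m ∈ tcls ∨ m ∈ ucls) := by
  obtain ⟨n, hn, hnv, p, hp, hnp⟩ := D.invol_val ho (D.val_comm m hm)
  obtain rfl := D.val_inj n m hn hm hnv
  obtain ⟨e1, e2, e3, e4⟩ := tcls_cases p hp n hnp
  have hc := D.cls_conj hp hnp
  obtain ⟨c1, c2⟩ := D.conj_one hh
  have htrue : n ∈ tcls → IsConj t (D.val n) := fun h' => by
    have hp1 := e1.1 h'
    simp only [List.mem_cons, List.not_mem_nil, or_false] at hp1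
    rcases hp1 with e | e | e | e <;> rw [e] at hc
    · rw [D.val_tau] at hc; exact hc
    · exact (D.conj_v hh).trans hc
    · exact h36.trans hc
    · exact (h36.trans c1).trans hc
  have hu : n ∈ ucls → IsConj (D.val 42) (D.val n) := fun h' => by
    have hp1 := e2.1 h'
    simp only [List.mem_cons, List.not_mem_nil, or_false] at hp1
    rcases hp1 with e | e <;> rw [e] at hc
    exacts [hc, c2.trans hc]
  exact ⟨⟨fun h' => e3.resolve_right fun h'' => h42 (h'.trans (hu h'').symm), htrue⟩,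
    ⟨fun h' => e3.resolve_left fun h'' => h42 ((htrue h'').trans h'.symm), hu⟩, e3⟩

/-- An element of order three commuting with `h`, standard for the commuting coordinates. -/
theorem exists_second (h36 : IsConj t (D.val 36)) (h42 : ¬ IsConj t (D.val 42)) :
    ∃ k, h * k = k * h ∧ (D.twist sndT_facts).Std k := by
  set D0 := D.twist preSnd_facts.1 with hD0
  have hx0 : IsConj t (D0.val vN) := h36.trans (D.clsOf_conj preSnd_facts.2)
  obtain ⟨p, hp, k, hk⟩ := D0.exists_std hx0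
  set D2 := D0.twist (alpha_facts p hp).1 with hD2
  have hval : ∀ m, D2.val m = D.val (alF p m) := fun m => rfl
  have lF : ∀ m, m < 192 → alF p m < 192 := fun m hm => (alpha_inv p hp m (mem_els hm)).2.1
  have hFm := phiT_facts.1
  -- the classes are respected
  have hv : ValidS p := by
    intro r hr hrr hr0
    have hrl := D.rl_lt hr
    have hne : D.val (alF p r) ≠ 1 := fun e => by
      have e' := D2.val_eq_one hrl ((hval r).trans e)
      exact hr0 e'
    have ho : orderOf (D.val (alF p r)) = 2 := by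
      rw [← hval]; exact D2.val_invol hrl hrr hr0
    have hkr : k * D.val (alF p r) * k⁻¹ = D.val (alF p (appN phiT r)) := hk.act r hr
    have ho' : orderOf (D.val (alF p (appN phiT r))) = 2 := by
      rw [← hkr]; exact ((MulAut.conj k).orderOf_eq _).trans ho
    have hc : IsConj (D.val (alF p r)) (D.val (alF p (appN phiT r))) := isConj_iff.2 ⟨k, hkr⟩
    rw [← (D.conj_t_iff hh h36 h42 (lF r hrl) ho).1,
      ← (D.conj_t_iff hh h36 h42 (lF _ (D.rl_lt (hFm r hr))) ho').1]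
    exact ⟨fun e => e.trans hc, fun e => e.trans hc.symm⟩
  obtain ⟨hA, -, -, hAp, hAc, -, hAh, hAs⟩ := a16_facts
  have la : ∀ {m}, m ∈ a16 → m < 192 := fun hm => D.a16_lt hm
  have kact : ∀ x ∈ a16, k * D.val x * k⁻¹ = D.val (actS p x) := fun x hx => by
    obtain ⟨f1, f2, -⟩ := second_facts p hp hv x hx
    have e := hk.act _ f1
    rw [hval, hval, f2] at e
    exact e
  have hact : ∀ x ∈ a16, h * D.val x * h⁻¹ = D.val (appN phiT x) := fun x hx =>
    hh.act x (hAp x hx).2.1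
  have kbij : ∀ x ∈ a16, ∃ y ∈ a16, actS p y = x := fun x hx => by
    refine ⟨actS p (actS p x), (second_facts p hp hv _ (second_facts p hp hv x hx).2.2.2.1).2.2.2.1, ?_⟩
    have m1 := (second_facts p hp hv x hx).2.2.2.1
    have m2 := (second_facts p hp hv _ m1).2.2.2.1
    have m3 := (second_facts p hp hv _ m2).2.2.2.1
    refine D.val_inj _ _ (la m3) (la hx) ?_
    rw [← kact _ m2, ← kact _ m1, ← kact x hx]
    calc k * (k * (k * D.val x * k⁻¹) * k⁻¹) * k⁻¹ = k ^ 3 * D.val x * (k ^ 3)⁻¹ := by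
          simp [pow_succ, mul_assoc]
      _ = _ := by rw [hk.h3]; group
  have hbij : ∀ x ∈ a16, ∃ y ∈ a16, appN phiT y = x := fun x hx => by
    refine ⟨_, (hAp _ (hAp x hx).2.2).2.2, ?_⟩
    have m1 := (hAp x hx).2.2
    have m2 := (hAp _ m1).2.2
    refine D.val_inj _ _ (la (hAp _ m2).2.2) (la hx) ?_
    rw [← hact _ m2, ← hact _ m1, ← hact x hx]
    calc h * (h * (h * D.val x * h⁻¹) * h⁻¹) * h⁻¹ = h ^ 3 * D.val x * (h ^ 3)⁻¹ := by
          simp [pow_succ, mul_assoc]
      _ = _ := by rw [hh.h3]; group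
  -- the commutator centralizes the group of order sixteen
  obtain ⟨e, he, hev⟩ := D.cent_a16 (g := h * k * h⁻¹ * k⁻¹) (fun x hx => by
    obtain ⟨y, hy, rfl⟩ := kbij x hx
    obtain ⟨z, hz, rfl⟩ := hbij y hy
    have m1 := (second_facts p hp hv z hz).2.2.2.1
    calc h * k * h⁻¹ * k⁻¹ * D.val (actS p (appN phiT z)) * (h * k * h⁻¹ * k⁻¹)⁻¹
        = h * k * h⁻¹ * (k⁻¹ * D.val (actS p (appN phiT z)) * k) * h * k⁻¹ * h⁻¹ := by group
      _ = h * k * h⁻¹ * D.val (appN phiT z) * h * k⁻¹ * h⁻¹ := by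
        rw [← kact _ ((hAp z hz).2.2)]; group
      _ = h * k * D.val z * k⁻¹ * h⁻¹ := by rw [← hact z hz]; group
      _ = D.val (appN phiT (actS p z)) := by rw [← hact _ m1, ← kact z hz]; group
      _ = _ := by rw [(second_facts p hp hv z hz).2.2.2.2.1])
  obtain ⟨a, ha, hae⟩ := centralise_facts p hp hv e he
  have hfa := (hAp a ha).2.2
  have aa : ∀ x ∈ a16, (D.val x)⁻¹ = D.val x := fun x hx => inv_eq_of_mul_eq_one_right (by
    rw [← D.val_mul x x (la hx) (la hx), (hAp x hx).1, D.val_zero])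
  have acomm : ∀ x ∈ a16, ∀ y ∈ a16, D.val x * D.val y = D.val y * D.val x := fun x hx y hy =>
    D.val_commute (la hx) (la hy) (hAc x hx y hy)
  set k' := D.val a * k * (D.val a)⁻¹ with hk'
  have hkk : h * k' = k' * h := by
    have h1 : h * k * h⁻¹ = D.val e * k := by rw [hev]; group
    have m1 := (second_facts p hp hv a ha).2.2.2.1
    have m2 := (second_facts p hp hv _ hfa).2.2.2.1
    have e1 : h * k' * h⁻¹ = k' := by
      calc h * k' * h⁻¹ = h * D.val a * h⁻¹ * (h * k * h⁻¹) * (h * D.val a * h⁻¹)⁻¹ := by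
            rw [hk']; group
        _ = D.val (appN phiT a) * D.val e * (k * (D.val (appN phiT a))⁻¹ * k⁻¹) * k := by
            rw [hact a ha, h1]; group
        _ = D.val (appN phiT a) * D.val e * D.val (actS p (appN phiT a)) * k := by
            rw [aa _ hfa, kact _ hfa]
        _ = D.val a * D.val (actS p a) * k := by
            rw [← D.val_mul _ _ (la hfa) (la he), ← D.val_mul _ _ (mulN_lt ..) (la m2), hae,
              D.val_mul _ _ (la ha) (la m1)]
        _ = k' := by rw [← kact a ha, hk', aa a ha]; group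
    rw [mul_inv_eq_iff_eq_mul] at e1
    exact e1
  have k'act : ∀ x ∈ a16, k' * D.val x * k'⁻¹ = D.val (actS p x) := fun x hx => by
    have m1 := (second_facts p hp hv x hx).2.2.2.1
    have ex : (D.val a)⁻¹ * D.val x * D.val a = D.val x := by
      rw [mul_assoc, acomm x hx a ha, inv_mul_cancel_left]
    calc k' * D.val x * k'⁻¹ = D.val a * (k * ((D.val a)⁻¹ * D.val x * D.val a) * k⁻¹) *
          (D.val a)⁻¹ := by rw [hk']; group
      _ = _ := by rw [ex, kact x hx, acomm a ha _ m1, mul_inv_cancel_right]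
  have lal := la ha
  obtain ⟨s2, hs2⟩ : ∃ s2, s2 = cjN 2 a (alF p sN) := ⟨_, rfl⟩
  have hcom : ∀ x ∈ a16, cjN 2 s2 (appN phiT x) = appN phiT (cjN 2 s2 x) ∧ cjN 2 s2 x ∈ a16 ∧
      cjN 2 sN (actS p x) = actS p (cjN 2 sN x) := fun x hx => by
    rw [hs2]; exact commuting_facts p hp hv a ha x hx
  have hls2 : s2 < 192 := by rw [hs2]; exact cjN_lt ..
  have hS : D.val s2 = D.val a * D.val (alF p sN) * (D.val a)⁻¹ := by
    rw [hs2, D.val_cj lal (lF _ D.s_lt)]
  have hS2 : D.val s2 * D.val s2 = 1 := by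
    rw [hS, conj_mul, ← hval, D2.ss]; group
  have hSi : (D.val s2)⁻¹ = D.val s2 := inv_eq_of_mul_eq_one_right hS2
  have hinv : D.val s2 * k' * D.val s2 = k'⁻¹ := by
    have e1 : D.val (alF p sN) * k * D.val (alF p sN) = k⁻¹ := hk.hs
    calc D.val s2 * k' * D.val s2
        = D.val a * (D.val (alF p sN) * k * D.val (alF p sN)) * (D.val a)⁻¹ := by rw [hS, hk']; group
      _ = k'⁻¹ := by rw [e1, hk']; group
  have kfix : ∀ m ∈ a16, k' * D.val m * k'⁻¹ = D.val m → m = 0 := fun m hm hf => by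
    rw [k'act m hm] at hf
    exact (second_facts p hp hv m hm).2.2.2.2.2.1
      (D.val_inj _ _ (la (second_facts p hp hv m hm).2.2.2.1) (la hm) hf)
  have hfix : ∀ m ∈ a16, h * D.val m * h⁻¹ = D.val m → m = 0 := fun m hm hf => by
    rw [hact m hm] at hf
    exact hAh m hm (D.val_inj _ _ (la (hAp m hm).2.2) (la hm) hf)
  -- the involution of the second frame commutes with `h`
  have hc2 : h * D.val s2 * h⁻¹ = D.val s2 := by
    obtain ⟨c, hc, hcv⟩ := D.cent_a16 (g := h * D.val s2 * h⁻¹ * (D.val s2)⁻¹) (fun x hx => by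
      obtain ⟨y, hy, hxy⟩ : ∃ y ∈ a16, cjN 2 s2 (appN phiT y) = x := by
        obtain ⟨f1, f2, -⟩ := hcom x hx
        obtain ⟨y, hy, hy'⟩ := hbij _ f2
        refine ⟨y, hy, D.val_inj _ _ (cjN_lt ..) (la hx) ?_⟩
        rw [hy', D.val_cj hls2 (cjN_lt ..), D.val_cj hls2 (la hx), hSi]
        calc D.val s2 * (D.val s2 * D.val x * D.val s2) * D.val s2
            = D.val s2 * D.val s2 * D.val x * (D.val s2 * D.val s2) := by group
          _ = D.val x := by rw [hS2]; group
      obtain ⟨f1, f2, -⟩ := hcom y hy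
      rw [← hxy]
      calc h * D.val s2 * h⁻¹ * (D.val s2)⁻¹ * D.val (cjN 2 s2 (appN phiT y)) *
            (h * D.val s2 * h⁻¹ * (D.val s2)⁻¹)⁻¹
          = h * D.val s2 * h⁻¹ * D.val (appN phiT y) * h * (D.val s2)⁻¹ * h⁻¹ := by
            rw [D.val_cj hls2 (la (hAp y hy).2.2)]; group
        _ = h * (D.val s2 * D.val y * (D.val s2)⁻¹) * h⁻¹ := by rw [← hact y hy]; group
        _ = _ := by rw [← D.val_cj hls2 (la hy), hact _ f2, f1])
    have hcinv : D.val c * k' * (D.val c)⁻¹ = k' := by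
      have b1 : h * k' * h⁻¹ = k' := by rw [hkk, mul_inv_cancel_right]
      have b2 : h * D.val s2 * h⁻¹ * k' * (h * D.val s2 * h⁻¹) = k'⁻¹ := by
        calc h * D.val s2 * h⁻¹ * k' * (h * D.val s2 * h⁻¹)
            = h * D.val s2 * h⁻¹ * (h * k' * h⁻¹) * (h * D.val s2 * h⁻¹) := by rw [b1]
          _ = h * (D.val s2 * k' * D.val s2) * h⁻¹ := by group
          _ = (h * k' * h⁻¹)⁻¹ := by rw [hinv]; group
          _ = k'⁻¹ := by rw [b1]
      have b3 : D.val s2 * k'⁻¹ * D.val s2 = k' := by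
        rw [← hinv]
        calc D.val s2 * (D.val s2 * k' * D.val s2) * D.val s2
            = D.val s2 * D.val s2 * k' * (D.val s2 * D.val s2) := by group
          _ = k' := by rw [hS2]; group
      have b4 : (h * D.val s2 * h⁻¹)⁻¹ = h * D.val s2 * h⁻¹ := by
        rw [mul_inv_rev, mul_inv_rev, hSi]; group
      have ec : (D.val c)⁻¹ = D.val c := aa c hc
      calc D.val c * k' * (D.val c)⁻¹
          = h * D.val s2 * h⁻¹ * ((D.val s2)⁻¹ * k' * D.val s2) * (h * D.val s2 * h⁻¹)⁻¹ := by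
            rw [hcv]; group
        _ = h * D.val s2 * h⁻¹ * k'⁻¹ * (h * D.val s2 * h⁻¹) := by rw [b4, hSi, hinv]
        _ = (h * D.val s2 * h⁻¹ * k' * (h * D.val s2 * h⁻¹))⁻¹ := by
            rw [show ∀ A B : G, (A * B * A)⁻¹ = A⁻¹ * B⁻¹ * A⁻¹ from fun A B => by group, b4]
        _ = k' := by rw [b2, inv_inv]
    have c0 := kfix c hc (by
      have := mul_inv_eq_iff_eq_mul.1 hcinv
      rw [← this, mul_inv_cancel_right])
    rw [c0, D.val_zero, eq_comm, mul_inv_eq_one] at hcv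
    exact hcv
  have hs' : D.val sN * h * (D.val sN)⁻¹ = h⁻¹ := by rw [D.sinv]; exact hh.hs
  -- the first involution commutes with the second element
  have hc1 : k' * D.val sN * k'⁻¹ = D.val sN := by
    obtain ⟨c, hc, hcv⟩ := D.cent_a16 (g := k' * D.val sN * k'⁻¹ * (D.val sN)⁻¹) (fun x hx => by
      obtain ⟨y, hy, hxy⟩ : ∃ y ∈ a16, cjN 2 sN (actS p y) = x := by
        obtain ⟨y, hy, hy'⟩ := kbij _ (hAs x hx)
        refine ⟨y, hy, D.val_inj _ _ (cjN_lt ..) (la hx) ?_⟩
        rw [hy', D.s_cj (cjN_lt ..), D.s_cj (la hx)]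
        calc D.val sN * (D.val sN * D.val x * D.val sN) * D.val sN
            = D.val sN * D.val sN * D.val x * (D.val sN * D.val sN) := by group
          _ = D.val x := by rw [D.ss]; group
      obtain ⟨-, -, f3⟩ := hcom y hy
      have my := (second_facts p hp hv y hy).2.2.2.1
      rw [← hxy]
      calc k' * D.val sN * k'⁻¹ * (D.val sN)⁻¹ * D.val (cjN 2 sN (actS p y)) *
            (k' * D.val sN * k'⁻¹ * (D.val sN)⁻¹)⁻¹
          = k' * D.val sN * k'⁻¹ * D.val (actS p y) * k' * (D.val sN)⁻¹ * k'⁻¹ := by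
            rw [D.val_cj D.s_lt (la my)]; group
        _ = k' * (D.val sN * D.val y * (D.val sN)⁻¹) * k'⁻¹ := by rw [← k'act y hy]; group
        _ = _ := by rw [← D.val_cj D.s_lt (la hy), k'act _ (hAs y hy), f3])
    have hcfix : h * D.val c * h⁻¹ = D.val c := by
      have b1 : k' * h * k'⁻¹ = h := by rw [← hkk, mul_inv_cancel_right]
      have b2 : (k' * D.val sN * k'⁻¹) * h * (k' * D.val sN * k'⁻¹)⁻¹ = h⁻¹ := by
        calc (k' * D.val sN * k'⁻¹) * h * (k' * D.val sN * k'⁻¹)⁻¹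
            = (k' * D.val sN * k'⁻¹) * (k' * h * k'⁻¹) * (k' * D.val sN * k'⁻¹)⁻¹ := by rw [b1]
          _ = k' * (D.val sN * h * (D.val sN)⁻¹) * k'⁻¹ := by group
          _ = (k' * h * k'⁻¹)⁻¹ := by rw [hs']; group
          _ = h⁻¹ := by rw [b1]
      have b3 : D.val c * h * (D.val c)⁻¹ = h := by
        calc D.val c * h * (D.val c)⁻¹
            = (k' * D.val sN * k'⁻¹) * ((D.val sN)⁻¹ * h * D.val sN) *
              (k' * D.val sN * k'⁻¹)⁻¹ := by rw [hcv]; group
          _ = (k' * D.val sN * k'⁻¹) * h⁻¹ * (k' * D.val sN * k'⁻¹)⁻¹ := by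
            rw [show (D.val sN)⁻¹ * h * D.val sN = h⁻¹ by rw [D.sinv, hh.hs]]
          _ = ((k' * D.val sN * k'⁻¹) * h * (k' * D.val sN * k'⁻¹)⁻¹)⁻¹ := by group
          _ = h := by rw [b2, inv_inv]
      rw [← mul_inv_eq_iff_eq_mul.1 b3, mul_inv_cancel_right]
    rw [hfix c hc hcfix, D.val_zero, eq_comm, mul_inv_eq_one] at hcv
    exact hcv
  -- so both are fixed by the standard action
  have g1 : s2 ∈ rl 2 := by
    obtain ⟨m, hm, hmv⟩ := D.mem_rl (g := D.val s2) (D.val_comm _ hls2) (by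
      have e := conj_comm (h := h) (D.val_comm _ hls2)
      rwa [hc2, hh.ht] at e)
    rwa [← D.val_inj m s2 (D.rl_lt hm) hls2 hmv]
  have g2 : appN phiT s2 = s2 := by
    refine D.val_inj _ _ (D.rl_lt (hFm _ g1)) hls2 ?_
    rw [← hh.act _ g1, hc2]
  set q := alI p (cjN 2 a sN) with hq
  have hql : q < 192 := (alpha_inv p hp _ (mem_els (cjN_lt ..))).1
  have hqv : D2.val q = D.val a * D.val sN * (D.val a)⁻¹ := by
    rw [hval, hq, (alpha_inv p hp _ (mem_els (cjN_lt ..))).2.2.2, D.val_cj lal D.s_lt]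
  have hqk : k * D2.val q * k⁻¹ = D2.val q := by
    rw [hqv]
    calc k * (D.val a * D.val sN * (D.val a)⁻¹) * k⁻¹
        = (D.val a)⁻¹ * (k' * (D.val a * D.val a * D.val sN * (D.val a * D.val a)⁻¹) * k'⁻¹) *
            D.val a := by rw [hk']; group
      _ = (D.val a)⁻¹ * D.val sN * D.val a := by
        rw [show D.val a * D.val a = 1 by rw [← D.val_mul a a lal lal, (hAp a ha).1, D.val_zero]]
        simp only [one_mul, inv_one, mul_one]
        rw [hc1]
      _ = _ := by rw [aa a ha]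
  have g3 : q ∈ rl 2 := by
    obtain ⟨m, hm, hmv⟩ := D2.mem_rl (g := D2.val q) (D2.val_comm _ hql) (by
      have e := conj_comm (h := k) (D2.val_comm _ hql)
      rwa [hqk, hk.ht] at e)
    rwa [← D2.val_inj m q (D2.rl_lt hm) hql hmv]
  have g4 : appN phiT q = q := by
    refine D2.val_inj _ _ (D2.rl_lt (hFm _ g3)) hql ?_
    rw [← hk.act _ g3, hqk]
  rw [hs2] at g1 g2 hinv
  obtain ⟨G1, G2⟩ := good_cases p hp hv a ha g1 g2 g3 g4
  have hts := fun m (hm : m ∈ rl 2) => (show ∀ m, (D.twist sndT_facts).val m = D.val (appN sndT.1 m)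
    from fun _ => rfl) m
  have act' : ∀ m ∈ rl 2, k' * D.val (appN sndT.1 m) * k'⁻¹ = D.val (appN sndT.1 (appN phiT m)) := by
    intro m hm
    obtain ⟨n, hn, e1, e2⟩ := G2 m hm
    rw [e1, e2, D.val_cj lal (lF _ (D.rl_lt hn)), D.val_cj lal (lF _ (D.rl_lt (hFm n hn)))]
    have e := hk.act n hn
    rw [hval, hval] at e
    rw [← e, hk']; group
  refine ⟨k', hkk, ⟨by rw [hk', conj_pow, hk.h3, mul_one, mul_inv_cancel], ?_, ?_⟩, ?_, act'⟩
  · have := act' tN (rl_facts 2 D.hkr).2.2.1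
    rwa [phiT_facts.2.1, sndT_facts.2.2, D.val_tau] at this
  · have := act' vN (rl_facts 2 D.hkr).2.2.2.1
    rwa [phiT_facts.2.2.1] at this
  · show D.val (appN sndT.1 sN) * k' * D.val (appN sndT.1 sN) = k'⁻¹
    rw [G1]; exact hinv

end Cen

end CfsgLib.Ext32
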