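import Cfsg.Agent.Lib.Ext32.Model
import Cfsg.Agent.Lib.U42.Fusion

/-!
# An involution whose centraliser is given by one of the models
-/

set_option autoImplicit false
set_option linter.unusedSectionVars false
set_option maxRecDepth 100000
set_option maxHeartbeats 1000000

namespace CfsgLib.Ext32

open CfsgLib.U42 (conj_comm)

universe u

/-- the elements of a model -/
abbrev els : List Nat := List.range 192

theorem mem_els {m : ℕ} (hm : m < 192) : m ∈ els := List.mem_range.2 hm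

theorem els_lt {m : ℕ} (hm : m ∈ els) : m < 192 := List.mem_range.1 hm

theorem mulN_lt (k m n : ℕ) : mulN k m n < 192 := by
  have hq : ∀ a b, qMul a b < 32 := fun a b => Nat.mod_lt _ (by norm_num)
  have key : ∀ w i j : ℕ, w < 32 → w * 6 + i % 3 * 2 + j % 2 < 192 := fun w i j hw => by omega
  unfold mulN
  simp only
  refine key _ _ _ ?_
  generalize (m % 2 == 1 && n % 2 == 1 && k % 2 == 1) = c
  cases c <;> exact hq _ _

theorem invN_lt' : ∀ k ∈ List.range 4, ∀ m ∈ els, invN k m < 192 ∧ mulN k m (invN k m) = 0 ∧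
    mulN k 0 m = m ∧ mulN k m 0 = m ∧ mulN k m tN = mulN k tN m := by decide +kernel

theorem invN_lt {k m : ℕ} (hk : k < 4) (hm : m < 192) : invN k m < 192 :=
  (invN_lt' k (List.mem_range.2 hk) m (mem_els hm)).1

theorem cjN_lt (k n m : ℕ) : cjN k n m < 192 := mulN_lt ..

theorem powN_lt (k m : ℕ) : ∀ i, powN k m i < 192
  | 0 => by norm_num [powN]
  | _ + 1 => mulN_lt ..

/-- the classes of involutions of a model -/
def clsL (k : ℕ) : List (Nat × List Nat) := classTbl.getD k []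

/-- the class with a given representative -/
def clsOf (k a : ℕ) : List Nat := (((clsL k).find? fun p => p.1 == a).map Prod.snd).getD []

theorem class_lt : ∀ k ∈ List.range 4, ∀ p ∈ clsL k, p.1 < 192 ∧ ∀ m ∈ p.2, m < 192 := by
  decide +kernel

theorem class_invol : ∀ k ∈ List.range 4, ∀ p ∈ clsL k, clsOf k p.1 = p.2 ∧ p.1 ∈ p.2 ∧
    ∀ m ∈ p.2, mulN k m m = 0 ∧ m ≠ 0 := by decide +kernel

theorem invol_cases : ∀ k ∈ List.range 4, ∀ m ∈ els, mulN k m m = 0 →
    m = 0 ∨ ∃ p ∈ clsL k, m ∈ p.2 := by decide +kernel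

theorem class_conj : ∀ k ∈ List.range 4, ∀ p ∈ clsL k, ∀ m ∈ p.2,
    ∃ n ∈ els, cjN k n p.1 = m := by decide +kernel

/-- The list is a subgroup of the model. -/
abbrev IsSub (k : ℕ) (l : List ℕ) : Prop :=
  l.Nodup ∧ 0 ∈ l ∧ (∀ a ∈ l, a < 192 ∧ invN k a ∈ l) ∧ ∀ a ∈ l, ∀ b ∈ l, mulN k a b ∈ l

/-- The centraliser of the involution `t` is given by the model of type `k`. -/
structure Cen (k : ℕ) {G : Type u} [Group G] (t : G) where
  hk : k < 4
  ord : orderOf t = 2
  val : ℕ → G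
  val_mul : ∀ m n, m < 192 → n < 192 → val (mulN k m n) = val m * val n
  val_comm : ∀ m, m < 192 → val m * t = t * val m
  val_inj : ∀ m n, m < 192 → n < 192 → val m = val n → m = n
  val_surj : ∀ g, g * t = t * g → ∃ m < 192, val m = g
  val_tau : val tN = t

namespace Cen

variable {k : ℕ} {G : Type u} [Group G] {t : G} (D : Cen k t)
include D

theorem hkr : k ∈ List.range 4 := List.mem_range.2 D.hk

theorem tt : t * t = 1 := by rw [← pow_two, ← D.ord, pow_orderOf_eq_one]

theorem tinv : t⁻¹ = t := inv_eq_of_mul_eq_one_right D.tt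

theorem val_zero : D.val 0 = 1 := by
  have h := D.val_mul 0 0 (by norm_num) (by norm_num)
  rw [(invN_lt' k D.hkr 0 (mem_els (by norm_num))).2.2.1] at h
  exact left_eq_mul.1 h

theorem val_inv {m : ℕ} (hm : m < 192) : D.val (invN k m) = (D.val m)⁻¹ := by
  refine eq_inv_of_mul_eq_one_right ?_
  rw [← D.val_mul _ _ hm (invN_lt D.hk hm), (invN_lt' k D.hkr m (mem_els hm)).2.1, D.val_zero]

theorem val_cj {n m : ℕ} (hn : n < 192) (hm : m < 192) :
    D.val (cjN k n m) = D.val n * D.val m * (D.val n)⁻¹ := by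
  rw [cjN, D.val_mul _ _ (mulN_lt ..) (invN_lt D.hk hn), D.val_mul _ _ hn hm, D.val_inv hn]

theorem val_pow {m : ℕ} (hm : m < 192) : ∀ i, D.val (powN k m i) = D.val m ^ i
  | 0 => by rw [powN, pow_zero, D.val_zero]
  | i + 1 => by rw [powN, D.val_mul _ _ (powN_lt ..) hm, val_pow hm i, pow_succ]

theorem val_eq_one {m : ℕ} (hm : m < 192) (h : D.val m = 1) : m = 0 :=
  D.val_inj m 0 hm (by norm_num) (h.trans D.val_zero.symm)

theorem val_commute {m n : ℕ} (hm : m < 192) (hn : n < 192) (h : mulN k m n = mulN k n m) :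
    D.val m * D.val n = D.val n * D.val m := by
  rw [← D.val_mul m n hm hn, ← D.val_mul n m hn hm, h]

theorem mul_val_eq {m n : ℕ} (hm : m < 192) (hn : n < 192)
    (h : D.val m * D.val n = D.val n * D.val m) : mulN k m n = mulN k n m :=
  D.val_inj _ _ (mulN_lt ..) (mulN_lt ..) (by
    rw [D.val_mul m n hm hn, D.val_mul n m hn hm, h])

theorem val_invol {m : ℕ} (hm : m < 192) (h : mulN k m m = 0) (h0 : m ≠ 0) :
    orderOf (D.val m) = 2 := by
  refine orderOf_eq_prime ?_ fun e => h0 (D.val_eq_one hm e)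
  rw [pow_two, ← D.val_mul m m hm hm, h, D.val_zero]

theorem val_sq {m : ℕ} (hm : m < 192) (h : D.val m * D.val m = 1) : mulN k m m = 0 :=
  D.val_eq_one (mulN_lt ..) (by rw [D.val_mul m m hm hm, h])

theorem isConj_cj {m : ℕ} (hm : m < 192) {n : ℕ} (hn : n < 192) {m' : ℕ} (h : cjN k n m = m') :
    IsConj (D.val m) (D.val m') :=
  isConj_iff.2 ⟨D.val n, by rw [← D.val_cj hn hm, h]⟩

theorem cls_conj {p : Nat × List Nat} (hp : p ∈ clsL k) {m : ℕ} (hm : m ∈ p.2) :
    IsConj (D.val p.1) (D.val m) := by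
  obtain ⟨n, hn, e⟩ := class_conj k D.hkr p hp m hm
  exact D.isConj_cj (class_lt k D.hkr p hp).1 (els_lt hn) e

/-- An involution commuting with `t` lies in one of the classes of the model. -/
theorem invol_val {u : G} (hu : orderOf u = 2) (hc : u * t = t * u) :
    ∃ m < 192, D.val m = u ∧ ∃ p ∈ clsL k, m ∈ p.2 := by
  obtain ⟨m, hm, rfl⟩ := D.val_surj u hc
  refine ⟨m, hm, rfl, ?_⟩
  rcases invol_cases k D.hkr m (mem_els hm) (D.val_sq hm (by
    rw [← pow_two, ← hu, pow_orderOf_eq_one])) with rfl | h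
  · rw [D.val_zero, orderOf_one] at hu
    norm_num at hu
  · exact h

theorem mem_cent_iff {g : G} : g ∈ Subgroup.centralizer ({t} : Set G) ↔
    ∃ m < 192, D.val m = g :=
  ⟨fun hg => D.val_surj g (Subgroup.mem_centralizer_singleton_iff.1 hg),
    fun ⟨m, hm, e⟩ => Subgroup.mem_centralizer_singleton_iff.2 (e ▸ D.val_comm m hm)⟩

/-- The subgroup of a list. -/
def grp {l : List ℕ} (h : IsSub k l) : Subgroup G where
  carrier := {g | ∃ m ∈ l, D.val m = g}
  one_mem' := ⟨0, h.2.1, D.val_zero⟩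
  mul_mem' := by
    rintro a b ⟨m, hm, rfl⟩ ⟨n, hn, rfl⟩
    exact ⟨mulN k m n, h.2.2.2 m hm n hn, D.val_mul m n (h.2.2.1 m hm).1 (h.2.2.1 n hn).1⟩
  inv_mem' := by
    rintro a ⟨m, hm, rfl⟩
    exact ⟨invN k m, (h.2.2.1 m hm).2, D.val_inv (h.2.2.1 m hm).1⟩

theorem card_image {l : List ℕ} (hlt : ∀ m ∈ l, m < 192) (hnd : l.Nodup) :
    Nat.card {g : G // ∃ m ∈ l, D.val m = g} = l.length := by
  classical
  have e : {m // m ∈ l} ≃ {g : G // ∃ m ∈ l, D.val m = g} :=
    Equiv.ofBijective (fun m => ⟨D.val m.1, m.1, m.2, rfl⟩)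
      ⟨fun a b h => Subtype.ext (D.val_inj _ _ (hlt _ a.2) (hlt _ b.2) (congrArg Subtype.val h)),
        fun ⟨g, m, hm, e⟩ => ⟨⟨m, hm⟩, Subtype.ext e⟩⟩
  rw [← Nat.card_congr e, Nat.card_eq_fintype_card,
    Fintype.card_of_subtype l.toFinset (fun x => List.mem_toFinset),
    List.toFinset_card_of_nodup hnd]

theorem card_grp {l : List ℕ} (h : IsSub k l) : Nat.card (D.grp h) = l.length :=
  D.card_image (fun m hm => (h.2.2.1 m hm).1) h.1

theorem mem_grp {l : List ℕ} (h : IsSub k l) {m : ℕ} (hm : m < 192) :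
    D.val m ∈ D.grp h ↔ m ∈ l :=
  ⟨fun ⟨n, hn, e⟩ => D.val_inj n m (h.2.2.1 n hn).1 hm e ▸ hn, fun hm' => ⟨m, hm', rfl⟩⟩

theorem card_cent : Nat.card (Subgroup.centralizer ({t} : Set G)) = 192 := by
  have h := D.card_image (l := els) (fun m h => List.mem_range.1 h) List.nodup_range
  rw [List.length_range] at h
  rw [← h]
  exact Nat.card_congr (Equiv.subtypeEquivRight fun g => ⟨fun hg => by
    obtain ⟨m, hm, e⟩ := D.mem_cent_iff.1 hg
    exact ⟨m, mem_els hm, e⟩, fun ⟨m, hm, e⟩ => D.mem_cent_iff.2 ⟨m, els_lt hm, e⟩⟩)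

end Cen

/-! ### Changes of coordinates -/

/-- the multipliers through which automorphisms are checked -/
def gset : List Nat := (List.range 32).map (6 * ·) ++ [0, 2, 4, 1]

/-- The pair is an automorphism of the model, with its inverse, fixing `t`. -/
abbrev IsAut (k : ℕ) (p : Nat × Nat) : Prop :=
  (∀ m ∈ els, appN p.1 m < 192 ∧ appN p.2 m < 192 ∧ appN p.1 (appN p.2 m) = m ∧
    appN p.2 (appN p.1 m) = m) ∧
  (∀ m ∈ els, ∀ g ∈ gset, appN p.1 (mulN k m g) = mulN k (appN p.1 m) (appN p.1 g)) ∧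
  appN p.1 tN = tN

theorem normal_form : ∀ k ∈ List.range 4, ∀ n ∈ els,
    n = mulN k (mulN k (6 * (n / 6)) (n / 2 % 3 * 2)) (n % 2) := by decide +kernel

theorem gset_lt : ∀ g ∈ gset, g < 192 := by decide +kernel

namespace Cen

variable {k : ℕ} {G : Type u} [Group G] {t : G} (D : Cen k t)

/-- A change of coordinates. -/
def twist {p : Nat × Nat} (hp : IsAut k p) : Cen k t where
  hk := D.hk
  ord := D.ord
  val m := D.val (appN p.1 m)
  val_mul := by
    have f := fun m (hm : m < 192) => hp.1 m (mem_els hm)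
    have one : ∀ m, m < 192 → ∀ g ∈ gset,
        D.val (appN p.1 (mulN k m g)) = D.val (appN p.1 m) * D.val (appN p.1 g) := fun m hm g hg => by
      rw [hp.2.1 m (mem_els hm) g hg, D.val_mul _ _ (f m hm).1 (f g (gset_lt g hg)).1]
    intro m n hm hn
    obtain ⟨ha, hb, hc⟩ : 6 * (n / 6) ∈ gset ∧ n / 2 % 3 * 2 ∈ gset ∧ n % 2 ∈ gset := by
      refine ⟨List.mem_append_left _ (List.mem_map.2 ⟨n / 6, List.mem_range.2 (by omega), rfl⟩),
        List.mem_append_right _ ?_, List.mem_append_right _ ?_⟩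
      · have : n / 2 % 3 < 3 := Nat.mod_lt _ (by norm_num)
        interval_cases n / 2 % 3 <;> simp
      · have : n % 2 < 2 := Nat.mod_lt _ (by norm_num)
        interval_cases n % 2 <;> simp
    have la := gset_lt _ ha
    have lb := gset_lt _ hb
    have lc := gset_lt _ hc
    have e : mulN k m n = mulN k (mulN k (mulN k m (6 * (n / 6))) (n / 2 % 3 * 2)) (n % 2) := by
      refine D.val_inj _ _ (mulN_lt ..) (mulN_lt ..) ?_
      conv_lhs => rw [normal_form k D.hkr n (mem_els hn)]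
      simp only [D.val_mul, mulN_lt, hm, la, lb, lc, mul_assoc]
    conv_rhs => rw [normal_form k D.hkr n (mem_els hn)]
    simp only [e, one _ (mulN_lt ..) _ hc, one _ (mulN_lt ..) _ hb, one _ hm _ ha, one _ la _ hb,
      mul_assoc]
  val_comm m hm := D.val_comm _ (hp.1 m (mem_els hm)).1
  val_inj m n hm hn h := by
    have e := D.val_inj _ _ (hp.1 m (mem_els hm)).1 (hp.1 n (mem_els hn)).1 h
    rw [← (hp.1 m (mem_els hm)).2.2.2, e, (hp.1 n (mem_els hn)).2.2.2]
  val_surj g hg := by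
    obtain ⟨m, hm, rfl⟩ := D.val_surj g hg
    obtain ⟨-, f2, f3, -⟩ := hp.1 m (mem_els hm)
    exact ⟨appN p.2 m, f2, by rw [f3]⟩
  val_tau := by rw [hp.2.2]; exact D.val_tau

theorem twist_val {p : Nat × Nat} (hp : IsAut k p) (m : ℕ) :
    (D.twist hp).val m = D.val (appN p.1 m) := rfl

end Cen

end CfsgLib.Ext32
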