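import Cfsg.Agent.Lib.Ext32.Act

/-!
# The standard element of order three in the alternating type

A conjugate of the element of order three is inverted by the involution `36`, and after a change
of coordinates its action is the standard one.
-/

set_option autoImplicit false
set_option linter.unusedSectionVars false
set_option maxRecDepth 100000
set_option maxHeartbeats 2000000

namespace CfsgLib.Ext32

open CfsgLib.U42 (conj_comm)

universe u

/-- the involution exchanging `30` and its product with `t` -/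
def sN : Nat := 36

theorem sN_facts : mulN 2 sN sN = 0 ∧ cjN 2 sN vN = tvN 2 ∧ cjN 2 sN (tvN 2) = vN ∧
    (∀ m ∈ rl 2, cjN 2 sN m ∈ rl 2) ∧ cjN 2 sN tN = tN := by decide +kernel

theorem inverter_cases : ∀ F ∈ cands, ∀ r ∈ rl 2,
    appN F (cjN 2 sN r) = r → mulN 2 (mulN 2 (appN F (appN F r)) (appN F r)) r = 0 →
    (∀ a ∈ rl 2, appN F (cjN 2 sN (appN F a)) = cjN 2 r (cjN 2 sN a)) →
    ∃ a ∈ rl 2,
      r = mulN 2 (mulN 2 (appN F (mulN 2 (invN 2 (cjN 2 sN a)) a)) (invN 2 a)) (cjN 2 sN a) := by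
  decide +kernel

/-- The change of coordinates of a pair in the table. -/
def flipP (p : Nat × Nat) : Nat × Nat := (p.2, p.1)

theorem alpha_facts : ∀ p ∈ alphas, IsAut 2 (flipP p) ∧ appN p.2 vN = vN ∧ appN p.2 sN = sN ∧
    appN p.2 (tvN 2) = tvN 2 ∧ ∀ m ∈ rl 2, appN p.2 m ∈ rl 2 := by decide +kernel

theorem normal_cases : ∀ F ∈ cands, (∀ a ∈ rl 2, appN F (cjN 2 sN (appN F a)) = cjN 2 sN a) →
    ∃ p ∈ alphas, ∀ m ∈ rl 2, appN F (appN p.2 m) = appN p.2 (appN phiT m) := by decide +kernel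

theorem phiT_facts : (∀ m ∈ rl 2, appN phiT m ∈ rl 2) ∧ appN phiT tN = vN ∧
    appN phiT vN = tvN 2 ∧ appN phiT (tvN 2) = tN := by decide +kernel

namespace Cen

variable {G : Type u} [Group G] [Finite G] {t : G} (D : Cen 2 t)

/-- The standard element of order three. -/
structure Std (h : G) : Prop extends D.Std0 h where
  hs : D.val sN * h * D.val sN = h⁻¹
  act : ∀ m ∈ rl 2, h * D.val m * h⁻¹ = D.val (appN phiT m)

include D

theorem s_lt : sN < 192 := by norm_num [sN]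

theorem ss : D.val sN * D.val sN = 1 := by
  rw [← D.val_mul _ _ D.s_lt D.s_lt, sN_facts.1, D.val_zero]

theorem sinv : (D.val sN)⁻¹ = D.val sN := inv_eq_of_mul_eq_one_right D.ss

theorem s_cj {m : ℕ} (hm : m < 192) : D.val (cjN 2 sN m) = D.val sN * D.val m * D.val sN := by
  rw [D.val_cj D.s_lt hm, D.sinv]

theorem s_fix : D.val sN * t * D.val sN = t ∧ D.val sN * D.val vN * D.val sN = D.val (tvN 2) ∧
    D.val sN * D.val (tvN 2) * D.val sN = D.val vN := by
  refine ⟨?_, ?_, ?_⟩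
  · rw [D.val_comm _ D.s_lt, mul_assoc, D.ss, mul_one]
  · rw [← D.s_cj D.v_lt, sN_facts.2.1]
  · rw [← D.s_cj D.tv_lt, sN_facts.2.2.1]

variable {h : G} (hh : D.Std0 h)
include hh

/-- A conjugate of the element is inverted by `36`. -/
theorem Std0.exists_inverted : ∃ k, D.Std0 k ∧ D.val sN * k * D.val sN = k⁻¹ := by
  obtain ⟨F, hF, hFa⟩ := hh.exists_act
  obtain ⟨s1, s2, s3⟩ := D.s_fix
  have hi2 : h⁻¹ = h * h := inv_eq_of_mul_eq_one_right (by rw [← hh.h3]; simp [pow_succ, mul_assoc])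
  set s := D.val sN with hs
  have hss : s * s = 1 := D.ss
  have hsi : s⁻¹ = s := D.sinv
  have hq1 : h * (s * h * s) * t * (h * (s * h * s))⁻¹ = t := by
    calc h * (s * h * s) * t * (h * (s * h * s))⁻¹
        = h * (s * (h * (s * t * s⁻¹) * h⁻¹) * s⁻¹) * h⁻¹ := by group
      _ = t := by rw [hsi, s1, hh.ht, s2, hh.htv D]
  have hq2 : h * (s * h * s) * D.val vN * (h * (s * h * s))⁻¹ = D.val vN := by
    calc h * (s * h * s) * D.val vN * (h * (s * h * s))⁻¹
        = h * (s * (h * (s * D.val vN * s⁻¹) * h⁻¹) * s⁻¹) * h⁻¹ := by group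
      _ = D.val vN := by rw [hsi, s2, hh.htv D, s1, hh.ht]
  obtain ⟨r, hr, hrv⟩ := D.mem_rl (mul_inv_eq_iff_eq_mul.1 hq1) (mul_inv_eq_iff_eq_mul.1 hq2)
  have hrl : r < 192 := D.rl_lt hr
  have sc : ∀ a, a ∈ rl 2 → D.val (cjN 2 sN a) = s * D.val a * s := fun a ha => D.s_cj (D.rl_lt ha)
  have hshs : s * h * s = h⁻¹ * D.val r := by rw [hrv]; group
  have hFm := cands_rl F hF
  have hsm := sN_facts.2.2.2.1
  obtain ⟨a, ha, hae⟩ := inverter_cases F hF r hr
    (D.val_inj _ _ (D.rl_lt (hFm _ (hsm r hr))) hrl (by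
      rw [← hFa _ (hsm r hr), sc r hr, hrv]
      calc h * (s * (h * (s * h * s)) * s) * h⁻¹ = h * (s * h * s) * (h * (s * s)) * h⁻¹ := by group
        _ = h * (s * h * s) := by rw [hss]; group))
    (D.val_eq_one (mulN_lt ..) (by
      have e3 : (s * h * s) ^ 3 = 1 := by
        calc (s * h * s) ^ 3 = s * h * (s * s) * h * (s * s) * h * s := by
              simp [pow_succ, mul_assoc]
          _ = s * (h ^ 3) * s := by rw [hss]; simp [pow_succ, mul_assoc]
          _ = 1 := by rw [hh.h3, mul_one, hss]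
      rw [D.val_mul _ _ (mulN_lt ..) hrl,
        D.val_mul _ _ (D.rl_lt (hFm _ (hFm r hr))) (D.rl_lt (hFm r hr)), ← hFa _ (hFm r hr),
        ← hFa _ hr, ← e3, hshs]
      have eh : h * h = h⁻¹ := hi2.symm
      calc h * (h * D.val r * h⁻¹) * h⁻¹ * (h * D.val r * h⁻¹) * D.val r
          = h * h * D.val r * (h * h)⁻¹ * (h * D.val r * h⁻¹) * D.val r := by group
        _ = h⁻¹ * D.val r * (h * h) * D.val r * h⁻¹ * D.val r := by conv_lhs => rw [eh]
                                                                    group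
        _ = h⁻¹ * D.val r * h⁻¹ * D.val r * h⁻¹ * D.val r := by rw [eh]
        _ = (h⁻¹ * D.val r) ^ 3 := by simp [pow_succ, mul_assoc]))
    (fun b hb => by
      refine D.val_inj _ _ (D.rl_lt (hFm _ (hsm _ (hFm b hb)))) (cjN_lt ..) ?_
      rw [← hFa _ (hsm _ (hFm b hb)), sc _ (hFm b hb), ← hFa b hb,
        D.val_cj hrl (cjN_lt ..), sc b hb, hrv]
      calc h * (s * (h * D.val b * h⁻¹) * s) * h⁻¹
          = h * (s * h * s) * (s⁻¹ * D.val b * s⁻¹) * (s * h⁻¹ * s) * h⁻¹ := by group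
        _ = h * (s * h * s) * (s * D.val b * s) * (s⁻¹ * h⁻¹ * s⁻¹) * h⁻¹ := by rw [hsi]
        _ = _ := by group)
  have hal := D.rl_lt ha
  set a' := cjN 2 sN a with ha'
  have ha'r : a' ∈ rl 2 := hsm a ha
  have hkey : D.val r = h * ((D.val a')⁻¹ * D.val a) * h⁻¹ * (D.val a)⁻¹ * D.val a' := by
    have hm := D.hR.2.2.2 _ (D.hR.2.2.1 a' ha'r).2 a ha
    conv_lhs => rw [hae]
    rw [D.val_mul _ _ (mulN_lt ..) (D.rl_lt ha'r),
      D.val_mul _ _ (D.rl_lt (hFm _ hm)) (invN_lt D.hk hal), ← hFa _ hm,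
      D.val_mul _ _ (invN_lt D.hk (D.rl_lt ha'r)) hal,
      D.val_inv hal, D.val_inv (D.rl_lt ha'r)]
  obtain ⟨c1, c2⟩ := D.rl_comm ha
  have cf : ∀ {b : G}, D.val a * b = b * D.val a → (D.val a)⁻¹ * b * D.val a = b := fun e => by
    rw [mul_assoc, ← e, inv_mul_cancel_left]
  have c3 : D.val a * D.val (tvN 2) = D.val (tvN 2) * D.val a := by
    rw [D.val_tv]
    exact ((show Commute (D.val a) t from c1).mul_right c2).eq
  refine ⟨D.val a * h * (D.val a)⁻¹, ⟨by rw [conj_pow, hh.h3, mul_one, mul_inv_cancel], ?_, ?_⟩, ?_⟩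
  · calc D.val a * h * (D.val a)⁻¹ * t * (D.val a * h * (D.val a)⁻¹)⁻¹
        = D.val a * (h * ((D.val a)⁻¹ * t * D.val a) * h⁻¹) * (D.val a)⁻¹ := by group
      _ = _ := by rw [cf c1, hh.ht, c2, mul_inv_cancel_right]
  · calc D.val a * h * (D.val a)⁻¹ * D.val vN * (D.val a * h * (D.val a)⁻¹)⁻¹
        = D.val a * (h * ((D.val a)⁻¹ * D.val vN * D.val a) * h⁻¹) * (D.val a)⁻¹ := by group
      _ = _ := by rw [cf c2, hh.hx, c3, mul_inv_cancel_right]
  · calc s * (D.val a * h * (D.val a)⁻¹) * s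
        = s * D.val a * s⁻¹ * (s * h * s⁻¹) * (s * D.val a * s⁻¹)⁻¹ * (s * s) := by group
      _ = D.val a' * (h⁻¹ * D.val r) * (D.val a')⁻¹ := by rw [hsi, ← sc a ha, hshs, hss, mul_one]
      _ = (D.val a * h * (D.val a)⁻¹)⁻¹ := by rw [hkey]; group

omit hh

/-- Coordinates with a standard element of order three. -/
theorem exists_std (hx : IsConj t (D.val vN)) :
    ∃ (p : Nat × Nat) (hp : p ∈ alphas) (h : G), (D.twist (alpha_facts p hp).1).Std h := by
  obtain ⟨h0, hh0⟩ := D.exists_std0 hx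
  obtain ⟨h, hh, hs⟩ := hh0.exists_inverted D
  obtain ⟨F, hF, hFa⟩ := hh.exists_act
  have hFm := cands_rl F hF
  have hsm := sN_facts.2.2.2.1
  obtain ⟨p, hp, hpe⟩ := normal_cases F hF (fun a ha => by
    refine D.val_inj _ _ (D.rl_lt (hFm _ (hsm _ (hFm a ha)))) (cjN_lt ..) ?_
    rw [← hFa _ (hsm _ (hFm a ha)), D.s_cj (D.rl_lt (hFm a ha)), ← hFa a ha, D.s_cj (D.rl_lt ha)]
    have e1 : h * D.val sN * h = D.val sN := by
      calc h * D.val sN * h = h * (D.val sN * h * D.val sN) * (D.val sN)⁻¹ := by group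
        _ = D.val sN := by rw [hs, D.sinv]; group
    calc h * (D.val sN * (h * D.val a * h⁻¹) * D.val sN) * h⁻¹
        = h * D.val sN * h * D.val a * (h⁻¹ * (D.val sN)⁻¹⁻¹ * h⁻¹) := by group
      _ = h * D.val sN * h * D.val a * (h * (D.val sN)⁻¹ * h)⁻¹ := by group
      _ = D.val sN * D.val a * D.val sN := by rw [D.sinv, e1, D.sinv])
  obtain ⟨hq, fv, fs, ftv, fr⟩ := alpha_facts p hp
  refine ⟨p, hp, h, ⟨hh.h3, ?_, ?_⟩, ?_, fun m hm => ?_⟩
  · show h * t * h⁻¹ = D.val (appN p.2 vN)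
    rw [fv, hh.ht]
  · show h * D.val (appN p.2 vN) * h⁻¹ = D.val (appN p.2 (tvN 2))
    rw [fv, ftv, hh.hx]
  · show D.val (appN p.2 sN) * h * D.val (appN p.2 sN) = h⁻¹
    rw [fs, hs]
  · show h * D.val (appN p.2 m) * h⁻¹ = D.val (appN p.2 (appN phiT m))
    rw [hFa _ (fr m hm), hpe m hm]

end Cen

end CfsgLib.Ext32
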