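import Mathlib

/-!
# Permutations of eight points for the generators
-/

set_option autoImplicit false

namespace CfsgLib.Ext32

/-- the generators and their inverses as lists of images -/
def imgT : List (List Nat) := [[2, 3, 4, 5, 6, 7, 0, 1], [6, 7, 0, 1, 2, 3, 4, 5], [3, 2, 6, 7, 1, 0, 4, 5], [5, 4, 1, 0, 6, 7, 2, 3], [1, 6, 2, 5, 3, 4, 0, 7], [6, 0, 2, 4, 5, 3, 1, 7], [1, 6, 2, 4, 5, 3, 0, 7], [6, 0, 2, 5, 3, 4, 1, 7]]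

/-- words moving the central involution to all of its conjugates -/
def orbitW : List (List Nat) := [
  [],
  [4],
  [5],
  [6],
  [7],
  [0, 4],
  [6, 4],
  [7, 4],
  [0, 5],
  [6, 5],
  [7, 5],
  [0, 6],
  [1, 6],
  [2, 0, 4],
  [3, 0, 4],
  [6, 0, 4],
  [7, 0, 4],
  [0, 6, 4],
  [1, 6, 4],
  [6, 0, 5],
  [7, 0, 5],
  [0, 6, 5],
  [1, 6, 5],
  [2, 0, 6],
  [4, 0, 6],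
  [5, 0, 6],
  [2, 1, 6],
  [4, 1, 6],
  [5, 1, 6],
  [6, 2, 0, 4],
  [7, 2, 0, 4],
  [6, 3, 0, 4],
  [7, 3, 0, 4],
  [0, 6, 0, 4],
  [1, 6, 0, 4],
  [0, 7, 0, 4],
  [1, 7, 0, 4],
  [2, 0, 6, 4],
  [3, 0, 6, 4],
  [4, 0, 6, 4],
  [5, 0, 6, 4],
  [6, 0, 6, 4],
  [7, 0, 6, 4],
  [2, 1, 6, 4],
  [3, 1, 6, 4],
  [4, 1, 6, 4],
  [5, 1, 6, 4],
  [6, 1, 6, 4],
  [7, 1, 6, 4],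
  [4, 0, 6, 5],
  [5, 0, 6, 5],
  [6, 0, 6, 5],
  [7, 0, 6, 5],
  [4, 1, 6, 5],
  [5, 1, 6, 5],
  [6, 1, 6, 5],
  [7, 1, 6, 5],
  [4, 2, 0, 6],
  [5, 2, 0, 6],
  [4, 2, 1, 6],
  [5, 2, 1, 6],
  [4, 0, 6, 0, 4],
  [5, 0, 6, 0, 4],
  [2, 1, 6, 0, 4],
  [4, 1, 6, 0, 4],
  [5, 1, 6, 0, 4],
  [2, 0, 7, 0, 4],
  [4, 0, 7, 0, 4],
  [5, 0, 7, 0, 4],
  [4, 1, 7, 0, 4],
  [5, 1, 7, 0, 4],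
  [4, 2, 0, 6, 4],
  [5, 2, 0, 6, 4],
  [4, 3, 0, 6, 4],
  [5, 3, 0, 6, 4],
  [6, 4, 0, 6, 4],
  [7, 4, 0, 6, 4],
  [6, 5, 0, 6, 4],
  [7, 5, 0, 6, 4],
  [0, 6, 0, 6, 4],
  [2, 7, 0, 6, 4],
  [4, 2, 1, 6, 4],
  [5, 2, 1, 6, 4],
  [4, 3, 1, 6, 4],
  [5, 3, 1, 6, 4],
  [6, 4, 1, 6, 4],
  [7, 4, 1, 6, 4],
  [6, 5, 1, 6, 4],
  [7, 5, 1, 6, 4],
  [6, 4, 0, 6, 5],
  [7, 4, 0, 6, 5],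
  [6, 5, 0, 6, 5],
  [7, 5, 0, 6, 5],
  [6, 4, 1, 6, 5],
  [7, 4, 1, 6, 5],
  [6, 5, 1, 6, 5],
  [7, 5, 1, 6, 5],
  [4, 2, 1, 6, 0, 4],
  [5, 2, 1, 6, 0, 4],
  [4, 2, 0, 7, 0, 4],
  [5, 2, 0, 7, 0, 4],
  [3, 7, 4, 0, 6, 4],
  [2, 7, 5, 0, 6, 4],
  [5, 0, 6, 0, 6, 4],
  [4, 2, 7, 0, 6, 4]]

end CfsgLib.Ext32
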