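import Cfsg.Agent.Lib.Ext32.Rels
import Cfsg.Agent.Lib.Ext32.TargetData

/-!
# The subgroup isomorphic to the alternating group of degree eight
-/

set_option autoImplicit false
set_option linter.unusedSectionVars false
set_option linter.style.haveILetI false
set_option maxRecDepth 100000
set_option maxHeartbeats 2000000

namespace CfsgLib.Ext32

open CfsgLib.J1Unique (PG pg toG toG_pg presModel wv wv_cons wv_nil)

universe u

theorem imgT_facts : ∀ x ∈ List.range 8, ∀ i : Fin 8,
    (imgT.getD x []).getD i.1 0 < 8 ∧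
    (imgT.getD (x ^^^ 1) []).getD ((imgT.getD x []).getD i.1 0) 0 = i.1 := by decide +kernel

/-- The image of a letter in the point set. -/
def img8 (x : ℕ) (i : Fin 8) : Fin 8 := Fin.ofNat 8 ((imgT.getD x []).getD i.1 0)

theorem img8_inv : ∀ x ∈ List.range 8, ∀ i : Fin 8, img8 (x ^^^ 1) (img8 x i) = i := by
  decide +kernel

theorem img8_inv' : ∀ x ∈ List.range 8, ∀ i : Fin 8, img8 x (img8 (x ^^^ 1) i) = i := by
  decide +kernel

/-- A letter as a permutation of eight points. -/
def l8 (x : ℕ) : Equiv.Perm (Fin 8) :=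
  if h : x < 8 then
    ⟨img8 x, img8 (x ^^^ 1), img8_inv x (List.mem_range.2 h), img8_inv' x (List.mem_range.2 h)⟩
  else 1

/-- The permutation of a word. -/
def ev8 : List ℕ → Equiv.Perm (Fin 8)
  | [] => 1
  | x :: w => l8 x * ev8 w

/-- The image of an element of the model. -/
def val8 (m : ℕ) : Equiv.Perm (Fin 8) := ev8 (wordsT.getD m [])

theorem words_ok : ∀ m ∈ els, evalW (wordsT.getD m []) = m ∧ ∀ x ∈ wordsT.getD m [], x < 4 := by
  decide +kernel

theorem val8_hom : ∀ x ∈ List.range 4, ∀ m ∈ els,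
    val8 (mulN 2 (genL.getD x 0) m) = l8 x * val8 m := by decide +kernel

theorem val8_inj : (∀ m ∈ els, val8 m = 1 → m = 0) ∧ val8 0 = 1 ∧
    ∀ x ∈ List.range 4, val8 (genL.getD x 0) = l8 x := by decide +kernel

theorem cert_facts : (∀ w ∈ Good.cert.rels, ∀ x ∈ w, x < Good.cert.g) ∧
    (∀ x < Good.cert.g, Good.cert.iv x < Good.cert.g ∧
      ([x, Good.cert.iv x] ∈ Good.cert.rels ∨ [Good.cert.iv x, x] ∈ Good.cert.rels)) ∧
    Good.cert.g = 8 ∧ Good.cert.n = 105 ∧ (∀ r ∈ Good.cert.subs, ∃ x ∈ List.range 4, r = [x]) := by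
  decide +kernel

theorem rels8 : ∀ w ∈ Good.cert.rels, (w.map l8).prod = 1 := by decide +kernel

theorem even8 : ∀ x ∈ List.range 8, Equiv.Perm.sign (l8 x) = 1 := by decide +kernel

theorem orbit_facts : orbitW.length = 105 ∧ (∀ w ∈ orbitW, ∀ x ∈ w, x < 8) ∧
    (orbitW.map fun w => List.ofFn fun i => (ev8 w * val8 tN * (ev8 w)⁻¹) i).Nodup := by
  decide +kernel

/-- The presented group. -/
abbrev P8 : Type := PG Good.cert.g Good.cert.rels

/-- The subgroup of the letters of the centralizer. -/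
noncomputable def sub8 : Subgroup P8 :=
  Subgroup.closure {q | ∃ x < 4, pg Good.cert.g Good.cert.rels x = q}

theorem index_sub8 : sub8.index ≤ 105 ∧ sub8.FiniteIndex := by
  obtain ⟨h, h'⟩ := PresCert.Cert.index_le (presModel Good.cert cert_facts.1 cert_facts.2.1 sub8
    (fun r hr => by
      obtain ⟨x, hx, rfl⟩ := cert_facts.2.2.2.2 r hr
      rw [wv_cons, wv_nil, mul_one]
      exact Subgroup.subset_closure ⟨x, List.mem_range.1 hx, rfl⟩)) Good.valid
  exact ⟨h.trans_eq cert_facts.2.2.2.1, h'⟩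

/-- The map onto the permutations. -/
noncomputable def toPerm : P8 →* Equiv.Perm (Fin 8) :=
  toG Good.cert.g Good.cert.rels l8 cert_facts.1 rels8

theorem toPerm_pg {x : ℕ} (hx : x < 8) : toPerm (pg Good.cert.g Good.cert.rels x) = l8 x :=
  toG_pg _ _ _ (cert_facts.2.2.1.symm ▸ hx)

theorem pg_gen : Subgroup.closure {q : P8 | ∃ x < 8, pg Good.cert.g Good.cert.rels x = q} = ⊤ := by
  rw [← CfsgLib.J1Unique.closure_pg (n := Good.cert.g) Good.cert.rels]
  congr 1

theorem toPerm_mem (q : P8) : toPerm q ∈ alternatingGroup (Fin 8) := by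
  have hle : (⊤ : Subgroup P8) ≤ (alternatingGroup (Fin 8)).comap toPerm := by
    rw [← pg_gen, Subgroup.closure_le]
    rintro _ ⟨x, hx, rfl⟩
    show toPerm _ ∈ alternatingGroup (Fin 8)
    rw [toPerm_pg hx, Equiv.Perm.mem_alternatingGroup]
    exact even8 x (List.mem_range.2 hx)
  exact hle (Subgroup.mem_top q)

theorem ev8_mem : ∀ {w : List ℕ}, (∀ x ∈ w, x < 8) → ev8 w ∈ toPerm.range
  | [], _ => one_mem _
  | x :: w, hw => mul_mem ⟨_, toPerm_pg (hw x (List.mem_cons_self ..))⟩
      (ev8_mem fun y hy => hw y (List.mem_cons_of_mem _ hy))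

/-- The code of a permutation. -/
def code8 (σ : Equiv.Perm (Fin 8)) : ℕ := (List.ofFn fun i => (σ i).1).foldl (fun a b => 8 * a + b) 0

theorem val8_codes : (els.map fun m => code8 (val8 m)).Nodup ∧
    ∀ m ∈ els, val8 m * val8 tN = val8 tN * val8 m := by decide +kernel

theorem val8_injective {m n : ℕ} (hm : m < 192) (hn : n < 192) (h : val8 m = val8 n) : m = n :=
  List.inj_on_of_nodup_map val8_codes.1 (mem_els hm) (mem_els hn) (congrArg code8 h)

theorem ev8_eval : ∀ {w : List ℕ}, (∀ x ∈ w, x < 4) → ev8 w = val8 (evalW w)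
  | [], _ => val8_inj.2.1.symm
  | x :: w, hw => by
    rw [ev8, ev8_eval fun y hy => hw y (List.mem_cons_of_mem _ hy), evalW,
      val8_hom x (List.mem_range.2 (hw x (List.mem_cons_self ..))) _ (mem_els (evalW_lt w))]

theorem toPerm_wv : ∀ {w : List ℕ}, (∀ x ∈ w, x < 8) →
    toPerm (wv (pg Good.cert.g Good.cert.rels) w) = ev8 w
  | [], _ => by rw [wv_nil, map_one]; rfl
  | x :: w, hw => by
    rw [wv_cons, map_mul, toPerm_pg (hw x (List.mem_cons_self ..)),
      toPerm_wv fun y hy => hw y (List.mem_cons_of_mem _ hy), ev8]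

theorem inv_pairs : ∀ x ∈ List.range 4, x ^^^ 1 < 4 ∧ [x, x ^^^ 1] ∈ Good.cert.rels ∨
    x ^^^ 1 < 4 ∧ [x ^^^ 1, x] ∈ Good.cert.rels := by decide +kernel

/-- The elements of the subgroup of the letters are given by words in them. -/
theorem sub8_word {q : P8} (hq : q ∈ sub8) :
    ∃ w : List ℕ, (∀ x ∈ w, x < 4) ∧ wv (pg Good.cert.g Good.cert.rels) w = q := by
  induction hq using Subgroup.closure_induction with
  | mem q hq =>
    obtain ⟨x, hx, rfl⟩ := hq
    exact ⟨[x], by simpa using hx, by rw [wv_cons, wv_nil, mul_one]⟩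
  | one => exact ⟨[], by simp, wv_nil _⟩
  | mul a b _ _ ha hb =>
    obtain ⟨v, hv, e1⟩ := ha
    obtain ⟨w, hw, e2⟩ := hb
    exact ⟨v ++ w, by simpa [or_imp, forall_and] using And.intro hv hw,
      by rw [CfsgLib.J1Unique.wv_append, e1, e2]⟩
  | inv a _ ha =>
    obtain ⟨w, hw, e0⟩ := ha
    rw [← e0]
    clear * - hw
    induction w with
    | nil => exact ⟨[], by simp, by rw [wv_nil, inv_one]⟩
    | cons x w ih =>
      obtain ⟨v, hv, e⟩ := ih fun y hy => hw y (List.mem_cons_of_mem _ hy)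
      have hx := hw x (List.mem_cons_self ..)
      have hy : x ^^^ 1 < 4 ∧
          pg Good.cert.g Good.cert.rels (x ^^^ 1) = (pg Good.cert.g Good.cert.rels x)⁻¹ := by
        rcases inv_pairs x (List.mem_range.2 hx) with ⟨h4, h⟩ | ⟨h4, h⟩ <;>
          have h' := CfsgLib.J1Unique.pg_rel (n := Good.cert.g) h <;>
          rw [wv_cons, wv_cons, wv_nil, mul_one] at h'
        · exact ⟨h4, eq_inv_of_mul_eq_one_right h'⟩
        · exact ⟨h4, eq_inv_of_mul_eq_one_left h'⟩
      refine ⟨v ++ [x ^^^ 1], fun y hy' => ?_, ?_⟩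
      · rcases List.mem_append.1 hy' with h | h
        · exact hv y h
        · rw [List.mem_singleton.1 h]; exact hy.1
      · rw [CfsgLib.J1Unique.wv_append, e, wv_cons, wv_nil, mul_one, hy.2, wv_cons, mul_inv_rev]

/-- The letters of the centralizer are the whole preimage of the centralizer. -/
theorem sub8_eq_aux : (∀ C : Subgroup P8,
    C = (Subgroup.centralizer ({val8 tN} : Set (Equiv.Perm (Fin 8)))).comap toPerm →
    sub8 = C ∧ C.index = 105) := by
  intro C hC
  have hle : sub8 ≤ C := by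
    rw [hC, sub8, Subgroup.closure_le]
    rintro _ ⟨x, hx, rfl⟩
    show toPerm _ ∈ Subgroup.centralizer _
    rw [toPerm_pg (by omega), Subgroup.mem_centralizer_singleton_iff]
    have : ∀ x ∈ List.range 4, l8 x * val8 tN = val8 tN * l8 x := by decide +kernel
    exact this x (List.mem_range.2 hx)
  haveI := index_sub8.2
  haveI : C.FiniteIndex := Subgroup.finiteIndex_of_le hle
  have h105 : 105 ≤ C.index := by
    obtain ⟨o1, o2, o3⟩ := orbit_facts
    choose f hf using fun (w : {w // w ∈ orbitW}) => ev8_mem (o2 w.1 w.2)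
    have hinj : Function.Injective fun w : {w // w ∈ orbitW} => (QuotientGroup.mk (f w) : P8 ⧸ C) := by
      intro a b h
      rw [QuotientGroup.eq, hC, Subgroup.mem_comap, map_mul, map_inv, hf, hf,
        Subgroup.mem_centralizer_singleton_iff] at h
      refine Subtype.ext (List.inj_on_of_nodup_map o3 a.2 b.2 ?_)
      refine congrArg List.ofFn (funext fun i => ?_)
      congr 1
      calc ev8 a.1 * val8 tN * (ev8 a.1)⁻¹
          = ev8 a.1 * (val8 tN * ((ev8 a.1)⁻¹ * ev8 b.1)) * (ev8 b.1)⁻¹ := by group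
        _ = ev8 b.1 * val8 tN * (ev8 b.1)⁻¹ := by rw [← h]; group
    have := Nat.card_le_card_of_injective _ hinj
    rw [Nat.card_eq_fintype_card, Fintype.card_of_subtype orbitW.toFinset
      (fun x => List.mem_toFinset), List.toFinset_card_of_nodup o3.of_map, o1] at this
    exact this
  have h4 := index_sub8.1
  have h5 := Subgroup.index_antitone hle
  refine ⟨le_antisymm hle ?_, by omega⟩
  by_contra hne
  have h1 := Subgroup.relIndex_mul_index hle
  have h3 := index_sub8.2.index_ne_zero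
  have h4 := index_sub8.1
  have h2 : sub8.relIndex C ≠ 1 := fun e => hne (Subgroup.relIndex_eq_one.1 e)
  rcases Nat.lt_or_gt_of_ne h2 with h | h
  · rw [Nat.lt_one_iff.1 h, zero_mul] at h1
    exact h3 h1.symm
  · have : 2 * 105 ≤ sub8.index := by rw [← h1]; exact Nat.mul_le_mul h h105
    omega

theorem sub8_eq :
    sub8 = (Subgroup.centralizer ({val8 tN} : Set (Equiv.Perm (Fin 8)))).comap toPerm :=
  (sub8_eq_aux _ rfl).1

theorem sub8_index : sub8.index = 105 := by
  obtain ⟨e, h⟩ := sub8_eq_aux _ rfl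
  rw [e, h]

theorem toPerm_range : toPerm.range = alternatingGroup (Fin 8) := by
  have hle : toPerm.range ≤ alternatingGroup (Fin 8) := by
    rintro _ ⟨q, rfl⟩; exact toPerm_mem q
  refine Subgroup.eq_of_le_of_card_ge hle ?_
  set Z := Subgroup.centralizer ({val8 tN} : Set (Equiv.Perm (Fin 8))) with hZ
  have h1 : Z.relIndex toPerm.range ≥ 105 := by
    rw [← Subgroup.index_comap, hZ, ← sub8_eq]
    exact sub8_index.ge
  have hmem : ∀ m : Fin 192,
      val8 m.1 ∈ (Z.subgroupOf toPerm.range).map toPerm.range.subtype := by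
    intro m
    obtain ⟨-, hw2⟩ := words_ok m.1 (mem_els m.2)
    have hr : val8 m.1 ∈ toPerm.range := ev8_mem fun x hx => lt_trans (hw2 x hx) (by norm_num)
    refine ⟨⟨_, hr⟩, ?_, rfl⟩
    show val8 m.1 ∈ Z
    rw [hZ, Subgroup.mem_centralizer_singleton_iff]
    exact val8_codes.2 m.1 (mem_els m.2)
  have h2 : 192 ≤ Nat.card (Z.subgroupOf toPerm.range) := by
    rw [Nat.card_congr ((Z.subgroupOf toPerm.range).equivMapOfInjective _
      toPerm.range.subtype_injective).toEquiv]
    refine le_of_eq_of_le (Nat.card_fin 192).symm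
      (Nat.card_le_card_of_injective (fun m : Fin 192 => (⟨_, hmem m⟩ :
        (Z.subgroupOf toPerm.range).map toPerm.range.subtype)) fun a b h => Fin.ext ?_)
    exact val8_injective a.2 b.2 (congrArg Subtype.val h)
  rw [nat_card_alternatingGroup, Nat.card_eq_fintype_card (α := Fin 8), Fintype.card_fin,
    ← (Z.subgroupOf toPerm.range).card_mul_index]
  exact le_trans (by norm_num [Nat.factorial]) (Nat.mul_le_mul h2 h1)

/-- The presented group on the alternating group. -/
noncomputable def toAlt : P8 →* alternatingGroup (Fin 8) := toPerm.codRestrict _ toPerm_mem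

theorem toAlt_surjective : Function.Surjective toAlt := by
  rintro ⟨σ, hσ⟩
  obtain ⟨q, rfl⟩ : σ ∈ toPerm.range := toPerm_range ▸ hσ
  exact ⟨q, rfl⟩

/-- The image of a word in the alternating group. -/
noncomputable def alt8 (w : List ℕ) : alternatingGroup (Fin 8) :=
  toAlt (wv (pg Good.cert.g Good.cert.rels) w)

variable {G : Type u} [Group G] [Finite G] {t : G}

namespace Cen

variable (D : Cen 2 t)
include D

variable {h k : G} (hh : D.Std h) (hk : (D.twist sndT_facts).Std k) (hhk : h * k = k * h)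
include hh hk hhk

/-- The map from the presented group. -/
noncomputable def phi8 : P8 →* G :=
  toG Good.cert.g Good.cert.rels (D.lets h k) cert_facts.1 (D.rels_hold hh hk hhk)

theorem phi8_wv : ∀ {w : List ℕ}, (∀ x ∈ w, x < 8) →
    D.phi8 hh hk hhk (wv (pg Good.cert.g Good.cert.rels) w) = wv (D.lets h k) w
  | [], _ => by rw [wv_nil, map_one, wv_nil]
  | x :: w, hw => by
    rw [wv_cons, map_mul, wv_cons, phi8_wv fun y hy => hw y (List.mem_cons_of_mem _ hy), phi8,
      toG_pg _ _ _ (cert_facts.2.2.1.symm ▸ hw x (List.mem_cons_self ..))]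

/-- The alternating group of degree eight embeds, containing the centralizer of `t` and the two
elements of order three. -/
theorem exists_a8 : ∃ ψ : alternatingGroup (Fin 8) →* G, Function.Injective ψ ∧
    ∀ w : List ℕ, (∀ x ∈ w, x < 8) → ψ (alt8 w) = wv (D.lets h k) w := by
  have hker : toAlt.ker ≤ (D.phi8 hh hk hhk).ker := by
    intro q hq
    have h1 : toPerm q = 1 := congrArg Subtype.val (MonoidHom.mem_ker.1 hq)
    have hqs : q ∈ sub8 := by
      rw [sub8_eq, Subgroup.mem_comap, h1]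
      exact one_mem _
    obtain ⟨w, hw, rfl⟩ := sub8_word hqs
    have hw8 : ∀ x ∈ w, x < 8 := fun x hx => lt_trans (hw x hx) (by norm_num)
    rw [toPerm_wv hw8, ev8_eval hw] at h1
    rw [MonoidHom.mem_ker, D.phi8_wv hh hk hhk hw8, D.wv_word h k hw,
      val8_inj.1 _ (mem_els (evalW_lt w)) h1, D.val_zero]
  set ψ := toAlt.liftOfRightInverse _ (Function.rightInverse_surjInv toAlt_surjective)
    ⟨D.phi8 hh hk hhk, hker⟩ with hψ
  have hval : ∀ w : List ℕ, (∀ x ∈ w, x < 8) → ψ (alt8 w) = wv (D.lets h k) w := fun w hw => by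
    rw [hψ, alt8, MonoidHom.liftOfRightInverse_comp_apply]
    exact D.phi8_wv hh hk hhk hw
  refine ⟨ψ, ?_, hval⟩
  haveI : IsSimpleGroup (alternatingGroup (Fin 8)) := alternatingGroup.isSimpleGroup (by simp)
  rw [← MonoidHom.ker_eq_bot_iff]
  refine ((inferInstance : ψ.ker.Normal).eq_bot_or_eq_top).resolve_right fun e => ?_
  have h4 : ψ (alt8 [4]) = 1 := MonoidHom.mem_ker.1 (e ▸ Subgroup.mem_top _)
  rw [hval [4] (by simp), wv_cons, wv_nil, mul_one] at h4
  have h5 : h = 1 := h4
  have h6 := hh.ht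
  rw [h5, one_mul, inv_one, mul_one] at h6
  exact absurd (D.val_inj _ _ D.t_lt D.v_lt (D.val_tau.trans h6)) (by decide)

end Cen

end CfsgLib.Ext32
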