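import Cfsg.Agent.Lib.Ext32.Target

/-!
# The frame of the centraliser of the second involution

In the case where the centraliser of `u = 84` modulo the four-group `{0, 84, 101, 185}` is not
soluble, it is `(V × A₅)` extended by the involution `42`.
-/

set_option autoImplicit false
set_option maxRecDepth 100000

namespace CfsgLib.Ext32

universe u

/-- the involution with the second centraliser -/
def uN : Nat := 84

/-- the involution extending the centraliser -/
def oN : Nat := 42

/-- the four-group centralised by the alternating group of degree five -/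
def vl4 : List Nat := [0, 84, 101, 185]

/-- The image of `180`. -/
def pA : alternatingGroup (Fin 5) :=
  ⟨Equiv.swap 0 1 * Equiv.swap 2 3, by rw [Equiv.Perm.mem_alternatingGroup]; decide⟩

/-- The image of `167`. -/
def pB : alternatingGroup (Fin 5) :=
  ⟨Equiv.swap 0 2 * Equiv.swap 1 3, by rw [Equiv.Perm.mem_alternatingGroup]; decide⟩

/-- The image of the element of order three fixing the four-group. -/
def pG : alternatingGroup (Fin 5) :=
  ⟨Equiv.swap 1 2 * Equiv.swap 2 3, by rw [Equiv.Perm.mem_alternatingGroup]; decide⟩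

/-- The action of `42`. -/
def theta (c : alternatingGroup (Fin 5)) : alternatingGroup (Fin 5) :=
  ⟨Equiv.swap 2 3 * c.1 * Equiv.swap 2 3, by
    have h := c.2
    rw [Equiv.Perm.mem_alternatingGroup] at h ⊢
    rw [map_mul, map_mul, h, mul_one, ← map_mul, Equiv.swap_mul_self, map_one]⟩

variable {G : Type u} [Group G] [Finite G] {t : G}

/-- The centraliser of `84` is `(V × A₅)` extended by `42`. -/
structure UFr (D : Cen 2 t) (h k : G) (ι : alternatingGroup (Fin 5) →* G) : Prop where
  inj : Function.Injective ι
  hA : ι pA = D.val 180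
  hB : ι pB = D.val 167
  hG : ι pG = h * k⁻¹
  comm : ∀ v ∈ vl4, ∀ c, D.val v * ι c = ι c * D.val v
  disjoint : ∀ v ∈ vl4, ∀ c, D.val v * ι c = 1 → v = 0 ∧ c = 1
  conj_o : ∀ c, D.val oN * ι c * (D.val oN)⁻¹ = ι (theta c)
  cover : ∀ x : G, x * D.val uN = D.val uN * x →
    ∃ v ∈ vl4, ∃ c, ∃ j < 2, x = D.val v * ι c * D.val oN ^ j

end CfsgLib.Ext32
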